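import Cfsg.Agent.Lib.Involution.AltCentClasses.Model

/-!
# The centralizer of an involution of full support in an alternating group of degree `4n + r`
-/

set_option autoImplicit false

namespace CfsgLib.Involution.AltCentClasses

open Equiv

theorem exists_small (r : ℕ) (hr : r = 2 ∨ r = 3) :
    ∃ ρ0 : Perm (Fin r), Perm.sign ρ0 = -1 ∧ ρ0 * ρ0 = 1 ∧
      (∀ ρ : Perm (Fin r), Perm.sign ρ = 1 → ρ0 * ρ * ρ0⁻¹ = ρ⁻¹) ∧
      (∀ ρ : Perm (Fin r), Perm.sign ρ = 1 → ρ ^ 3 = 1) := by
  rcases hr with rfl | rfl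
  · exact ⟨Equiv.swap 0 1, by decide, by decide, by decide, by decide⟩
  · exact ⟨Equiv.swap 0 1, by decide, by decide, by decide, by decide⟩

theorem odd_card_of_pow_three {K : Type*} [Group K] [Finite K] (h : ∀ x : K, x ^ 3 = 1) :
    Odd (Nat.card K) := by
  rw [← Nat.not_even_iff_odd, even_iff_two_dvd]
  intro h2
  haveI : Fact (Nat.Prime 2) := ⟨Nat.prime_two⟩
  obtain ⟨x, hx⟩ := exists_prime_orderOf_dvd_card' 2 h2
  have := orderOf_dvd_of_pow_eq_one (h x)
  rw [hx] at this
  omega

theorem exists_data (n r : ℕ) (hr : r = 2 ∨ r = 3)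
    (α : alternatingGroup (Fin (4 * n + r))) (hα : orderOf α = 2)
    (hα4 : (α : Perm (Fin (4 * n + r))).support.card = 4 * n) :
    ∃ (φ : SP (Fin (2 * n)) →* Subgroup.centralizer ({α} : Set (alternatingGroup (Fin (4 * n + r)))))
      (π : Subgroup.centralizer ({α} : Set (alternatingGroup (Fin (4 * n + r)))) →* SP (Fin (2 * n))),
      ((φ (SP.neg _) : alternatingGroup (Fin (4 * n + r))) = α) ∧ (∀ w, π (φ w) = w) ∧
      Odd (Nat.card π.ker) ∧
      ∀ c, π c = 1 → ∀ w, φ w * c * (φ w)⁻¹ = if SP.par w = 0 then c else c⁻¹ := by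
  classical
  obtain ⟨ρ0, hρs, hρ2, hρinv, hρ3⟩ := exists_small r hr
  let ρh : SP (Fin (2 * n)) →* Perm (Fin r) :=
    { toFun := fun w => if SP.par w = 0 then 1 else ρ0
      map_one' := by simp [SP.par_one]
      map_mul' := fun a b => by
        have h2 : ∀ z : ZMod 2, z = 0 ∨ z = 1 := by decide
        rw [SP.par_mul]
        rcases h2 (SP.par a) with ha | ha <;> rcases h2 (SP.par b) with hb | hb <;>
          simp [ha, hb, hρ2, show (1 : ZMod 2) + 1 = 0 by decide] }
  let φΩ : SP (Fin (2 * n)) →* Perm ((Fin (2 * n) × ZMod 2) ⊕ Fin r) :=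
    { toFun := fun w => Equiv.sumCongr (SP.perm w) (ρh w)
      map_one' := by rw [map_one, map_one]; exact Equiv.ext fun x => by cases x <;> rfl
      map_mul' := fun a b => by
        rw [map_mul, map_mul]; exact Equiv.ext fun x => by cases x <;> rfl }
  have φΩ_inl : ∀ w q, φΩ w (Sum.inl q) = Sum.inl (SP.perm w q) := fun _ _ => rfl
  have φΩ_inr : ∀ w y, φΩ w (Sum.inr y) = Sum.inr (ρh w y) := fun _ _ => rfl
  have hsign : ∀ w, Perm.sign (φΩ w) = 1 := fun w => by
    show Perm.sign (Equiv.sumCongr (SP.perm w) (ρh w)) = 1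
    rw [Perm.sign_sumCongr, SP.sign_perm]
    show _ * Perm.sign (if SP.par w = 0 then 1 else ρ0) = 1
    split_ifs <;> simp [hρs]
  set α0 := φΩ (SP.neg _) with hα0
  have hpar0 : SP.par (SP.neg (Fin (2 * n))) = 0 := by
    rw [SP.par_neg, Fintype.card_fin, ZMod.natCast_eq_zero_iff_even]
    exact even_two_mul n
  have hρneg : ρh (SP.neg _) = 1 := by
    show (if SP.par (SP.neg (Fin (2 * n))) = 0 then 1 else ρ0) = 1
    rw [if_pos hpar0]
  have α0_inl : ∀ q, α0 (Sum.inl q) = Sum.inl (q.1, q.2 + 1) := fun q => rfl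
  have α0_inr : ∀ y, α0 (Sum.inr y) = Sum.inr y := fun y => by
    rw [hα0, φΩ_inr, hρneg]; rfl
  have α0_ne : ∀ q, α0 (Sum.inl q) ≠ Sum.inl q := fun q h => by
    rw [α0_inl] at h
    simpa using congrArg Prod.snd (Sum.inl.inj h)
  -- a labelling carrying `α0` to `α`
  have hcard : Fintype.card ((Fin (2 * n) × ZMod 2) ⊕ Fin r) = 4 * n + r := by
    simp; ring
  let e0 := Fintype.equivFinOfCardEq hcard
  have hn0 : n ≠ 0 := by
    intro h0
    have h1 : (α : Perm (Fin (4 * n + r))) = 1 :=
      Perm.support_eq_empty_iff.1 (Finset.card_eq_zero.1 (by rw [hα4, h0]))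
    have h2 : α = 1 := Subtype.ext h1
    rw [h2, orderOf_one] at hα
    omega
  have hsupp : (e0.permCongr α0).support.card = 4 * n := by
    have hset : (e0.permCongr α0).support =
        (Finset.univ : Finset (Fin (2 * n) × ZMod 2)).map
          ⟨fun q => e0 (Sum.inl q), e0.injective.comp Sum.inl_injective⟩ := by
      ext x
      obtain ⟨y, rfl⟩ := e0.surjective x
      simp only [Perm.mem_support, Equiv.permCongr_apply, Equiv.symm_apply_apply, ne_eq,
        e0.injective.eq_iff, Finset.mem_map, Finset.mem_univ, true_and, Function.Embedding.coeFn_mk]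
      rcases y with q | y
      · exact ⟨fun _ => ⟨q, rfl⟩, fun _ => α0_ne q⟩
      · refine ⟨fun h => absurd (α0_inr y) h, fun ⟨q, hq⟩ => by simp at hq⟩
    rw [hset, Finset.card_map, Finset.card_univ]
    simp; ring
  have hperm_ord : orderOf (e0.permCongr α0) = 2 := by
    refine orderOf_eq_prime ?_ ?_
    · refine Equiv.ext fun x => ?_
      obtain ⟨y, rfl⟩ := e0.surjective x
      rcases y with q | y
      · simp [sq, α0_inl, add_assoc, show (1 : ZMod 2) + 1 = 0 by decide]
      · simp [sq, α0_inr]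
    · intro h
      rw [h] at hsupp
      simp at hsupp
      omega
  have hα' : orderOf (α : Perm (Fin (4 * n + r))) = 2 := by rw [Subgroup.orderOf_coe]; exact hα
  have hconj : IsConj (e0.permCongr α0) (α : Perm (Fin (4 * n + r))) := by
    rw [Perm.isConj_iff_cycleType_eq]
    obtain ⟨k1, hk1⟩ := Perm.cycleType_prime_order (σ := e0.permCongr α0)
      (by rw [hperm_ord]; exact Nat.prime_two)
    obtain ⟨k2, hk2⟩ := Perm.cycleType_prime_order (σ := (α : Perm (Fin (4 * n + r))))
      (by rw [hα']; exact Nat.prime_two)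
    rw [hperm_ord] at hk1
    rw [hα'] at hk2
    have h1 := Perm.sum_cycleType (e0.permCongr α0)
    have h2 := Perm.sum_cycleType (α : Perm (Fin (4 * n + r)))
    rw [hk1, hsupp, Multiset.sum_replicate, smul_eq_mul] at h1
    rw [hk2, hα4, Multiset.sum_replicate, smul_eq_mul] at h2
    rw [hk1, hk2, show k1 = k2 by omega]
  obtain ⟨τ, hτ⟩ := isConj_iff.1 hconj
  let e := e0.trans τ
  have heα : ∀ x, (α : Perm (Fin (4 * n + r))) (e x) = e (α0 x) := fun x => by
    rw [← hτ]
    simp [e]
  have hmem : ∀ w, e.permCongr (φΩ w) ∈ alternatingGroup (Fin (4 * n + r)) := fun w => by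
    rw [Perm.mem_alternatingGroup, Perm.sign_permCongr, hsign]
  let φA : SP (Fin (2 * n)) →* alternatingGroup (Fin (4 * n + r)) :=
    { toFun := fun w => ⟨e.permCongr (φΩ w), hmem w⟩
      map_one' := Subtype.ext (Equiv.ext fun x => by simp)
      map_mul' := fun a b => Subtype.ext (Equiv.ext fun x => by simp) }
  have φA_apply : ∀ w x, (φA w : Perm (Fin (4 * n + r))) (e x) = e (φΩ w x) := fun w x => by
    show e.permCongr (φΩ w) (e x) = _
    simp
  have hφneg : φA (SP.neg _) = α := Subtype.ext (Equiv.ext fun z => by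
    obtain ⟨x, rfl⟩ := e.surjective z
    rw [φA_apply, heα])
  have hφc : ∀ w, φA w ∈ Subgroup.centralizer ({α} : Set (alternatingGroup (Fin (4 * n + r)))) :=
    fun w => Subgroup.mem_centralizer_singleton_iff.2 (by
      rw [← hφneg, ← map_mul, ← map_mul, (SP.neg_commute w).eq])
  let φ := φA.codRestrict _ hφc
  -- the restriction
  have hrestr : ∀ x : Subgroup.centralizer ({α} : Set (alternatingGroup (Fin (4 * n + r)))),
      ∃ v : SP (Fin (2 * n)), ∀ q, (x : Perm (Fin (4 * n + r))) (e (Sum.inl q)) =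
        e (Sum.inl (SP.perm v q)) := by
    intro x
    have hcomm : ∀ z, (x : Perm (Fin (4 * n + r))) ((α : Perm (Fin (4 * n + r))) z) =
        (α : Perm (Fin (4 * n + r))) ((x : Perm (Fin (4 * n + r))) z) := fun z => by
      have := Subgroup.mem_centralizer_singleton_iff.1 x.2
      exact Equiv.congr_fun (congrArg Subtype.val this) z
    have hL : ∀ q, ∃ q', (x : Perm (Fin (4 * n + r))) (e (Sum.inl q)) = e (Sum.inl q') := by
      intro q
      obtain ⟨y, hy⟩ := e.surjective ((x : Perm (Fin (4 * n + r))) (e (Sum.inl q)))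
      rcases y with q' | y
      · exact ⟨q', hy.symm⟩
      · exfalso
        refine α0_ne q (e.injective ((x : Perm (Fin (4 * n + r))).injective ?_))
        rw [← heα, hcomm, ← hy, heα, α0_inr]
    choose xx hxx using hL
    have hinj : Function.Injective xx := fun q q' h => by
      have : (x : Perm (Fin (4 * n + r))) (e (Sum.inl q)) =
          (x : Perm (Fin (4 * n + r))) (e (Sum.inl q')) := by rw [hxx, hxx, h]
      simpa using this
    have hflip : ∀ q : Fin (2 * n) × ZMod 2, xx (q.1, q.2 + 1) = ((xx q).1, (xx q).2 + 1) := by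
      intro q
      have : e (Sum.inl (xx (q.1, q.2 + 1))) = e (Sum.inl ((xx q).1, (xx q).2 + 1)) := by
        rw [← hxx, ← α0_inl, ← α0_inl, ← heα, hcomm, hxx, heα]
      simpa using this
    obtain ⟨v, hv⟩ := SP.exists_perm_eq xx hinj hflip
    exact ⟨v, fun q => by rw [hxx, hv]⟩
  choose πf hπf using hrestr
  have huniq : ∀ x v, (∀ q, (x : Perm (Fin (4 * n + r))) (e (Sum.inl q)) =
      e (Sum.inl (SP.perm v q))) → ∀ y : Subgroup.centralizer
        ({α} : Set (alternatingGroup (Fin (4 * n + r)))), (y : Perm (Fin (4 * n + r))) = x →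
      πf y = v := fun x v hv y hy => SP.perm_injective (Equiv.ext fun q => by
    have h1 := hπf y q
    rw [hy, hv q] at h1
    exact (Sum.inl.inj (e.injective h1)).symm)
  let π : Subgroup.centralizer ({α} : Set (alternatingGroup (Fin (4 * n + r)))) →*
      SP (Fin (2 * n)) :=
    { toFun := πf
      map_one' := huniq 1 1 (fun q => by simp) _ rfl
      map_mul' := fun x y => huniq ((x : Perm (Fin (4 * n + r))) * y) (πf x * πf y) (fun q => by
        rw [map_mul, Perm.mul_apply, hπf, hπf, Perm.mul_apply]) _ rfl }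
  have hπφ : ∀ w, π (φ w) = w := fun w =>
    huniq (φA w : Perm (Fin (4 * n + r))) w (fun q => φA_apply w (Sum.inl q)) _ rfl
  -- the kernel
  have hker : ∀ c, π c = 1 → ∃ ρ : Perm (Fin r), Perm.sign ρ = 1 ∧
      (∀ q, (c : Perm (Fin (4 * n + r))) (e (Sum.inl q)) = e (Sum.inl q)) ∧
      ∀ y, (c : Perm (Fin (4 * n + r))) (e (Sum.inr y)) = e (Sum.inr (ρ y)) := by
    intro c hc
    have hfix : ∀ q, (c : Perm (Fin (4 * n + r))) (e (Sum.inl q)) = e (Sum.inl q) := fun q => by
      rw [hπf c q, show πf c = 1 from hc, map_one]; rfl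
    set σ := e.symm.permCongr (c : Perm (Fin (4 * n + r))) with hσ
    have hσl : ∀ q, σ (Sum.inl q) = Sum.inl q := fun q => by simp [hσ, hfix]
    obtain ⟨⟨σ1, σ2⟩, h12⟩ := Perm.mem_sumCongrHom_range_of_perm_mapsTo_inl (σ := σ)
      (by rintro _ ⟨q, rfl⟩; exact ⟨q, (hσl q).symm⟩)
    have h1 : σ1 = 1 := Equiv.ext fun q => by
      have := Equiv.congr_fun h12 (Sum.inl q)
      rw [hσl] at this
      simpa [Perm.sumCongrHom] using this
    refine ⟨σ2, ?_, hfix, fun y => ?_⟩
    · have hs : Perm.sign σ = 1 := by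
        rw [hσ, Perm.sign_permCongr]; exact c.1.2
      rw [← h12, Perm.sumCongrHom] at hs
      simpa [h1] using hs
    · have := congrArg e (Equiv.congr_fun h12 (Sum.inr y))
      simpa [Perm.sumCongrHom, hσ] using this.symm
  refine ⟨φ, π, hφneg, hπφ, odd_card_of_pow_three fun x => ?_, fun c hc w => ?_⟩
  · obtain ⟨ρ, hρ, hl, hr'⟩ := hker x.1 x.2
    refine Subtype.ext (Subtype.ext (Subtype.ext (Equiv.ext fun z => ?_)))
    obtain ⟨y, rfl⟩ := e.surjective z
    rcases y with q | y
    · simp [pow_succ, hl]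
    · have h3 := Equiv.congr_fun (hρ3 ρ hρ) y
      simp [pow_succ] at h3
      simp [pow_succ, hr', h3]
  · obtain ⟨ρ, hρ, hl, hr'⟩ := hker c hc
    rw [mul_inv_eq_iff_eq_mul]
    refine Subtype.ext (Subtype.ext (Equiv.ext fun z => ?_))
    obtain ⟨y, rfl⟩ := e.surjective z
    by_cases hw : SP.par w = 0
    · rw [if_pos hw]
      rcases y with q | y
      · simp [φ, φA_apply, hl, φΩ_inl]
      · have hρw : ρh w = 1 := by
          show (if SP.par w = 0 then 1 else ρ0) = 1
          rw [if_pos hw]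
        simp [φ, φA_apply, hr', φΩ_inr, hρw]
    · rw [if_neg hw]
      have hl' : ∀ q, ((c : Perm (Fin (4 * n + r)))⁻¹) (e (Sum.inl q)) = e (Sum.inl q) :=
        fun q => by rw [Perm.inv_eq_iff_eq, hl]
      have hr'' : ∀ y, ((c : Perm (Fin (4 * n + r)))⁻¹) (e (Sum.inr y)) = e (Sum.inr (ρ⁻¹ y)) :=
        fun y => by rw [Perm.inv_eq_iff_eq, hr']; simp
      rcases y with q | y
      · simp only [Subgroup.coe_mul, Subgroup.coe_inv, Perm.mul_apply, φ,
          MonoidHom.codRestrict_apply, φA_apply, hl, hl', φΩ_inl]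
      · have hρw : ρh w = ρ0 := by
          show (if SP.par w = 0 then 1 else ρ0) = ρ0
          rw [if_neg hw]
        have h4 := Equiv.congr_fun (mul_inv_eq_iff_eq_mul.1 (hρinv ρ hρ)) y
        simp only [Perm.mul_apply] at h4
        simp only [Subgroup.coe_mul, Subgroup.coe_inv, Perm.mul_apply, φ,
          MonoidHom.codRestrict_apply, φA_apply, hr', hr'', φΩ_inr, hρw, h4]

end CfsgLib.Involution.AltCentClasses
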