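import Cfsg.Agent.Lib.Involution.AltCentClasses.Partner

/-!
# A fusion preserving automorphism of the centralizer of a transposition
-/

set_option autoImplicit false

namespace CfsgLib.Involution.AltCentClasses

open Subgroup

theorem numeric {k a b b' c' : ℕ} (hk0 : 0 < k) (hk : Even k) (hbk : b ≤ k)
    (hodd : Odd (k.choose b)) (ha : 0 < a) (hsum : 2 * a + b' + c' = k + 2)
    (hX : a.factorial * b'.factorial * c'.factorial = b.factorial * (k - b).factorial) :
    (a = 1 ∨ a = 2) ∧ Even b' ∧ Even c' := by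
  have hC : k.choose b * b.factorial * (k - b).factorial = k.factorial :=
    Nat.choose_mul_factorial_mul_factorial hbk
  rw [mul_assoc, ← hX] at hC
  have hXpos : 0 < a.factorial * b'.factorial * c'.factorial := by positivity
  obtain ⟨C, hCdef⟩ : ∃ C, C = k.choose b := ⟨_, rfl⟩
  rw [← hCdef] at hC hodd
  have hnot : ¬ Even C := Nat.not_even_iff_odd.2 hodd
  have ha2 : a ≤ 2 := by
    by_contra h3
    have h1 : a.factorial * b'.factorial * c'.factorial ∣ (k - 1).factorial :=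
      ((mul_dvd_mul_right (Nat.factorial_mul_factorial_dvd_factorial_add a b') _).trans
        (Nat.factorial_mul_factorial_dvd_factorial_add (a + b') c')).trans
        (Nat.factorial_dvd_factorial (by omega))
    obtain ⟨d, hd⟩ := h1
    have h2 : k.factorial = k * (k - 1).factorial := (Nat.mul_factorial_pred (by omega)).symm
    rw [h2, hd] at hC
    have h3 : a.factorial * b'.factorial * c'.factorial * C =
        a.factorial * b'.factorial * c'.factorial * (k * d) := by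
      rw [mul_comm _ C, hC]; ring
    exact hnot (Nat.eq_of_mul_eq_mul_left hXpos h3 ▸ hk.mul_right d)
  have hb' : Even b' := by
    by_contra hb'
    have hev : Even (b' + c') := by
      obtain ⟨l, hl⟩ := hk
      exact ⟨l + 1 - a, by omega⟩
    have hch : Even ((b' + c').choose b') := even_choose_of_odd hev (Nat.not_even_iff_odd.1 hb')
    rw [Nat.choose_symm_add] at hch
    have hch' : (b' + c').choose c' * b'.factorial * c'.factorial = (b' + c').factorial :=
      Nat.add_choose_mul_factorial_mul_factorial b' c'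
    obtain ⟨u, hu⟩ := hch
    obtain ⟨v, hv⟩ : ∃ v, k.factorial = a.factorial * (b' + c').factorial * v := by
      obtain rfl | rfl : a = 1 ∨ a = 2 := by omega
      · rw [Nat.factorial_one, one_mul, show b' + c' = k by omega]
        exact ⟨1, (mul_one _).symm⟩
      · rw [show b' + c' = k - 2 by omega]
        exact Nat.factorial_mul_factorial_dvd_factorial (by omega)
    rw [hv, ← hch', hu] at hC
    have h3 : a.factorial * b'.factorial * c'.factorial * C =
        a.factorial * b'.factorial * c'.factorial * ((u + u) * v) := by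
      rw [mul_comm _ C, hC]; ring
    exact hnot (Nat.eq_of_mul_eq_mul_left hXpos h3 ▸ ⟨u * v, by ring⟩)
  refine ⟨by omega, hb', ?_⟩
  obtain ⟨l, hl⟩ := hk
  obtain ⟨l', hl'⟩ := hb'
  exact ⟨l + 1 - a - l', by omega⟩

theorem numeric_zero {k b : ℕ} (hk0 : 0 < k) (hbk : b ≤ k)
    (hX : (k + 1).factorial = b.factorial * (k - b).factorial) : False := by
  have h1 : b.factorial * (k - b).factorial ≤ k.factorial :=
    Nat.le_of_dvd (Nat.factorial_pos k) (Nat.factorial_mul_factorial_dvd_factorial hbk)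
  have h2 : k.factorial < (k + 1).factorial := Nat.factorial_lt_of_lt hk0 (Nat.lt_succ_self k)
  omega

namespace Setup

variable {G : Type*} [Group G] {ι : Type*} [Fintype ι] [DecidableEq ι] (D : Setup G ι) [Finite G]

theorem isConj_vec_of_conj (v : SP ι) (u : SP ι) : IsConj (D.φ u) (D.φ (v * u * v⁻¹)) :=
  isConj_iff.2 ⟨D.φ v, by rw [map_mul, map_mul, map_inv]⟩

theorem vec_conj_iff (hD : D.Good) {f : ι → ZMod 2} (h : IsConj D.t (D.φ (SP.ofF f))) :
    f = 1 ∨ ∃ i, f = 1 + SP.e i := by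
  obtain ⟨g, hg⟩ := isConj_iff.1 h
  obtain ⟨k, hk, hk'⟩ := D.fusion hD (g := g) (f := 1) (f' := f) (by rw [D.vec_one, hg]; rfl)
  exact hD f ⟨k, hk, hk'⟩

/-- The data of a swap of the involution with a conjugate outside `E`, in normal form. -/
theorem exists_aut (hD : D.Good) {i0 j0 : ι} (hij : i0 ≠ j0) (h4 : 4 ≤ Fintype.card ι) :
    ∃ ψ : SP.L i0 j0 ≃* SP.L i0 j0,
      (∀ v : SP.L i0 j0, (v : SP ι) = SP.ofF (SP.e i0 + SP.e j0) → (ψ v : SP ι).p i0 = j0) ∧
      ∀ v : SP.L i0 j0, v * v = 1 → IsConj (D.φ (v : SP ι)) (D.φ (ψ v : SP ι)) := by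
  classical
  have h2 : ∀ z : ZMod 2, z = 0 ∨ z = 1 := by decide
  obtain ⟨f, hfi, hfj, hbe, hbo, hconj⟩ := D.exists_partner hD hij
  set σ0 := Equiv.swap i0 j0 with hσ0
  set w : SP ι := ⟨f, σ0⟩ with hwdef
  set B : Finset ι := Finset.univ.filter fun x => f x = 1 with hB
  have hBmem : ∀ x, x ∈ B ↔ f x = 1 := fun x => by simp [hB]
  set b := B.card with hb
  obtain ⟨k, hk⟩ : ∃ k, Fintype.card ι = k + 2 := ⟨Fintype.card ι - 2, by omega⟩
  have hkeven : Even k := by
    obtain ⟨l, hl⟩ := D.even_card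
    exact ⟨l - 1, by omega⟩
  have hk2 : 2 ≤ k := by omega
  rw [show Fintype.card ι - 2 = k by omega] at hbo
  have hBpair : ∀ x ∈ B, x ≠ i0 ∧ x ≠ j0 := fun x hx => by
    rw [hBmem] at hx
    constructor <;> rintro rfl
    · rw [hfi] at hx; exact zero_ne_one hx
    · rw [hfj] at hx; exact zero_ne_one hx
  have hwfix : ∀ x, x ≠ i0 → x ≠ j0 → w.p x = x := fun x hx hy =>
    Equiv.swap_apply_of_ne_of_ne hx hy
  have hwmoved : ∀ x, w.p x ≠ x ↔ x = i0 ∨ x = j0 := fun x =>
    Equiv.swap_apply_ne_self_iff.trans (and_iff_right hij)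
  have hw2 : w * w = 1 := by
    refine (SP.sq_iff w).2 ⟨Equiv.swap_mul_self _ _, fun x => ?_⟩
    show f (σ0 x) = f x
    rw [congrFun (comp_swap f i0 j0) x, hfi, hfj, add_zero, zero_smul, add_zero]
  -- the standard form of `w`
  obtain ⟨aw, bw, cw, ⟨S⟩⟩ := SP.exists_std w hw2
  have haw : aw = 1 := by
    have h := S.card_moved
    rw [Nat.card_congr (Equiv.subtypeEquivRight hwmoved), Nat.card_eq_fintype_card,
      Fintype.card_subtype, show (Finset.univ.filter fun x => x = i0 ∨ x = j0) = {i0, j0} from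
        Finset.ext fun x => by simp, Finset.card_pair hij] at h
    omega
  have hbw : bw = b := by
    have h := S.card_one
    have hiff : ∀ x, (w.p x = x ∧ w.f x = 1) ↔ x ∈ B := fun x =>
      ⟨fun hx => (hBmem x).2 hx.2,
        fun hx => ⟨hwfix x (hBpair x hx).1 (hBpair x hx).2, (hBmem x).1 hx⟩⟩
    rw [Nat.card_congr (Equiv.subtypeEquivRight hiff), Nat.card_eq_fintype_card,
      Fintype.card_coe] at h
    omega
  have hcw : cw = k - b ∧ b ≤ k := by
    have h := S.card_eq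
    rw [Nat.card_eq_fintype_card, haw, hbw, hk] at h
    omega
  have hcentw : Nat.card (centralizer ({w} : Set (SP ι))) =
      2 ^ Nat.card ι * (b.factorial * (k - b).factorial) := by
    rw [S.card_centralizer hw2, haw, hbw, hcw.1, Nat.factorial_one, one_mul]
  -- the partner
  obtain ⟨g0, hg0⟩ : ∃ g, g * D.φ w * g⁻¹ = D.t := isConj_iff.1 hconj.symm
  have hwneg : D.φ w ≠ D.t := fun h => by
    rw [← D.φ_neg] at h
    have := Equiv.congr_fun (congrArg SP.p (D.φ_inj h)) i0
    simp [hwdef, hσ0, SP.neg] at this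
    exact hij this.symm
  have hxC : g0 * D.t * g0⁻¹ ∈ D.Ct := by
    refine mem_centralizer_singleton_iff.2 ?_
    have h := mem_centralizer_singleton_iff.1 (D.φ_mem w)
    calc g0 * D.t * g0⁻¹ * D.t = g0 * D.t * g0⁻¹ * (g0 * D.φ w * g0⁻¹) := by rw [hg0]
      _ = g0 * (D.t * D.φ w) * g0⁻¹ := by group
      _ = g0 * (D.φ w * D.t) * g0⁻¹ := by rw [h]
      _ = g0 * D.φ w * g0⁻¹ * (g0 * D.t * g0⁻¹) := by group
      _ = D.t * (g0 * D.t * g0⁻¹) := by rw [hg0]
  have hx2 : g0 * D.t * g0⁻¹ * (g0 * D.t * g0⁻¹) = 1 := by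
    calc _ = g0 * (D.t * D.t) * g0⁻¹ := by group
      _ = 1 := by rw [D.t_sq]; group
  obtain ⟨c, -, hc⟩ := D.cent_involution hxC hx2
  obtain ⟨v0, hv0⟩ := SP.exists_normal_form (D.pr _ hxC) (by
    have h1 : (⟨_, hxC⟩ : D.Ct) * ⟨_, hxC⟩ = 1 := Subtype.ext hx2
    have h3 := congrArg D.π h1
    rwa [map_mul, map_one] at h3)
  set w' := v0 * D.pr _ hxC * v0⁻¹ with hw'def
  set g1 := D.φ v0 * (c : G) * g0 with hg1
  have hcomm_t : ∀ x ∈ D.Ct, x * D.t * x⁻¹ = D.t := fun x hx => by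
    rw [mem_centralizer_singleton_iff.1 hx, mul_inv_cancel_right]
  have h1 : g1 * D.φ w * g1⁻¹ = D.t := by
    calc g1 * D.φ w * g1⁻¹ = (D.φ v0 * c) * (g0 * D.φ w * g0⁻¹) * (D.φ v0 * c)⁻¹ := by
          rw [hg1]; group
      _ = D.t := by rw [hg0]; exact hcomm_t _ (mul_mem (D.φ_mem v0) c.2)
  have h1' : g1 * D.t * g1⁻¹ = D.φ w' := by
    calc g1 * D.t * g1⁻¹ = D.φ v0 * ((c : G) * (g0 * D.t * g0⁻¹) * (c : G)⁻¹) * (D.φ v0)⁻¹ := by
          rw [hg1]; group
      _ = D.φ w' := by rw [hc, hw'def, map_mul, map_mul, map_inv]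
  have hw'2 : w' * w' = 1 := D.φ_inj (by
    rw [map_mul, ← h1', map_one]
    calc _ = g1 * (D.t * D.t) * g1⁻¹ := by group
      _ = 1 := by rw [D.t_sq]; group)
  have hw'neg : w' ≠ SP.neg ι := fun h => hwneg (by
    rw [h, D.φ_neg] at h1'
    exact mul_left_cancel (mul_right_cancel (h1.trans h1'.symm)))
  have hnf : ∀ i, w'.p i ≠ i → w'.f i = 0 := hv0
  obtain ⟨ψ, hψw, hψneg, hψfus⟩ := D.exists_swap_iso h1 h1' hw2 hw'2
  obtain ⟨a, b', c', ⟨S'⟩⟩ := SP.exists_std w' hw'2
  have hX : a.factorial * b'.factorial * c'.factorial = b.factorial * (k - b).factorial := by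
    have h := Nat.card_congr ψ.toEquiv
    rw [hcentw, S'.card_centralizer hw'2] at h
    exact (Nat.eq_of_mul_eq_mul_left (by positivity) h).symm
  have hsum : 2 * a + b' + c' = k + 2 := by
    rw [S'.card_eq, Nat.card_eq_fintype_card, hk]
  have hconjt : IsConj D.t (D.φ w') := isConj_iff.2 ⟨g1, h1'⟩
  have ha : 0 < a := by
    by_contra ha0
    obtain rfl : a = 0 := by omega
    have hp : w'.p = 1 := Equiv.ext fun i => by
      obtain ⟨q, rfl⟩ := S'.E.surjective i
      rcases q with ⟨x, _⟩ | y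
      · exact x.elim0
      · exact S'.fix y
    rcases D.vec_conj_iff hD (SP.eq_ofF hp ▸ hconjt) with h | ⟨i, hi⟩
    · exact hw'neg ((SP.eq_ofF hp).trans (by rw [h]; rfl))
    · have hb' : b' = k + 1 := by
        have h := S'.card_one
        have hiff : ∀ x, (w'.p x = x ∧ w'.f x = 1) ↔ x ∈ Finset.univ.erase i := fun x => by
          rw [hp, hi]
          simp [SP.e_apply]
        rw [Nat.card_congr (Equiv.subtypeEquivRight hiff), Nat.card_eq_fintype_card,
          Fintype.card_coe, Finset.card_erase_of_mem (Finset.mem_univ i), Finset.card_univ] at h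
        omega
      rw [hb', show c' = 1 by omega] at hX
      exact numeric_zero (by omega) hcw.2 (by simpa using hX)
  obtain ⟨ha12, hb'e, hc'e⟩ := numeric (by omega) hkeven hcw.2 hbo ha hsum hX
  -- the element `w` inside its centralizer, and the swap homomorphism on it
  have hwcent : ∀ v, v ∈ centralizer ({w} : Set (SP ι)) →
      (v.p i0 = i0 ∨ v.p i0 = j0) ∧ (v.p j0 = i0 ∨ v.p j0 = j0) := by
    intro v hv
    have h3 : ∀ x, w.p (v.p x) = v.p (w.p x) := fun x =>
      (Equiv.congr_fun ((SP.commute_iff v w).1 (SP.mem_cent_iff.1 hv)).1 x).symm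
    have h5 : ∀ x, w.p x ≠ x → v.p x = i0 ∨ v.p x = j0 := fun x hx =>
      (hwmoved _).1 (by rw [h3]; exact fun h => hx (v.p.injective h))
    exact ⟨h5 i0 ((hwmoved i0).2 (Or.inl rfl)), h5 j0 ((hwmoved j0).2 (Or.inr rfl))⟩
  let q := SP.pairHom (centralizer ({w} : Set (SP ι))) hij (fun v hv => (hwcent v hv).1)
    (fun v hv => (hwcent v hv).2)
  let ew : centralizer ({w} : Set (SP ι)) := ⟨w, SP.mem_cent_iff.2 (Commute.refl w)⟩
  have hqw : q ew ≠ 1 := fun h => hij (by
    have h3 := (SP.pairHom_eq_one_iff _ hij (fun v hv => (hwcent v hv).1)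
      (fun v hv => (hwcent v hv).2) ew).1 h
    have h5 : w.p i0 = j0 := Equiv.swap_apply_left i0 j0
    exact (h3.symm.trans h5))
  let χ := q.comp ψ.symm.toMonoidHom
  let eneg : centralizer ({w'} : Set (SP ι)) := ⟨SP.neg ι, SP.mem_cent_iff.2 (SP.neg_commute w').symm⟩
  have hχneg : χ eneg ≠ 1 := by
    have h3 : ψ ew = eneg := Subtype.ext (hψw ew rfl)
    show q (ψ.symm eneg) ≠ 1
    rwa [← h3, MulEquiv.symm_apply_apply]
  have ha1 : a = 1 := by
    refine ha12.resolve_right fun h22 => hχneg ?_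
    subst h22
    let F : Fin 2 ⊕ Bool → ι → ZMod 2 := fun s => Sum.elim
      (fun x => SP.e (S'.E (Sum.inl (x, 0))) + SP.e (S'.E (Sum.inl (x, 1))))
      (fun t => if t then ∑ y, SP.e (S'.E (Sum.inr (Sum.inl y)))
        else ∑ y, SP.e (S'.E (Sum.inr (Sum.inr y)))) s
    have hpairmem : ∀ x, SP.ofF (F (Sum.inl x)) ∈ centralizer ({w'} : Set (SP ι)) := fun x => by
      refine SP.mem_cent_iff.2 ((SP.commute_ofF_iff w' _).2 fun i => ?_).symm
      have hp0 : w'.p (S'.E (Sum.inl (x, 0))) = S'.E (Sum.inl (x, 1)) := by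
        rw [S'.pair, zero_add]
      have hp1 : w'.p (S'.E (Sum.inl (x, 1))) = S'.E (Sum.inl (x, 0)) := S'.pair' x
      simp only [F, Sum.elim_inl, Pi.add_apply, SP.e_apply]
      rw [add_comm]
      congr 1
      · exact if_congr ⟨fun h => w'.p.injective (h.trans hp0.symm), fun h => by rw [h, hp0]⟩ rfl rfl
      · exact if_congr ⟨fun h => w'.p.injective (h.trans hp1.symm), fun h => by rw [h, hp1]⟩ rfl rfl
    have hBmem' : ∀ (n : ℕ) (emb : Fin n → ι), (∀ y, w'.p (emb y) = emb y) →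
        SP.ofF (∑ y, SP.e (emb y)) ∈ centralizer ({w'} : Set (SP ι)) := by
      intro n emb hemb
      refine SP.mem_cent_iff.2 ((SP.commute_ofF_iff w' _).2 fun i => ?_).symm
      simp only [Finset.sum_apply, SP.e_apply]
      exact Finset.sum_congr rfl fun y _ =>
        if_congr ⟨fun h => w'.p.injective (h.trans (hemb y).symm), fun h => by rw [h, hemb y]⟩ rfl rfl
    have hB1 : ∀ (n : ℕ) (emb : Fin n → ι) (hemb : ∀ y, w'.p (emb y) = emb y)
        (_ : ∀ y y', w'.f (emb y) = w'.f (emb y')) (_ : Even n),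
        χ ⟨_, hBmem' n emb hemb⟩ = 1 := fun n emb hemb hf' hn =>
      SP.hom_sum_even _ χ (fun y => SP.e (emb y)) Finset.univ
        (fun y _ => SP.mem_cent_iff.2 (SP.ofF_e_commute (hemb y)).symm)
        (fun y _ y' _ => ⟨SP.ofP (Equiv.swap (emb y) (emb y')),
          SP.mem_cent_iff.2 (SP.swap_commute (hemb y) (hemb y') (hf' y y')).symm,
          by rw [SP.conj_ofF_e, SP.ofP_p, Equiv.swap_apply_left]⟩)
        (by rw [Finset.card_univ, Fintype.card_fin]; exact hn) _
    have hmP : SP.ofF (∑ x, F (Sum.inl x)) ∈ centralizer ({w'} : Set (SP ι)) := by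
      rw [Fin.sum_univ_two, SP.ofF_add]
      exact mul_mem (hpairmem 0) (hpairmem 1)
    have hP : χ ⟨_, hmP⟩ = 1 :=
      SP.hom_sum_even _ χ (fun x => F (Sum.inl x)) Finset.univ (fun x _ => hpairmem x)
        (fun x _ y _ => by
          obtain ⟨v, hv, -, hvp⟩ := S'.exists_move hnf (Equiv.swap x y)
          refine ⟨v, SP.mem_cent_iff.2 hv, ?_⟩
          show v * SP.ofF (SP.e _ + SP.e _) * v⁻¹ = SP.ofF (SP.e _ + SP.e _)
          rw [SP.ofF_add, ← conj_mul, SP.conj_ofF_e, SP.conj_ofF_e, hvp, hvp,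
            Equiv.swap_apply_left, SP.ofF_add])
        (by rw [Finset.card_univ, Fintype.card_fin]; exact even_two) hmP
    have hone : (1 : ι → ZMod 2) = (∑ x, F (Sum.inl x)) +
        (∑ y, SP.e (S'.E (Sum.inr (Sum.inl y)))) + ∑ y, SP.e (S'.E (Sum.inr (Sum.inr y))) := by
      funext i
      have h5 : ∑ s, SP.e (S'.E s) i = 1 := by
        rw [Equiv.sum_comp S'.E (fun x => SP.e x i)]
        simp [SP.e_apply]
      rw [Fintype.sum_sum_type, Fintype.sum_sum_type, Fintype.sum_prod_type] at h5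
      rw [Pi.one_apply, ← h5]
      simp only [F, Sum.elim_inl, Pi.add_apply, Finset.sum_apply, add_assoc]
      congr 1
      exact Finset.sum_congr rfl fun x _ =>
        Fin.sum_univ_two (fun y : Fin 2 => SP.e (S'.E (Sum.inl (x, y))) i)
    have heq : eneg = ⟨_, hmP⟩ * ⟨_, hBmem' _ (fun y => S'.E (Sum.inr (Sum.inl y))) fun y => S'.fix _⟩ *
        ⟨_, hBmem' _ (fun y => S'.E (Sum.inr (Sum.inr y))) fun y => S'.fix _⟩ := by
      refine Subtype.ext ?_
      show SP.ofF 1 = SP.ofF _ * SP.ofF _ * SP.ofF _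
      rw [← SP.ofF_add, ← SP.ofF_add, ← hone]
    rw [heq, map_mul, map_mul, hP, one_mul,
      hB1 _ _ (fun y => S'.fix _) (fun y y' => (S'.one y).trans (S'.one y').symm) hb'e,
      hB1 _ _ (fun y => S'.fix _) (fun y y' => (S'.zero y).trans (S'.zero y').symm) hc'e, one_mul]
  subst ha1
  have hXX : b'.factorial * c'.factorial = b.factorial * (k - b).factorial := by
    rwa [Nat.factorial_one, one_mul] at hX
  set p := S'.E (Sum.inl (0, 0)) with hp_def
  set p1 := S'.E (Sum.inl (0, 1)) with hp1_def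
  have hpp : p ≠ p1 := fun h => by simpa using S'.E.injective h
  have hp'mem : ∀ x, w'.p x ≠ x ↔ x = p ∨ x = p1 := fun x => by
    rw [S'.mem_moved_iff]
    constructor
    · rintro ⟨⟨y, z⟩, rfl⟩
      obtain rfl : y = 0 := Subsingleton.elim _ _
      rcases h2 z with rfl | rfl
      · exact Or.inl rfl
      · exact Or.inr rfl
    · rintro (rfl | rfl)
      · exact ⟨_, rfl⟩
      · exact ⟨_, rfl⟩
  have hw'p : w'.p = Equiv.swap p p1 := by
    have h5 : w'.p p = p1 := by rw [hp_def, S'.pair, zero_add]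
    rw [eq_swap_of_moved w'.p p ((hp'mem p).2 (Or.inl rfl)) fun x hx => ?_, h5]
    rw [h5]
    exact (hp'mem x).1 hx
  -- the case of a proper nonempty part
  have hend : b = 0 ∨ b = k := by
    by_contra hcon
    simp only [not_or] at hcon
    obtain ⟨lb, hlb⟩ := hbe
    obtain ⟨lk, hlk⟩ := hkeven
    have hle := hcw.2
    obtain ⟨i1, hi1, i2, hi2, hi12⟩ := Finset.one_lt_card.1 (show 1 < B.card by omega)
    set Cs : Finset ι := Finset.univ.filter fun x => f x = 0 ∧ x ≠ i0 ∧ x ≠ j0 with hCs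
    have hCcard : Cs.card = k - b := by
      have hu : Cs = Finset.univ \ (B ∪ {i0, j0}) := by
        ext x
        simp only [hCs, hB, Finset.mem_filter, Finset.mem_univ, true_and, Finset.mem_sdiff,
          Finset.mem_union, Finset.mem_insert, Finset.mem_singleton, not_or]
        rcases h2 (f x) with h | h <;> simp [h]
      have hd : Disjoint B {i0, j0} := by
        simp only [Finset.disjoint_insert_right, Finset.disjoint_singleton_right]
        exact ⟨fun h => (hBpair _ h).1 rfl, fun h => (hBpair _ h).2 rfl⟩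
      rw [hu, Finset.card_univ_diff, Finset.card_union_of_disjoint hd, Finset.card_pair hij, hk]
      omega
    obtain ⟨j1, hj1, j2, hj2, hj12⟩ := Finset.one_lt_card.1 (show 1 < Cs.card by omega)
    simp only [hCs, Finset.mem_filter, Finset.mem_univ, true_and] at hj1 hj2
    obtain ⟨hi1a, hi1b⟩ := hBpair _ hi1
    obtain ⟨hi2a, hi2b⟩ := hBpair _ hi2
    rw [hBmem] at hi1 hi2
    have n11 : i1 ≠ j1 := fun h => by rw [h, hj1.1] at hi1; exact zero_ne_one hi1
    have n12 : i1 ≠ j2 := fun h => by rw [h, hj2.1] at hi1; exact zero_ne_one hi1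
    have n21 : i2 ≠ j1 := fun h => by rw [h, hj1.1] at hi2; exact zero_ne_one hi2
    have n22 : i2 ≠ j2 := fun h => by rw [h, hj2.1] at hi2; exact zero_ne_one hi2
    have hwi : ∀ {x}, x ≠ i0 → x ≠ j0 → Commute w (SP.ofF (SP.e x)) := fun hx hy =>
      SP.ofF_e_commute (hwfix _ hx hy)
    set δ : ι → ZMod 2 := (SP.e i1 + SP.e i2) + (SP.e j1 + SP.e j2) with hδ
    have hmI : SP.ofF (∑ x ∈ ({i1, i2} : Finset ι), SP.e x) ∈ centralizer ({w} : Set (SP ι)) := by
      rw [Finset.sum_pair hi12, SP.ofF_add]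
      exact mul_mem (SP.mem_cent_iff.2 (hwi hi1a hi1b).symm) (SP.mem_cent_iff.2 (hwi hi2a hi2b).symm)
    have hmJ : SP.ofF (∑ x ∈ ({j1, j2} : Finset ι), SP.e x) ∈ centralizer ({w} : Set (SP ι)) := by
      rw [Finset.sum_pair hj12, SP.ofF_add]
      exact mul_mem (SP.mem_cent_iff.2 (hwi hj1.2.1 hj1.2.2).symm)
        (SP.mem_cent_iff.2 (hwi hj2.2.1 hj2.2.2).symm)
    have hδmem : SP.ofF δ ∈ centralizer ({w} : Set (SP ι)) := by
      rw [hδ, SP.ofF_add, ← Finset.sum_pair hi12, ← Finset.sum_pair hj12]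
      exact mul_mem hmI hmJ
    set eδ : centralizer ({w} : Set (SP ι)) := ⟨SP.ofF δ, hδmem⟩ with heδ
    have hkill : ∀ θ : centralizer ({w} : Set (SP ι)) →* Multiplicative (ZMod 2), θ eδ = 1 := by
      intro θ
      have hsplit : eδ = ⟨_, hmI⟩ * ⟨_, hmJ⟩ := Subtype.ext (by
        show SP.ofF δ = SP.ofF _ * SP.ofF _
        rw [← SP.ofF_add, Finset.sum_pair hi12, Finset.sum_pair hj12])
      rw [hsplit, map_mul,
        SP.hom_part θ _ (by simp [hwfix _ hi1a hi1b, hwfix _ hi2a hi2b])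
          (by simp [hwdef, hi1, hi2]) (by rw [Finset.card_pair hi12]; exact even_two),
        SP.hom_part θ _ (by simp [hwfix _ hj1.2.1 hj1.2.2, hwfix _ hj2.2.1 hj2.2.2])
          (by simp [hwdef, hj1.1, hj2.1]) (by rw [Finset.card_pair hj12]; exact even_two), one_mul]
    -- the image of an abelian normal subgroup
    let M : Subgroup (centralizer ({w} : Set (SP ι))) :=
      (SP.base ι).comap (centralizer ({w} : Set (SP ι))).subtype
    let A : Subgroup (SP ι) :=
      (M.map ψ.toMonoidHom).map (centralizer ({w'} : Set (SP ι))).subtype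
    have hMn : M.Normal := Subgroup.Normal.comap (SP.base_normal) _
    have hAn : ∀ v, Commute v w' → ∀ x ∈ A, v * x * v⁻¹ ∈ A := by
      rintro v hv _ ⟨_, ⟨m, hm, rfl⟩, rfl⟩
      obtain ⟨v1, hv1⟩ := ψ.surjective ⟨v, SP.mem_cent_iff.2 hv⟩
      refine ⟨ψ (v1 * m * v1⁻¹), ⟨_, hMn.conj_mem m hm v1, rfl⟩, ?_⟩
      simp [hv1]
    have hAab : ∀ x ∈ A, ∀ x' ∈ A, Commute x x' := by
      rintro _ ⟨_, ⟨m, hm, rfl⟩, rfl⟩ _ ⟨_, ⟨m', hm', rfl⟩, rfl⟩
      have h5 : Commute m m' := Subtype.ext (by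
        show (m : SP ι) * (m' : SP ι) = (m' : SP ι) * (m : SP ι)
        have e1 : (m : SP ι).p = 1 := SP.mem_base.1 hm
        have e2 : (m' : SP ι).p = 1 := SP.mem_base.1 hm'
        rw [SP.eq_ofF e1, SP.eq_ofF e2, SP.ofF_comm])
      exact (h5.map ψ.toMonoidHom).map (centralizer ({w'} : Set (SP ι))).subtype
    set a0 : SP ι := (ψ eδ : SP ι) with ha0
    have ha0A : a0 ∈ A := ⟨_, ⟨eδ, SP.ofF_mem_base δ, rfl⟩, rfl⟩
    have ha0w : Commute a0 w' := SP.mem_cent_iff.1 (ψ eδ).2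
    have hkill' : ∀ θ : centralizer ({w'} : Set (SP ι)) →* Multiplicative (ZMod 2), θ (ψ eδ) = 1 :=
      fun θ => hkill (θ.comp ψ.toMonoidHom)
    have hfixed : ∀ x, w'.p x = x → a0.p x = x := by
      intro x hx
      by_contra hne
      have hpart := SP.normal_abelian_part A hAn hAab ha0A ha0w hx hne
      obtain ⟨hy, hyx⟩ := SP.commute_fixed ha0w hx
      have hK : ∀ v ∈ centralizer ({w'} : Set (SP ι)),
          (v.p x = x ∨ v.p x = a0.p x) ∧ (v.p (a0.p x) = x ∨ v.p (a0.p x) = a0.p x) := by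
        intro v hv
        obtain ⟨h5, h6⟩ := SP.commute_fixed (SP.mem_cent_iff.1 hv) hx
        obtain ⟨h7, h8⟩ := SP.commute_fixed (SP.mem_cent_iff.1 hv) hy
        exact ⟨hpart _ h5 h6, hpart _ h7 (h8.trans hyx)⟩
      exact hne ((SP.pairHom_eq_one_iff _ (Ne.symm hne) (fun v hv => (hK v hv).1)
        (fun v hv => (hK v hv).2) (ψ eδ)).1 (hkill' _))
    have hcentp : ∀ v ∈ centralizer ({w'} : Set (SP ι)),
        (v.p p = p ∨ v.p p = p1) ∧ (v.p p1 = p ∨ v.p p1 = p1) := by
      intro v hv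
      have h3 : ∀ x, w'.p (v.p x) = v.p (w'.p x) := fun x =>
        (Equiv.congr_fun ((SP.commute_iff v w').1 (SP.mem_cent_iff.1 hv)).1 x).symm
      have h5 : ∀ x, w'.p x ≠ x → v.p x = p ∨ v.p x = p1 := fun x hx =>
        (hp'mem _).1 (by rw [h3]; exact fun h => hx (v.p.injective h))
      exact ⟨h5 p ((hp'mem p).2 (Or.inl rfl)), h5 p1 ((hp'mem p1).2 (Or.inr rfl))⟩
    have ha0p : a0.p p = p := (SP.pairHom_eq_one_iff _ hpp (fun v hv => (hcentp v hv).1)
      (fun v hv => (hcentp v hv).2) (ψ eδ)).1 (hkill' _)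
    have ha0p1 : a0.p p1 = p1 := by
      rcases (hcentp a0 (ψ eδ).2).2 with h | h
      · exact absurd (a0.p.injective (h.trans ha0p.symm)) hpp.symm
      · exact h
    have ha0base : a0.p = 1 := Equiv.ext fun x => by
      by_cases hx : w'.p x = x
      · exact hfixed x hx
      · rcases (hp'mem x).1 hx with rfl | rfl
        · exact ha0p
        · exact ha0p1
    have ha0par : SP.par a0 = 0 :=
      SP.eps_eq_one_iff.1 (hkill' (SP.eps.comp (centralizer ({w'} : Set (SP ι))).subtype))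
    -- `w * δ` is conjugate to `w`
    let τ := Equiv.swap i1 j1 * Equiv.swap i2 j2
    have hτ : SP.ofP τ * w * (SP.ofP τ)⁻¹ = w * SP.ofF δ := by
      have hτi0 : τ i0 = i0 := by
        simp [τ, Equiv.swap_apply_of_ne_of_ne, hi1a.symm, hi2a.symm, hj1.2.1.symm, hj2.2.1.symm]
      have hτj0 : τ j0 = j0 := by
        simp [τ, Equiv.swap_apply_of_ne_of_ne, hi1b.symm, hi2b.symm, hj1.2.2.symm, hj2.2.2.symm]
      rw [SP.conj_ofP]
      refine SP.ext (funext fun x => ?_) ?_
      · have hτinv : τ⁻¹ = Equiv.swap i2 j2 * Equiv.swap i1 j1 := by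
          simp [τ, mul_inv_rev]
        have hδx : ∀ y, δ (w.p⁻¹ y) = δ y := by
          intro y
          by_cases hy : y = i0 ∨ y = j0
          · rcases hy with rfl | rfl <;>
              simp [hwdef, hσ0, hδ, SP.e_apply, hi1a.symm, hi2a.symm, hi1b.symm, hi2b.symm,
                hj1.2.1.symm, hj1.2.2.symm, hj2.2.1.symm, hj2.2.2.symm]
          · simp only [not_or] at hy
            rw [show w.p⁻¹ y = y by simp [hwdef, hσ0, Equiv.swap_apply_of_ne_of_ne hy.1 hy.2]]
        rw [SP.mul_f, SP.ofF_f, hδx, hτinv]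
        show f _ = f x + δ x
        simp only [hδ, Pi.add_apply, SP.e_apply, Equiv.Perm.mul_apply]
        by_cases e1 : x = i1
        · subst e1
          simp [Equiv.swap_apply_of_ne_of_ne, hi1, hj1.1, n21.symm, hj12, n11, n12, hi12]
          decide
        by_cases e2 : x = i2
        · subst e2
          simp [Equiv.swap_apply_of_ne_of_ne, hi2, hj2.1, hi12.symm, n21, n22]
          decide
        by_cases e3 : x = j1
        · subst e3
          simp [Equiv.swap_apply_of_ne_of_ne, hi1, hj1.1, n11.symm, n21.symm, hi12, n12, hj12]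
        by_cases e4 : x = j2
        · subst e4
          simp [Equiv.swap_apply_of_ne_of_ne, hi2, hj2.1, n12.symm, n22.symm, hj12.symm]
        simp [Equiv.swap_apply_of_ne_of_ne, e1, e2, e3, e4]
      · show τ * w.p * τ⁻¹ = (w * SP.ofF δ).p
        rw [mul_inv_eq_iff_eq_mul, SP.mul_p, SP.ofF_p, mul_one, hwdef, hσ0]
        rw [Equiv.mul_swap_eq_swap_mul, hτi0, hτj0]
    have hy'2 : (ew * eδ) * (ew * eδ) = 1 := Subtype.ext (by
      show w * SP.ofF δ * (w * SP.ofF δ) = 1
      rw [← hτ, show SP.ofP τ * w * (SP.ofP τ)⁻¹ * (SP.ofP τ * w * (SP.ofP τ)⁻¹) =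
        SP.ofP τ * (w * w) * (SP.ofP τ)⁻¹ by group, hw2]
      group)
    have hfus := hψfus (ew * eδ) hy'2
    have h5 : (ψ (ew * eδ) : SP ι) = SP.ofF (1 + a0.f) := by
      rw [map_mul, Subgroup.coe_mul, hψw ew rfl, SP.ofF_add]
      exact congrArg (SP.ofF 1 * ·) (SP.eq_ofF ha0base)
    have h6 : IsConj D.t (D.φ (SP.ofF (1 + a0.f))) := by
      rw [← h5]
      refine (hconj.trans ?_).trans hfus
      show IsConj (D.φ w) (D.φ (w * SP.ofF δ))
      rw [← hτ]
      exact D.isConj_vec_of_conj _ _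
    rcases D.vec_conj_iff hD h6 with h7 | ⟨i, h7⟩
    · have h8 : a0 = 1 := by rw [SP.eq_ofF ha0base, add_eq_left.1 h7]; rfl
      have h9 : eδ = 1 := ψ.injective ((Subtype.ext h8).trans (map_one ψ).symm)
      have h10 := congrFun (congrArg SP.f (congrArg Subtype.val h9)) i1
      simp [heδ, hδ, SP.e_apply, hi12, n11, n12] at h10
    · have h8 := add_left_cancel h7
      rw [SP.eq_ofF ha0base, SP.par_ofF, h8, sum_e_eq] at ha0par
      exact one_ne_zero ha0par
  -- hence the partner is a transposition times an element constant outside it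
  have hfac : b'.factorial * c'.factorial = k.factorial := by
    rcases hend with h | h <;> rw [hXX, h] <;> simp
  have hbc : b' = 0 ∨ c' = 0 := by
    have h := Nat.add_choose_mul_factorial_mul_factorial b' c'
    have hbck : b' + c' = k := by omega
    rw [hbck, mul_assoc, hfac] at h
    have h1 : k.choose c' = 1 :=
      Nat.eq_of_mul_eq_mul_right (Nat.factorial_pos k) (h.trans (one_mul _).symm)
    rcases Nat.choose_eq_one_iff.1 h1 with h3 | h3 <;> omega
  have hrest' : ∀ x y, w'.p x = x → w'.p y = y → w'.f x = w'.f y := by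
    intro x y hx hy
    obtain ⟨s, rfl⟩ := S'.E.surjective x
    obtain ⟨s', rfl⟩ := S'.E.surjective y
    rcases s with ⟨z, z'⟩ | s | s
    · exact absurd hx (S'.ne z z')
    all_goals rcases s' with ⟨z, z'⟩ | s' | s'
    all_goals first
      | exact absurd hy (S'.ne z z')
      | rw [S'.one, S'.one]
      | rw [S'.zero, S'.zero]
      | (exfalso; have := s.pos; have := s'.pos; omega)
  have hwrest : ∀ x y, x ≠ i0 → x ≠ j0 → y ≠ i0 → y ≠ j0 → f x = f y := by
    intro x y hx hx' hy hy'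
    rcases hend with h | h
    · have hB0 : B = ∅ := Finset.card_eq_zero.1 h
      have : ∀ z, f z = 0 := fun z => (h2 _).resolve_right fun e => by
        have := (hBmem z).2 e
        rw [hB0] at this
        simp at this
      rw [this, this]
    · have hd : Disjoint B {i0, j0} := by
        simp only [Finset.disjoint_insert_right, Finset.disjoint_singleton_right]
        exact ⟨fun h => (hBpair _ h).1 rfl, fun h => (hBpair _ h).2 rfl⟩
      have hu : B ∪ {i0, j0} = Finset.univ := by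
        refine Finset.eq_univ_of_card _ ?_
        rw [Finset.card_union_of_disjoint hd, Finset.card_pair hij, hk]; omega
      have : ∀ z, z ≠ i0 → z ≠ j0 → f z = 1 := fun z hz hz' => (hBmem z).1 (by
        have := Finset.mem_univ z
        rw [← hu] at this
        simpa [hz, hz'] using this)
      rw [this x hx hx', this y hy hy']
  -- relabel the pair
  let ρ : Equiv.Perm ι := Equiv.swap (Equiv.swap p i0 p1) j0 * Equiv.swap p i0
  have hρp : ρ p = i0 := by
    have : Equiv.swap p i0 p1 ≠ i0 := fun h => hpp (by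
      have h5 := congrArg (Equiv.swap p i0) h
      rw [Equiv.swap_apply_self, Equiv.swap_apply_right] at h5
      exact h5.symm)
    simp [ρ, Equiv.swap_apply_of_ne_of_ne this.symm hij]
  have hρp1 : ρ p1 = j0 := by simp [ρ]
  set g2 := D.φ (SP.ofP ρ) * g1 with hg2
  set w'' := SP.ofP ρ * w' * (SP.ofP ρ)⁻¹ with hw''
  have h2a : g2 * D.φ w * g2⁻¹ = D.t := by
    rw [hg2, show D.φ (SP.ofP ρ) * g1 * D.φ w * (D.φ (SP.ofP ρ) * g1)⁻¹ =
      D.φ (SP.ofP ρ) * (g1 * D.φ w * g1⁻¹) * (D.φ (SP.ofP ρ))⁻¹ by group, h1]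
    exact hcomm_t _ (D.φ_mem _)
  have h2b : g2 * D.t * g2⁻¹ = D.φ w'' := by
    rw [hg2, show D.φ (SP.ofP ρ) * g1 * D.t * (D.φ (SP.ofP ρ) * g1)⁻¹ =
      D.φ (SP.ofP ρ) * (g1 * D.t * g1⁻¹) * (D.φ (SP.ofP ρ))⁻¹ by group, h1', hw'',
      ← map_inv D.φ, ← map_mul D.φ, ← map_mul D.φ]
  have hw''2 : w'' * w'' = 1 := by
    rw [hw'', show SP.ofP ρ * w' * (SP.ofP ρ)⁻¹ * (SP.ofP ρ * w' * (SP.ofP ρ)⁻¹) =
      SP.ofP ρ * (w' * w') * (SP.ofP ρ)⁻¹ by group, hw'2]
    group
  have hw''eq : w'' = ⟨fun x => w'.f (ρ⁻¹ x), σ0⟩ := by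
    rw [hw'', SP.conj_ofP]
    refine SP.ext rfl ?_
    rw [hw'p, mul_inv_eq_iff_eq_mul, Equiv.mul_swap_eq_swap_mul, hρp, hρp1]
  obtain ⟨χ2, hχw, hχneg2, hχfus⟩ := D.exists_swap_iso h2a h2b hw2 hw''2
  have hinvp : ρ⁻¹ i0 = p := by rw [Equiv.Perm.inv_eq_iff_eq, hρp]
  have hinvp1 : ρ⁻¹ j0 = p1 := by rw [Equiv.Perm.inv_eq_iff_eq, hρp1]
  have hLw : centralizer ({w} : Set (SP ι)) = SP.L i0 j0 :=
    SP.cent_eq_L hij f (hfi.trans hfj.symm) hwrest
  have hLw'' : centralizer ({w''} : Set (SP ι)) = SP.L i0 j0 := by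
    rw [hw''eq]
    refine SP.cent_eq_L hij _ ?_ fun x y hx hx' hy hy' => ?_
    · rw [hinvp, hinvp1, hnf p ((hp'mem p).2 (Or.inl rfl)), hnf p1 ((hp'mem p1).2 (Or.inr rfl))]
    · have hfix : ∀ z, z ≠ i0 → z ≠ j0 → w'.p (ρ⁻¹ z) = ρ⁻¹ z := by
        intro z hz hz'
        by_contra h
        rcases (hp'mem _).1 h with e | e
        · exact hz ((Equiv.Perm.inv_eq_iff_eq.1 e).trans hρp)
        · exact hz' ((Equiv.Perm.inv_eq_iff_eq.1 e).trans hρp1)
      exact hrest' _ _ (hfix x hx hx') (hfix y hy hy')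
  let ψL : SP.L i0 j0 ≃* SP.L i0 j0 :=
    ((MulEquiv.subgroupCongr hLw.symm).trans χ2).trans (MulEquiv.subgroupCongr hLw'')
  refine ⟨ψL, fun v hv => ?_, fun v hv => hχfus (MulEquiv.subgroupCongr hLw.symm v)
    (Subtype.ext (congrArg Subtype.val hv :))⟩
  set vd : centralizer ({w} : Set (SP ι)) := MulEquiv.subgroupCongr hLw.symm v with hvd
  have hvd' : (vd : SP ι) = SP.ofF (SP.e i0 + SP.e j0) := hv
  show (χ2 vd : SP ι).p i0 = j0
  -- the swap homomorphism after `χ2`
  have hc2 : ∀ u ∈ centralizer ({w''} : Set (SP ι)),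
      (u.p i0 = i0 ∨ u.p i0 = j0) ∧ (u.p j0 = i0 ∨ u.p j0 = j0) := by
    intro u hu
    rw [hLw''] at hu
    rcases (SP.mem_L hij hu).1 with ⟨h5, h6⟩ | ⟨h5, h6⟩
    · exact ⟨Or.inl h5, Or.inr h6⟩
    · exact ⟨Or.inr h5, Or.inl h6⟩
  let θ : centralizer ({w} : Set (SP ι)) →* Multiplicative (ZMod 2) :=
    (SP.pairHom (centralizer ({w''} : Set (SP ι))) hij (fun u hu => (hc2 u hu).1)
      (fun u hu => (hc2 u hu).2)).comp χ2.toMonoidHom
  have hθiff : ∀ u, θ u = 1 ↔ (χ2 u : SP ι).p i0 = i0 := fun u =>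
    SP.pairHom_eq_one_iff _ hij (fun u hu => (hc2 u hu).1) (fun u hu => (hc2 u hu).2) (χ2 u)
  let eN : centralizer ({w} : Set (SP ι)) := ⟨SP.neg ι, SP.mem_cent_iff.2 (SP.neg_commute w).symm⟩
  have hθN : θ eN ≠ 1 := fun h => hij (by
    have h5 := (hθiff eN).1 h
    rw [hχneg2 eN rfl, hw''eq] at h5
    exact h5.symm.trans (Equiv.swap_apply_left i0 j0))
  set Rest : Finset ι := Finset.univ \ {i0, j0} with hRest
  have hRmem : ∀ x, x ∈ Rest ↔ x ≠ i0 ∧ x ≠ j0 := fun x => by simp [hRest]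
  have hmR : SP.ofF (∑ x ∈ Rest, SP.e x) ∈ centralizer ({w} : Set (SP ι)) := by
    refine SP.mem_cent_iff.2 ((SP.commute_ofF_iff w _).2 fun i => ?_).symm
    simp only [Finset.sum_apply, SP.e_apply]
    refine Finset.sum_congr rfl fun y hy => ?_
    have hy' := hwfix y ((hRmem y).1 hy).1 ((hRmem y).1 hy).2
    exact if_congr ⟨fun h => w.p.injective (h.trans hy'.symm), fun h => by rw [h, hy']⟩ rfl rfl
  have hR1 : θ ⟨_, hmR⟩ = 1 := SP.hom_part θ Rest
    (fun x hx => hwfix x ((hRmem x).1 hx).1 ((hRmem x).1 hx).2)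
    (fun x hx y hy => hwrest x y ((hRmem x).1 hx).1 ((hRmem x).1 hx).2 ((hRmem y).1 hy).1
      ((hRmem y).1 hy).2)
    (by rw [hRest, Finset.card_univ_diff, Finset.card_pair hij, hk]; simpa using hkeven) _
  have heN : eN = vd * ⟨_, hmR⟩ := Subtype.ext (by
    show SP.ofF 1 = (vd : SP ι) * SP.ofF _
    rw [hvd', ← SP.ofF_add]
    congr 1
    rw [← Finset.sum_pair (f := SP.e) hij,
      ← Finset.sum_union (Finset.disjoint_sdiff), Finset.union_sdiff_of_subset (Finset.subset_univ _)]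
    funext x
    simp [SP.e_apply])
  have hθd : θ vd ≠ 1 := fun h => hθN (by rw [heN, map_mul, h, hR1, one_mul])
  exact ((hc2 _ (χ2 vd).2).1).resolve_left fun h => hθd ((hθiff vd).2 h)

end Setup

end CfsgLib.Involution.AltCentClasses
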