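import Cfsg.Agent.Lib.Involution.AltCentClasses.Model

/-!
# Standard form of an involution in `SP ι` and the order of its centralizer
-/

set_option autoImplicit false

namespace CfsgLib.Involution.AltCentClasses

open Equiv

namespace SP

variable {ι : Type*}

/-- A standard form: `a` swapped pairs, `b` fixed points with sign `1`, `c` with sign `0`. -/
structure Std (w : SP ι) (a b c : ℕ) where
  /-- The labelling. -/
  E : (Fin a × ZMod 2) ⊕ (Fin b ⊕ Fin c) ≃ ι
  pair : ∀ x z, w.p (E (Sum.inl (x, z))) = E (Sum.inl (x, z + 1))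
  fix : ∀ y, w.p (E (Sum.inr y)) = E (Sum.inr y)
  one : ∀ y, w.f (E (Sum.inr (Sum.inl y))) = 1
  zero : ∀ y, w.f (E (Sum.inr (Sum.inr y))) = 0

theorem exists_std [Finite ι] (w : SP ι) (hw : w * w = 1) : ∃ a b c, Nonempty (Std w a b c) := by
  classical
  haveI := Fintype.ofFinite ι
  obtain ⟨hp, -⟩ := (sq_iff w).1 hw
  have hinv : ∀ i, w.p (w.p i) = i := fun i => by simpa using Equiv.congr_fun hp i
  set N := Fintype.equivFin ι with hN
  let R := {i : ι // N i < N (w.p i)}
  let B := {i : ι // w.p i = i ∧ w.f i = 1}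
  let C := {i : ι // w.p i = i ∧ w.f i = 0}
  let F : (R × ZMod 2) ⊕ (B ⊕ C) → ι := fun x => match x with
    | Sum.inl (r, z) => if z = 0 then r.1 else w.p r.1
    | Sum.inr (Sum.inl y) => y.1
    | Sum.inr (Sum.inr y) => y.1
  have h2 : ∀ z : ZMod 2, z = 0 ∨ z = 1 := by decide
  have hsurj : Function.Surjective F := by
    intro i
    rcases lt_trichotomy (N i) (N (w.p i)) with h | h | h
    · exact ⟨Sum.inl (⟨i, h⟩, 0), by simp [F]⟩
    · have hfix : w.p i = i := (N.injective h).symm
      rcases h2 (w.f i) with h0 | h1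
      · exact ⟨Sum.inr (Sum.inr ⟨i, hfix, h0⟩), rfl⟩
      · exact ⟨Sum.inr (Sum.inl ⟨i, hfix, h1⟩), rfl⟩
    · exact ⟨Sum.inl (⟨w.p i, by rw [hinv]; exact h⟩, 1), by simp [F, hinv]⟩
  have hinj : Function.Injective F := by
    have hr : ∀ r : R, w.p r.1 ≠ r.1 := fun r h => absurd r.2 (by rw [h]; exact lt_irrefl _)
    have hr' : ∀ r : R, ∀ z : ZMod 2, w.p (if z = 0 then r.1 else w.p r.1) ≠
        (if z = 0 then r.1 else w.p r.1) := by
      intro r z h
      split_ifs at h
      · exact hr r h
      · exact hr r (w.p.injective h)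
    rintro (⟨r, z⟩ | y | y) (⟨r', z'⟩ | y' | y') h <;> simp only [F] at h
    · rcases h2 z with rfl | rfl <;> rcases h2 z' with rfl | rfl <;>
        simp only [one_ne_zero, if_true, if_false] at h
      · rw [Subtype.ext h]
      · exfalso
        have h3 := r.2; have h4 := r'.2
        rw [h, hinv] at h3
        exact lt_asymm h3 h4
      · exfalso
        have h3 := r.2; have h4 := r'.2
        rw [← h, hinv] at h4
        exact lt_asymm h3 h4
      · rw [Subtype.ext (w.p.injective h)]
    · exact absurd (by rw [h]; exact y'.2.1) (hr' r z)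
    · exact absurd (by rw [h]; exact y'.2.1) (hr' r z)
    · exact absurd (by rw [← h]; exact y.2.1) (hr' r' z')
    · rw [Subtype.ext h]
    · exact absurd (y.2.2.symm.trans ((congrArg w.f h).trans y'.2.2)) one_ne_zero
    · exact absurd (by rw [← h]; exact y.2.1) (hr' r' z')
    · exact absurd (y'.2.2.symm.trans ((congrArg w.f h).symm.trans y.2.2)) one_ne_zero
    · rw [Subtype.ext h]
  let FE : (R × ZMod 2) ⊕ (B ⊕ C) ≃ ι := Equiv.ofBijective F ⟨hinj, hsurj⟩
  let E := (Equiv.sumCongr (Equiv.prodCongr (Fintype.equivFin R).symm (Equiv.refl (ZMod 2)))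
    (Equiv.sumCongr (Fintype.equivFin B).symm (Fintype.equivFin C).symm)).trans FE
  refine ⟨_, _, _, ⟨⟨E, fun x z => ?_, fun y => ?_, fun y => ?_, fun y => ?_⟩⟩⟩
  · show w.p (F (Sum.inl ((Fintype.equivFin R).symm x, z))) =
      F (Sum.inl ((Fintype.equivFin R).symm x, z + 1))
    have h11 : (1 : ZMod 2) + 1 = 0 := by decide
    rcases h2 z with rfl | rfl <;> simp [F, hinv, h11]
  · rcases y with y | y
    · exact ((Fintype.equivFin B).symm y).2.1
    · exact ((Fintype.equivFin C).symm y).2.1
  · exact ((Fintype.equivFin B).symm y).2.2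
  · exact ((Fintype.equivFin C).symm y).2.2

variable {w : SP ι} {a b c : ℕ}

theorem Std.card_eq (S : Std w a b c) : 2 * a + b + c = Nat.card ι := by
  rw [← Nat.card_congr S.E]
  simp [Nat.card_sum, Nat.card_prod]
  ring

theorem Std.pair' (S : Std w a b c) (x : Fin a) :
    w.p (S.E (Sum.inl (x, 1))) = S.E (Sum.inl (x, 0)) := by
  rw [S.pair, show (1 : ZMod 2) + 1 = 0 by decide]

theorem Std.ne (S : Std w a b c) (x : Fin a) (z : ZMod 2) :
    w.p (S.E (Sum.inl (x, z))) ≠ S.E (Sum.inl (x, z)) := by
  rw [S.pair]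
  intro h
  simpa using congrArg (fun q => q.elim Prod.snd (fun _ => 0)) (S.E.injective h)

/-- The fixed points with sign one are those with label in the middle part. -/
theorem Std.mem_one_iff (S : Std w a b c) (i : ι) :
    (w.p i = i ∧ w.f i = 1) ↔ ∃ y, S.E (Sum.inr (Sum.inl y)) = i := by
  constructor
  · rintro ⟨hp, hf⟩
    obtain ⟨q, rfl⟩ := S.E.surjective i
    rcases q with ⟨x, z⟩ | y | y
    · exact absurd hp (S.ne x z)
    · exact ⟨y, rfl⟩
    · exact absurd ((S.zero y).symm.trans hf) zero_ne_one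
  · rintro ⟨y, rfl⟩
    exact ⟨S.fix _, S.one y⟩

/-- The moved points are those with label in the first part. -/
theorem Std.mem_moved_iff (S : Std w a b c) (i : ι) :
    w.p i ≠ i ↔ ∃ q, S.E (Sum.inl q) = i := by
  constructor
  · intro hp
    obtain ⟨q, rfl⟩ := S.E.surjective i
    rcases q with q | y
    · exact ⟨q, rfl⟩
    · exact absurd (S.fix y) hp
  · rintro ⟨⟨x, z⟩, rfl⟩
    exact S.ne x z

theorem Std.card_moved (S : Std w a b c) : Nat.card {i : ι // w.p i ≠ i} = 2 * a := by
  rw [← Nat.card_congr ((Equiv.ofInjective (fun q => S.E (Sum.inl q))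
    (S.E.injective.comp Sum.inl_injective)).trans
    (Equiv.subtypeEquivRight fun i => (S.mem_moved_iff i).symm))]
  simp [Nat.card_prod, mul_comm]

theorem Std.card_one (S : Std w a b c) : Nat.card {i : ι // w.p i = i ∧ w.f i = 1} = b := by
  rw [← Nat.card_congr ((Equiv.ofInjective (fun y => S.E (Sum.inr (Sum.inl y)))
    (S.E.injective.comp (Sum.inr_injective.comp Sum.inl_injective))).trans
    (Equiv.subtypeEquivRight fun i => (S.mem_one_iff i).symm))]
  simp

theorem Std.card_centralizer (S : Std w a b c) (hw : w * w = 1) :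
    Nat.card (Subgroup.centralizer ({w} : Set (SP ι))) =
      2 ^ Nat.card ι * (a.factorial * b.factorial * c.factorial) := by
  classical
  haveI : Finite ι := Finite.of_equiv _ S.E
  obtain ⟨hp2, hsym⟩ := (sq_iff w).1 hw
  have hwinv : w.p⁻¹ = w.p := inv_eq_of_mul_eq_one_right hp2
  set σ : Equiv.Perm ι := w.p with hσ
  set E := S.E with hE
  let T := SP (Fin a) × Equiv.Perm (Fin b) × Equiv.Perm (Fin c)
  let tau : T → Equiv.Perm ι := fun d =>
    E.permCongr (Equiv.sumCongr (perm d.1) (Equiv.sumCongr d.2.1 d.2.2))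
  have tau_inl : ∀ d q, tau d (E (Sum.inl q)) = E (Sum.inl (perm d.1 q)) := fun d q => by
    simp [tau]
  have tau_inr : ∀ d y, tau d (E (Sum.inr y)) = E (Sum.inr (Equiv.sumCongr d.2.1 d.2.2 y)) :=
    fun d y => by simp [tau]
  let sg : T → (Fin a ⊕ (Fin b ⊕ Fin c) → ZMod 2) → ι → ZMod 2 := fun d h i =>
    Sum.elim (fun q : Fin a × ZMod 2 => h (Sum.inl q.1) + if q.2 = 0 then 0 else
        w.f (E (Sum.inl (q.1, 0))) + w.f ((tau d)⁻¹ (E (Sum.inl (q.1, 0)))))
      (fun y => h (Sum.inr y)) (E.symm i)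
  have hcomm : ∀ d, tau d * σ = σ * tau d := by
    intro d
    refine Equiv.ext fun i => ?_
    obtain ⟨q, rfl⟩ := E.surjective i
    rcases q with ⟨x, z⟩ | y
    · simp only [Equiv.Perm.mul_apply]
      rw [hσ, hE, S.pair, ← hE, tau_inl, tau_inl, perm_apply, perm_apply, hE, S.pair]
      congr 3
      exact add_right_comm _ _ _
    · simp only [Equiv.Perm.mul_apply]
      rw [hσ, hE, S.fix, ← hE, tau_inr, hE, S.fix]
  have h2 : ∀ z : ZMod 2, z = 0 ∨ z = 1 := by decide
  have hcent : ∀ d h, Commute (⟨sg d h, tau d⟩ : SP ι) w := by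
    intro d h
    rw [commute_iff]
    refine ⟨hcomm d, fun i => ?_⟩
    rw [← hσ, hwinv]
    obtain ⟨q, rfl⟩ := E.surjective i
    rcases q with ⟨x, z⟩ | y
    · have hcm : ∀ z, (tau d)⁻¹ (E (Sum.inl (x, z + 1))) = σ ((tau d)⁻¹ (E (Sum.inl (x, z)))) := by
        intro z
        rw [Equiv.Perm.inv_eq_iff_eq]
        have := Equiv.congr_fun (hcomm d) ((tau d)⁻¹ (E (Sum.inl (x, z))))
        simp only [Equiv.Perm.mul_apply, Equiv.Perm.coe_inv, Equiv.apply_symm_apply] at this ⊢
        rw [this, hσ, hE, S.pair]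
      have key : ∀ z, w.f ((tau d)⁻¹ (E (Sum.inl (x, z)))) =
          w.f ((tau d)⁻¹ (E (Sum.inl (x, 0)))) ∧
            w.f (E (Sum.inl (x, z))) = w.f (E (Sum.inl (x, 0))) := by
        intro z
        rcases h2 z with rfl | rfl
        · exact ⟨rfl, rfl⟩
        · constructor
          · have := hcm 0
            rw [zero_add] at this
            rw [this, hsym]
          · have := S.pair x 0
            rw [zero_add, ← hE] at this
            rw [← this, hsym]
      rw [(key z).1, (key z).2, hσ, hE, S.pair, ← hE]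
      simp only [sg, Equiv.symm_apply_apply, Sum.elim_inl]
      generalize w.f (E (Sum.inl (x, 0))) = u
      generalize w.f ((tau d)⁻¹ (E (Sum.inl (x, 0)))) = v
      generalize h (Sum.inl x) = r
      revert z u v r; decide
    · have : w.f ((tau d)⁻¹ (E (Sum.inr y))) = w.f (E (Sum.inr y)) := by
        have e1 : (tau d)⁻¹ (E (Sum.inr y)) =
            E (Sum.inr ((Equiv.sumCongr d.2.1 d.2.2).symm y)) := by
          rw [Equiv.Perm.inv_eq_iff_eq, tau_inr, Equiv.apply_symm_apply]
        rw [e1]
        rcases y with y | y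
        · simp [hE, S.one]
        · simp [hE, S.zero]
      rw [this, hσ, hE, S.fix, ← hE, add_comm]
  let F : T × (Fin a ⊕ (Fin b ⊕ Fin c) → ZMod 2) → Subgroup.centralizer ({w} : Set (SP ι)) :=
    fun x => ⟨⟨sg x.1 x.2, tau x.1⟩, Subgroup.mem_centralizer_singleton_iff.2 (hcent x.1 x.2)⟩
  have hbij : Function.Bijective F := by
    constructor
    · rintro ⟨d, h⟩ ⟨d', h'⟩ he
      have he' : (⟨sg d h, tau d⟩ : SP ι) = ⟨sg d' h', tau d'⟩ := congrArg Subtype.val he
      have hd : d = d' := by
        have ht : tau d = tau d' := congrArg SP.p he'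
        have h1 : perm d.1 = perm d'.1 := Equiv.ext fun q => by
          simpa [tau_inl] using Equiv.congr_fun ht (E (Sum.inl q))
        have h3 : d.2.1 = d'.2.1 := Equiv.ext fun y => by
          simpa [tau_inr] using Equiv.congr_fun ht (E (Sum.inr (Sum.inl y)))
        have h4 : d.2.2 = d'.2.2 := Equiv.ext fun y => by
          simpa [tau_inr] using Equiv.congr_fun ht (E (Sum.inr (Sum.inr y)))
        exact Prod.ext (perm_injective h1) (Prod.ext h3 h4)
      subst hd
      refine Prod.ext rfl (funext fun j => ?_)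
      have hf : sg d h = sg d h' := congrArg SP.f he'
      rcases j with x | y
      · simpa [sg] using congrFun hf (E (Sum.inl (x, 0)))
      · simpa [sg] using congrFun hf (E (Sum.inr y))
    · rintro ⟨⟨g, τ⟩, hg⟩
      obtain ⟨hc, hfe⟩ := (commute_iff _ w).1 (Subgroup.mem_centralizer_singleton_iff.1 hg)
      change τ * σ = σ * τ at hc
      change ∀ i, g i + w.f (τ⁻¹ i) = w.f i + g (σ⁻¹ i) at hfe
      have hc' : ∀ i, τ (σ i) = σ (τ i) := fun i => Equiv.congr_fun hc i
      have hfix : ∀ i, σ i = i → σ (τ i) = τ i ∧ w.f (τ i) = w.f i := by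
        intro i hi
        have h1 : σ (τ i) = τ i := by rw [← hc', hi]
        refine ⟨h1, ?_⟩
        have := hfe (τ i)
        rw [hwinv, h1, Equiv.Perm.coe_inv, Equiv.symm_apply_apply, add_comm (w.f _)] at this
        exact (add_left_cancel this).symm
      have hL : ∀ q, ∃ q', τ (E (Sum.inl q)) = E (Sum.inl q') := by
        intro q
        obtain ⟨r, hr⟩ := E.surjective (τ (E (Sum.inl q)))
        rcases r with r | y
        · exact ⟨r, hr.symm⟩
        · exfalso
          refine S.ne q.1 q.2 (τ.injective ?_)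
          rw [← hE, ← hσ, Prod.mk.eta, hc', ← hr, hσ, hE, S.fix]
      have hB : ∀ y, ∃ y', τ (E (Sum.inr (Sum.inl y))) = E (Sum.inr (Sum.inl y')) := by
        intro y
        obtain ⟨h1, h3⟩ := hfix _ (S.fix (Sum.inl y))
        obtain ⟨y', hy'⟩ := (S.mem_one_iff _).1 ⟨h1, h3.trans (S.one y)⟩
        exact ⟨y', hy'.symm⟩
      have hC : ∀ y, ∃ y', τ (E (Sum.inr (Sum.inr y))) = E (Sum.inr (Sum.inr y')) := by
        intro y
        obtain ⟨h1, h3⟩ := hfix _ (S.fix (Sum.inr y))
        obtain ⟨r, hr⟩ := E.surjective (τ (E (Sum.inr (Sum.inr y))))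
        rw [← hr] at h1 h3
        rcases r with ⟨x, z⟩ | y' | y'
        · exact absurd h1 (S.ne x z)
        · exact absurd ((S.one y').symm.trans (h3.trans (S.zero y))) one_ne_zero
        · exact ⟨y', hr.symm⟩
      choose x hx using hL
      choose β hβ using hB
      choose γ hγ using hC
      have hxinj : Function.Injective x := fun q q' he => by
        have : τ (E (Sum.inl q)) = τ (E (Sum.inl q')) := by rw [hx, hx, he]
        simpa using this
      have hxflip : ∀ q : Fin a × ZMod 2, x (q.1, q.2 + 1) = ((x q).1, (x q).2 + 1) := by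
        intro q
        have : E (Sum.inl (x (q.1, q.2 + 1))) = E (Sum.inl ((x q).1, (x q).2 + 1)) := by
          rw [← hx, hE, ← S.pair, ← S.pair, ← hE, ← hσ, hc', Prod.mk.eta, hx]
        simpa using this
      obtain ⟨v, hv⟩ := exists_perm_eq x hxinj hxflip
      have hβinj : Function.Injective β := fun y y' he => by
        have : τ (E (Sum.inr (Sum.inl y))) = τ (E (Sum.inr (Sum.inl y'))) := by rw [hβ, hβ, he]
        simpa using this
      have hγinj : Function.Injective γ := fun y y' he => by
        have : τ (E (Sum.inr (Sum.inr y))) = τ (E (Sum.inr (Sum.inr y'))) := by rw [hγ, hγ, he]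
        simpa using this
      let d : T := (v, Equiv.ofBijective β (Finite.injective_iff_bijective.1 hβinj),
        Equiv.ofBijective γ (Finite.injective_iff_bijective.1 hγinj))
      have hτ : tau d = τ := by
        refine Equiv.ext fun i => ?_
        obtain ⟨q, rfl⟩ := E.surjective i
        rcases q with q | y | y
        · rw [tau_inl, hx, hv]
        · rw [tau_inr, hβ]; rfl
        · rw [tau_inr, hγ]; rfl
      let h : Fin a ⊕ (Fin b ⊕ Fin c) → ZMod 2 :=
        Sum.elim (fun x => g (E (Sum.inl (x, 0)))) (fun y => g (E (Sum.inr y)))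
      refine ⟨(d, h), Subtype.ext (SP.ext (funext fun i => ?_) hτ)⟩
      show sg d h i = g i
      obtain ⟨q, rfl⟩ := E.surjective i
      rcases q with ⟨x, z⟩ | y
      · simp only [sg, Equiv.symm_apply_apply, Sum.elim_inl, h]
        rcases h2 z with rfl | rfl
        · simp
        · have := hfe (E (Sum.inl (x, 0)))
          rw [hwinv, hσ, hE, S.pair, zero_add, ← hE] at this
          rw [hτ, if_neg one_ne_zero]
          revert this
          generalize g (E (Sum.inl (x, 0))) = u
          generalize g (E (Sum.inl (x, 1))) = v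
          generalize w.f (τ⁻¹ (E (Sum.inl (x, 0)))) = r
          generalize w.f (E (Sum.inl (x, 0))) = s
          revert u v r s; decide
      · simp [sg, h]
  rw [← Nat.card_congr (Equiv.ofBijective F hbij), Nat.card_prod, Nat.card_prod, Nat.card_prod,
    SP.card_eq, Nat.card_fun, Nat.card_perm, Nat.card_perm, Nat.card_zmod, ← S.card_eq]
  simp only [Nat.card_sum, Nat.card_fin]
  rw [show 2 * a + b + c = a + (a + (b + c)) by ring, pow_add]
  ring

end SP

end CfsgLib.Involution.AltCentClasses
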