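import Cfsg.Agent.Lib.Involution.AltCentClasses.Reduce

/-!
# The number of classes of involutions
-/

set_option autoImplicit false

namespace CfsgLib.Involution.AltCentClasses

open Subgroup

namespace Setup

variable {G : Type*} [Group G] {ι : Type*} [Fintype ι] [DecidableEq ι] (D : Setup G ι) [Finite G]

theorem weight_even (f : ι → ZMod 2) : Even (weight f) := by
  rw [weight, ← ZMod.natCast_eq_zero_iff_even, ← sum_eq_card_filter, sum_ext]

theorem count_of_good (hD : D.Good) {n : ℕ} (hn : Fintype.card ι = 2 * n) :
    Nat.card {c : ConjClasses G // ∃ x ∈ c.carrier, orderOf x = 2} = n := by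
  classical
  have hF := D.full_of_good hD
  set e := Fintype.equivFin ι
  let fv : Fin n → ι → ZMod 2 := fun k x => if (e x : ℕ) < 2 * (k + 1) then 1 else 0
  have hcard : ∀ k : Fin n, (Finset.univ.filter fun x => fv k x = 1).card = 2 * (k + 1) := by
    intro k
    have hk : 2 * ((k : ℕ) + 1) ≤ Fintype.card ι := by omega
    rw [← Fintype.card_subtype]
    rw [Fintype.card_congr (e.subtypeEquiv (q := fun y : Fin (Fintype.card ι) =>
      (y : ℕ) < 2 * (k + 1)) fun x => by simp [fv])]
    exact Fintype.card_fin_lt_of_le hk
  have hweight : ∀ k : Fin n, weight (fv k) = 2 * (k + 1) := by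
    intro k
    have hsum : ∑ x, fv k x = 0 := by
      rw [sum_eq_card_filter, hcard, ZMod.natCast_eq_zero_iff_even]
      exact even_two_mul _
    have hset : (Finset.univ.filter fun o => ext (fv k) o = 1) =
        (Finset.univ.filter fun x => fv k x = 1).map ⟨some, Option.some_injective _⟩ := by
      ext o
      rcases o with _ | x
      · simp [ext, hsum]
      · simp only [Finset.mem_filter, Finset.mem_univ, true_and, Finset.mem_map,
          Function.Embedding.coeFn_mk, Option.some.injEq, exists_eq_right]
        rfl
    rw [weight, hset, Finset.card_map, hcard]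
  have hord : ∀ k : Fin n, orderOf (D.vec (fv k)) = 2 := fun k => by
    refine orderOf_eq_prime (by rw [sq, D.vec_sq]) ?_
    intro h
    rw [← D.vec_zero] at h
    have h1 := hcard k
    rw [D.vec_inj h] at h1
    simp at h1
  let F : Fin n → {c : ConjClasses G // ∃ x ∈ c.carrier, orderOf x = 2} := fun k =>
    ⟨ConjClasses.mk (D.vec (fv k)), D.vec (fv k), ConjClasses.mem_carrier_mk, hord k⟩
  have hbij : Function.Bijective F := by
    constructor
    · intro k l hkl
      have h1 : IsConj (D.vec (fv k)) (D.vec (fv l)) :=
        ConjClasses.mk_eq_mk_iff_isConj.1 (congrArg Subtype.val hkl)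
      obtain ⟨g, hg⟩ := isConj_iff.1 h1
      obtain ⟨a, ha, ha'⟩ := D.fusion hD hg
      have h2 := weight_act hD hF ha (fv k)
      rw [ha', hweight, hweight] at h2
      exact Fin.ext (by omega)
    · rintro ⟨c, x, hxc, hx⟩
      have hx2 : x * x = 1 := by rw [← sq, ← hx, pow_orderOf_eq_one]
      obtain ⟨g, w, hw, hgw⟩ := D.involution_conj hx2
      obtain ⟨f, hf⟩ := D.conj_into_E hD w hw
      have hxf : IsConj x (D.vec f) := (isConj_iff.2 ⟨g, hgw⟩).trans hf
      have hf0 : f ≠ 0 := by
        rintro rfl
        rw [D.vec_zero, isConj_one_left] at hxf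
        rw [hxf, orderOf_one] at hx
        omega
      have hpos : 0 < weight f := by
        rw [weight, Finset.card_pos]
        by_contra hne
        refine hf0 (ext_injective (funext fun o => ?_))
        have h2 : ∀ z : ZMod 2, z ≠ 1 → z = 0 := by decide
        have h3 : ext f o = 0 := h2 _ fun h => hne ⟨o, by simp [h]⟩
        rw [h3]
        rcases o with _ | i <;> simp [ext]
      have hle : weight f ≤ Fintype.card ι + 1 := by
        rw [← Fintype.card_option]
        exact Finset.card_le_univ _
      obtain ⟨l, hl⟩ := weight_even f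
      let k : Fin n := ⟨l - 1, by omega⟩
      obtain ⟨a, ha, ha'⟩ := exists_act_eq hD hF (f := fv k) (f' := f) (by
        rw [hweight, hl]; show 2 * (l - 1 + 1) = l + l; omega)
      have h4 : IsConj (D.vec (fv k)) x := by
        refine IsConj.trans (isConj_iff.2 ⟨a, ?_⟩) hxf.symm
        rw [← D.vec_act ha, ha']
      refine ⟨k, Subtype.ext ?_⟩
      show ConjClasses.mk (D.vec (fv k)) = c
      rw [← ConjClasses.mem_carrier_iff_mk_eq.1 hxc]
      exact ConjClasses.mk_eq_mk_iff_isConj.2 h4
  rw [← Nat.card_congr (Equiv.ofBijective F hbij)]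
  exact Nat.card_fin n

include D in
theorem count {n : ℕ} (hn : Fintype.card ι = 2 * n) :
    Nat.card {c : ConjClasses G // ∃ x ∈ c.carrier, orderOf x = 2} = n := by
  obtain ⟨D', -, hD'⟩ := D.exists_good
  exact D'.count_of_good hD' hn

end Setup

end CfsgLib.Involution.AltCentClasses
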