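import Cfsg.Agent.Lib.Involution.AltCentClasses.Pairs

/-!
# Elementary abelian subgroups of largest order of the signed permutations
-/

set_option autoImplicit false

namespace CfsgLib.Involution.AltCentClasses

namespace SP

variable {ι : Type*} [Fintype ι]

theorem elementary_structure (A : Subgroup (SP ι)) (hcomm : ∀ a ∈ A, ∀ b ∈ A, Commute a b)
    (hcard : 2 ^ Fintype.card ι ≤ Nat.card A) :
    (∀ a ∈ A, ∀ b ∈ A, ∀ i, a.p i ≠ i → b.p i ≠ i → a.p i = b.p i) ∧
      ∀ g : ι → ZMod 2, (∀ a ∈ A, ∀ i, g (a.p i) = g i) → ofF g ∈ A := by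
  classical
  have hequiv : Equivalence fun i j : ι => ∃ a : SP ι, a ∈ A ∧ a.p i = j :=
    ⟨fun i => ⟨1, one_mem _, rfl⟩,
      fun {i j} ⟨a, ha, h⟩ => ⟨a⁻¹, inv_mem ha, by rw [inv_p, ← h]; simp⟩,
      fun {i j k} ⟨a, ha, h⟩ ⟨b, hb, h'⟩ =>
        ⟨b * a, mul_mem hb ha, by rw [mul_p, Equiv.Perm.mul_apply, h, h']⟩⟩
  let r : Setoid ι := ⟨_, hequiv⟩
  have hout : ∀ i, ∃ b ∈ A, b.p (Quotient.mk r i).out = i := fun i =>
    Quotient.exact (s := r) (Quotient.out_eq (Quotient.mk r i))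
  let Q := Quotient r
  let Fib : Q → Type _ := fun q => {i : ι // Quotient.mk r i = q}
  have hfib : ∀ a ∈ A, ∀ i, Quotient.mk r (a.p i) = Quotient.mk r i := fun a ha i =>
    (Quotient.sound (s := r) ⟨a, ha, rfl⟩).symm
  let Ψ : A → (∀ q : Q, Fib q) := fun a q =>
    ⟨a.1.p q.out, (hfib a a.2 _).trans q.out_eq⟩
  let sec : (∀ q : Q, Fib q) → A := fun v => if h : ∃ a, Ψ a = v then h.choose else 1
  have hsec : ∀ a, Ψ (sec (Ψ a)) = Ψ a := fun a => by
    have h : ∃ a', Ψ a' = Ψ a := ⟨a, rfl⟩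
    simp only [sec, dif_pos h]
    exact h.choose_spec
  have hcp : ∀ a ∈ A, ∀ b ∈ A, ∀ i, a.p (b.p i) = b.p (a.p i) := fun a ha b hb i =>
    Equiv.congr_fun ((commute_iff a b).1 (hcomm a ha b hb)).1 i
  have hker : ∀ a : A, ((sec (Ψ a))⁻¹ * a).1.p = 1 := by
    intro a
    have h : ∀ i, (sec (Ψ a)).1.p i = a.1.p i := by
      intro i
      obtain ⟨b, hb, hbi⟩ := hout i
      have h1 : (sec (Ψ a)).1.p (Quotient.mk r i).out = a.1.p (Quotient.mk r i).out :=
        congrArg Subtype.val (congrFun (hsec a) _)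
      rw [← hbi, hcp _ (sec (Ψ a)).2 _ hb, hcp _ a.2 _ hb, h1]
    refine Equiv.ext fun i => ?_
    simp only [Subgroup.coe_mul, Subgroup.coe_inv, mul_p, inv_p, Equiv.Perm.mul_apply,
      Equiv.Perm.coe_inv, one_p, Equiv.Perm.one_apply]
    rw [Equiv.symm_apply_eq, h]
  let Φ : A → (∀ q : Q, Fib q × ZMod 2) := fun a q => (Ψ a q, ((sec (Ψ a))⁻¹ * a).1.f q.out)
  have hconst : ∀ a : A, a.1.p = 1 → ∀ i, a.1.f i = a.1.f (Quotient.mk r i).out := by
    intro a ha i
    obtain ⟨b, hb, hbi⟩ := hout i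
    have h1 := hcomm b hb _ a.2
    rw [eq_ofF ha] at h1
    have h2 := (commute_ofF_iff b a.1.f).1 h1 (Quotient.mk r i).out
    rw [hbi] at h2
    exact h2
  have hinj : Function.Injective Φ := by
    intro a b hab
    have hΨ : Ψ a = Ψ b := funext fun q => congrArg Prod.fst (congrFun hab q)
    have h1 : (sec (Ψ a))⁻¹ * a = (sec (Ψ b))⁻¹ * b := by
      refine Subtype.ext (SP.ext (funext fun i => ?_) ((hker a).trans (hker b).symm))
      rw [hconst _ (hker a), hconst _ (hker b)]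
      exact congrArg Prod.snd (congrFun hab _)
    rw [hΨ] at h1
    exact mul_left_cancel h1
  have hm : Fintype.card ι = ∑ q : Q, Fintype.card (Fib q) := by
    rw [← Fintype.card_sigma]
    exact Fintype.card_congr (Equiv.sigmaFiberEquiv (Quotient.mk r)).symm
  have hpos : ∀ q : Q, 0 < Fintype.card (Fib q) := fun q =>
    Fintype.card_pos_iff.2 ⟨⟨q.out, q.out_eq⟩⟩
  have htwo : ∀ o : ℕ, o * 2 ≤ 2 ^ o := by
    intro o
    rcases o with _ | o
    · simp
    · have := Nat.lt_two_pow_self (n := o)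
      rw [pow_succ]; omega
  have htwo' : ∀ o : ℕ, 3 ≤ o → o * 2 < 2 ^ o := by
    intro o ho
    obtain ⟨o, rfl⟩ := Nat.exists_eq_add_of_le ho
    have := Nat.lt_two_pow_self (n := o)
    rw [pow_add]; omega
  have hcardΦ : Nat.card (∀ q : Q, Fib q × ZMod 2) = ∏ q : Q, Fintype.card (Fib q) * 2 := by
    rw [Nat.card_eq_fintype_card, Fintype.card_pi]
    exact Finset.prod_congr rfl fun q _ => by rw [Fintype.card_prod, ZMod.card]
  have hA : Nat.card A ≤ Nat.card (∀ q : Q, Fib q × ZMod 2) :=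
    Nat.card_le_card_of_injective Φ hinj
  have hle : ∀ q : Q, Fintype.card (Fib q) ≤ 2 := by
    by_contra hall
    simp only [not_forall, not_le] at hall
    obtain ⟨q0, hq0⟩ := hall
    have h1 : ∏ q : Q, Fintype.card (Fib q) * 2 < ∏ q : Q, 2 ^ Fintype.card (Fib q) :=
      Finset.prod_lt_prod (fun q _ => by have := hpos q; omega) (fun q _ => htwo _)
        ⟨q0, Finset.mem_univ _, htwo' _ hq0⟩
    rw [Finset.prod_pow_eq_pow_sum, ← hm] at h1
    omega
  refine ⟨fun a ha b hb i hai hbi => ?_, fun g hg => ?_⟩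
  · by_contra hne
    have h3 : ({⟨i, rfl⟩, ⟨a.p i, hfib a ha i⟩, ⟨b.p i, hfib b hb i⟩} :
        Finset (Fib (Quotient.mk r i))).card = 3 := by
      rw [Finset.card_insert_of_notMem, Finset.card_pair]
      · exact fun h => hne (congrArg Subtype.val h)
      · simp only [Finset.mem_insert, Finset.mem_singleton, not_or]
        exact ⟨fun h => hai (congrArg Subtype.val h).symm,
          fun h => hbi (congrArg Subtype.val h).symm⟩
    have h4 := Finset.card_le_univ ({⟨i, rfl⟩, ⟨a.p i, hfib a ha i⟩, ⟨b.p i, hfib b hb i⟩} :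
        Finset (Fib (Quotient.mk r i)))
    have h5 := hle (Quotient.mk r i)
    omega
  · have h1 : ∏ q : Q, Fintype.card (Fib q) * 2 ≤ ∏ q : Q, 2 ^ Fintype.card (Fib q) :=
      Finset.prod_le_prod' fun q _ => htwo _
    rw [Finset.prod_pow_eq_pow_sum, ← hm] at h1
    have hbij : Function.Bijective Φ := by
      refine (Nat.bijective_iff_injective_and_card Φ).2 ⟨hinj, ?_⟩
      omega
    obtain ⟨a, ha⟩ := hbij.2 fun q => (Ψ 1 q, g q.out)
    have h2 : (sec (Ψ a))⁻¹ * a ∈ (⊤ : Subgroup A) := Subgroup.mem_top _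
    have h3 : ofF g = ((sec (Ψ a))⁻¹ * a).1 := by
      refine SP.ext (funext fun i => ?_) (hker a).symm
      rw [hconst _ (hker a)]
      have h4 : ((sec (Ψ a))⁻¹ * a).1.f (Quotient.mk r i).out = g (Quotient.mk r i).out :=
        congrArg Prod.snd (congrFun ha (Quotient.mk r i))
      rw [h4]
      obtain ⟨b, hb, hbi⟩ := hout i
      have h5 := hg b hb (Quotient.mk r i).out
      rw [hbi] at h5
      exact h5
    rw [h3]
    exact ((sec (Ψ a))⁻¹ * a).2

end SP

end CfsgLib.Involution.AltCentClasses
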