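import Mathlib

/-!
# The group of signed permutations

`SP ι` is the group of signed permutations of `ι`, the centralizer of a fixed point free involution
in the symmetric group on `ι × ZMod 2`.
-/

set_option autoImplicit false

namespace CfsgLib.Involution.AltCentClasses

/-- A signed permutation: a vector of signs and a permutation. -/
@[ext]
structure SP (ι : Type*) where
  /-- The signs. -/
  f : ι → ZMod 2
  /-- The permutation. -/
  p : Equiv.Perm ι

namespace SP

variable {ι : Type*}

instance : Mul (SP ι) := ⟨fun a b => ⟨fun i => a.f i + b.f (a.p⁻¹ i), a.p * b.p⟩⟩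
instance : One (SP ι) := ⟨⟨0, 1⟩⟩
instance : Inv (SP ι) := ⟨fun a => ⟨fun i => a.f (a.p i), a.p⁻¹⟩⟩

theorem mul_f (a b : SP ι) (i : ι) : (a * b).f i = a.f i + b.f (a.p⁻¹ i) := rfl
@[simp] theorem mul_p (a b : SP ι) : (a * b).p = a.p * b.p := rfl
@[simp] theorem one_f : (1 : SP ι).f = 0 := rfl
@[simp] theorem one_p : (1 : SP ι).p = 1 := rfl
theorem inv_f (a : SP ι) (i : ι) : a⁻¹.f i = a.f (a.p i) := rfl
@[simp] theorem inv_p (a : SP ι) : a⁻¹.p = a.p⁻¹ := rfl

theorem zmod2_add_self (x : ZMod 2) : x + x = 0 := CharTwo.add_self_eq_zero x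

theorem fun_add_self (g : ι → ZMod 2) : g + g = 0 := funext fun i => zmod2_add_self (g i)

instance : Group (SP ι) where
  mul_assoc a b c := by
    refine SP.ext (funext fun i => ?_) (mul_assoc _ _ _)
    simp only [mul_f, mul_p, mul_inv_rev, Equiv.Perm.mul_apply, add_assoc]
  one_mul a := SP.ext (funext fun i => by simp [mul_f]) (one_mul _)
  mul_one a := SP.ext (funext fun i => by simp [mul_f]) (mul_one _)
  inv_mul_cancel a := by
    refine SP.ext (funext fun i => ?_) (inv_mul_cancel _)
    simp only [mul_f, inv_f, inv_p, inv_inv, one_f, Pi.zero_apply]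
    exact zmod2_add_self _

/-- The underlying permutation. -/
def proj : SP ι →* Equiv.Perm ι where
  toFun := SP.p
  map_one' := rfl
  map_mul' _ _ := rfl

@[simp] theorem proj_apply (a : SP ι) : proj a = a.p := rfl

/-- The signed permutation with given signs and trivial permutation. -/
def ofF (g : ι → ZMod 2) : SP ι := ⟨g, 1⟩

@[simp] theorem ofF_f (g : ι → ZMod 2) : (ofF g).f = g := rfl
@[simp] theorem ofF_p (g : ι → ZMod 2) : (ofF g).p = 1 := rfl

theorem ofF_zero : ofF (0 : ι → ZMod 2) = 1 := rfl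

theorem ofF_add (g h : ι → ZMod 2) : ofF (g + h) = ofF g * ofF h :=
  SP.ext (funext fun i => by simp [mul_f]) (by simp)

theorem ofF_injective : Function.Injective (ofF : (ι → ZMod 2) → SP ι) :=
  fun _ _ h => congrArg SP.f h

theorem ofF_mul_self (g : ι → ZMod 2) : ofF g * ofF g = 1 := by
  rw [← ofF_add, fun_add_self, ofF_zero]

theorem ofF_inv (g : ι → ZMod 2) : (ofF g)⁻¹ = ofF g :=
  inv_eq_of_mul_eq_one_right (ofF_mul_self g)

theorem ofF_comm (g h : ι → ZMod 2) : ofF g * ofF h = ofF h * ofF g := by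
  rw [← ofF_add, ← ofF_add, add_comm]

theorem eq_ofF {a : SP ι} (h : a.p = 1) : a = ofF a.f := SP.ext rfl h

/-- The signed permutation with trivial signs. -/
def ofP : Equiv.Perm ι →* SP ι where
  toFun τ := ⟨0, τ⟩
  map_one' := rfl
  map_mul' _ _ := SP.ext (funext fun i => by simp [mul_f]) rfl

@[simp] theorem ofP_f (τ : Equiv.Perm ι) : (ofP τ).f = 0 := rfl
@[simp] theorem ofP_p (τ : Equiv.Perm ι) : (ofP τ).p = τ := rfl

theorem ofP_injective : Function.Injective (ofP : Equiv.Perm ι → SP ι) :=
  fun _ _ h => congrArg SP.p h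

theorem eq_ofF_mul_ofP (a : SP ι) : a = ofF a.f * ofP a.p :=
  SP.ext (funext fun i => by simp [mul_f]) (by simp)

theorem conj_ofF (a : SP ι) (g : ι → ZMod 2) :
    a * ofF g * a⁻¹ = ofF fun i => g (a.p⁻¹ i) := by
  refine SP.ext (funext fun i => ?_) (by simp)
  simp only [mul_f, inv_f, mul_p, ofF_p, ofF_f, mul_one, Equiv.Perm.coe_inv,
    Equiv.apply_symm_apply]
  generalize a.f i = x
  generalize g (a.p.symm i) = y
  revert x y; decide

theorem conj_ofP (τ : Equiv.Perm ι) (a : SP ι) :
    ofP τ * a * (ofP τ)⁻¹ = ⟨fun i => a.f (τ⁻¹ i), τ * a.p * τ⁻¹⟩ := by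
  refine SP.ext (funext fun i => ?_) rfl
  simp [mul_f, inv_f]

theorem conj_ofF' (g : ι → ZMod 2) (a : SP ι) :
    ofF g * a * (ofF g)⁻¹ = ⟨fun i => g i + a.f i + g (a.p⁻¹ i), a.p⟩ := by
  rw [ofF_inv]
  refine SP.ext (funext fun i => ?_) (by simp)
  simp [mul_f]

theorem commute_iff (a b : SP ι) :
    Commute a b ↔ a.p * b.p = b.p * a.p ∧
      ∀ i, a.f i + b.f (a.p⁻¹ i) = b.f i + a.f (b.p⁻¹ i) := by
  rw [commute_iff_eq, SP.ext_iff]
  constructor
  · exact fun h => ⟨h.2, fun i => congrFun h.1 i⟩
  · exact fun h => ⟨funext h.2, h.1⟩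

theorem commute_ofF_iff (a : SP ι) (g : ι → ZMod 2) :
    Commute a (ofF g) ↔ ∀ i, g (a.p i) = g i := by
  rw [commute_iff_eq, ← mul_inv_eq_iff_eq_mul, conj_ofF, ofF_injective.eq_iff, funext_iff]
  constructor
  · intro h i
    simpa using (h (a.p i)).symm
  · intro h i
    simpa using (h (a.p⁻¹ i)).symm

theorem commute_ofP_iff (a : SP ι) (τ : Equiv.Perm ι) :
    Commute a (ofP τ) ↔ a.p * τ = τ * a.p ∧ ∀ i, a.f (τ i) = a.f i := by
  rw [commute_iff]
  simp only [ofP_p, ofP_f, Pi.zero_apply, add_zero, zero_add]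
  refine and_congr_right fun _ => ⟨fun h i => by simpa using h (τ i), fun h i => ?_⟩
  simpa using h (τ⁻¹ i)

theorem sq_iff (a : SP ι) : a * a = 1 ↔ a.p * a.p = 1 ∧ ∀ i, a.f (a.p i) = a.f i := by
  rw [SP.ext_iff]
  simp only [mul_p, one_p, one_f]
  rw [and_comm]
  refine and_congr_right fun hp => ?_
  have hinv : a.p⁻¹ = a.p := inv_eq_of_mul_eq_one_right hp
  rw [funext_iff]
  refine forall_congr' fun i => ?_
  simp only [mul_f, hinv, Pi.zero_apply]
  generalize a.f i = x
  generalize a.f (a.p i) = y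
  revert x y; decide

/-- The central involution. -/
def neg (ι : Type*) : SP ι := ofF 1

theorem neg_commute (a : SP ι) : Commute a (neg ι) := (commute_ofF_iff a 1).2 fun _ => rfl

theorem conj_neg (a : SP ι) : a * neg ι * a⁻¹ = neg ι := conj_ofF a 1

theorem neg_mul_self (ι : Type*) : neg ι * neg ι = 1 := ofF_mul_self 1

theorem neg_ne_one [Nonempty ι] : neg ι ≠ 1 := fun h => by
  have := congrFun (congrArg SP.f h) (Classical.arbitrary ι)
  simp [neg] at this

/-- The elements with trivial permutation. -/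
def base (ι : Type*) : Subgroup (SP ι) := (proj (ι := ι)).ker

theorem mem_base {a : SP ι} : a ∈ base ι ↔ a.p = 1 := MonoidHom.mem_ker

theorem ofF_mem_base (g : ι → ZMod 2) : ofF g ∈ base ι := mem_base.2 rfl

theorem base_normal : (base ι).Normal := MonoidHom.normal_ker _

/-- The unit vector at `i`. -/
def e [DecidableEq ι] (i : ι) : ι → ZMod 2 := Pi.single i 1

theorem e_apply [DecidableEq ι] (i j : ι) : e i j = if j = i then 1 else 0 := by
  simp [e, Pi.single_apply]

theorem e_comp_perm [DecidableEq ι] (σ : Equiv.Perm ι) (i : ι) :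
    (fun x => e i (σ⁻¹ x)) = e (σ i) := by
  funext x
  simp [e_apply, Equiv.symm_apply_eq]

theorem conj_ofF_e [DecidableEq ι] (a : SP ι) (i : ι) :
    a * ofF (e i) * a⁻¹ = ofF (e (a.p i)) := by rw [conj_ofF, e_comp_perm]

/-- The equivalence with pairs. -/
def equivProd : SP ι ≃ (ι → ZMod 2) × Equiv.Perm ι where
  toFun a := (a.f, a.p)
  invFun a := ⟨a.1, a.2⟩
  left_inv _ := rfl
  right_inv _ := rfl

instance [Finite ι] : Finite (SP ι) := Finite.of_equiv _ equivProd.symm

theorem card_eq [Finite ι] :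
    Nat.card (SP ι) = 2 ^ Nat.card ι * (Nat.card ι).factorial := by
  rw [Nat.card_congr equivProd, Nat.card_prod, Nat.card_fun, Nat.card_perm, Nat.card_zmod]

theorem card_base [Finite ι] : Nat.card (base ι) = 2 ^ Nat.card ι := by
  have e : base ι ≃ (ι → ZMod 2) :=
    { toFun := fun a => a.1.f
      invFun := fun g => ⟨ofF g, ofF_mem_base g⟩
      left_inv := fun a => Subtype.ext (eq_ofF (mem_base.1 a.2)).symm
      right_inv := fun _ => rfl }
  rw [Nat.card_congr e, Nat.card_fun, Nat.card_zmod]

section Perm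

/-- The permutation of `ι × ZMod 2` given by a signed permutation. -/
def perm : SP ι →* Equiv.Perm (ι × ZMod 2) where
  toFun a :=
    { toFun := fun x => (a.p x.1, x.2 + a.f (a.p x.1))
      invFun := fun x => (a.p⁻¹ x.1, x.2 + a.f x.1)
      left_inv := fun x => by simp [add_assoc, zmod2_add_self]
      right_inv := fun x => by simp [add_assoc, zmod2_add_self] }
  map_one' := Equiv.ext fun x => by simp
  map_mul' a b := Equiv.ext fun x => by
    refine Prod.ext rfl ?_
    show x.2 + (a * b).f ((a.p * b.p) x.1) = x.2 + b.f (b.p x.1) + a.f (a.p (b.p x.1))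
    rw [mul_f]
    simp only [Equiv.Perm.mul_apply, Equiv.Perm.coe_inv, Equiv.symm_apply_apply]
    abel

@[simp] theorem perm_apply (a : SP ι) (x : ι × ZMod 2) :
    perm a x = (a.p x.1, x.2 + a.f (a.p x.1)) := rfl

theorem perm_injective : Function.Injective (perm : SP ι → Equiv.Perm (ι × ZMod 2)) := by
  intro a b h
  have hp : a.p = b.p := Equiv.ext fun i => congrArg Prod.fst (Equiv.congr_fun h (i, 0))
  refine SP.ext (funext fun i => ?_) hp
  have h2 := congrArg Prod.snd (Equiv.congr_fun h (a.p⁻¹ i, 0))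
  simpa [← hp] using h2

theorem perm_neg (x : ι × ZMod 2) : perm (neg ι) x = (x.1, x.2 + 1) := rfl

theorem sign_addRight : ∀ z : ZMod 2,
    Equiv.Perm.sign (Equiv.addRight z) = if z = 0 then 1 else -1 := by decide

theorem perm_eq (a : SP ι) :
    perm a = Equiv.prodCongrRight (fun i => Equiv.addRight (a.f i)) *
      Equiv.prodCongrLeft (fun _ : ZMod 2 => a.p) := Equiv.ext fun x => by
  obtain ⟨i, b⟩ := x
  rfl

/-- An injective map of `ι × ZMod 2` commuting with the flip comes from a signed permutation. -/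
theorem exists_perm_eq [Finite ι] (x : ι × ZMod 2 → ι × ZMod 2) (hx : Function.Injective x)
    (hflip : ∀ y : ι × ZMod 2, x (y.1, y.2 + 1) = ((x y).1, (x y).2 + 1)) :
    ∃ v : SP ι, ∀ y, x y = perm v y := by
  have h2 : ∀ z w : ZMod 2, z = w ∨ z = w + 1 := by decide
  have hinj : Function.Injective fun i => (x (i, 0)).1 := by
    intro i j hij
    rcases h2 (x (i, 0)).2 (x (j, 0)).2 with h | h
    · exact congrArg Prod.fst (hx (Prod.ext hij h))
    · have hj : x (j, 0 + 1) = x (i, 0) := (hflip (j, 0)).trans (Prod.ext hij.symm h.symm)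
      exact (congrArg Prod.fst (hx hj)).symm
  let σ : Equiv.Perm ι := Equiv.ofBijective _ (Finite.injective_iff_bijective.1 hinj)
  refine ⟨⟨fun i => (x (σ.symm i, 0)).2, σ⟩, fun y => ?_⟩
  obtain ⟨i, z⟩ := y
  simp only [perm_apply, Equiv.symm_apply_apply]
  rcases h2 z 0 with rfl | rfl
  · exact Prod.ext rfl (by simp)
  · rw [hflip (i, 0)]
    exact Prod.ext rfl (by simp [add_comm])

variable [Fintype ι] [DecidableEq ι]

/-- The parity of the signs, as an element of `ZMod 2`. -/
def par (a : SP ι) : ZMod 2 := ∑ i, a.f i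

theorem par_mul (a b : SP ι) : par (a * b) = par a + par b := by
  simp only [par, mul_f, Finset.sum_add_distrib]
  congr 1
  exact Equiv.sum_comp a.p⁻¹ b.f

theorem par_one : par (1 : SP ι) = 0 := by simp [par]

theorem sign_perm (a : SP ι) :
    Equiv.Perm.sign (perm a) = if par a = 0 then 1 else -1 := by
  rw [perm_eq, map_mul, Equiv.Perm.sign_prodCongrRight, Equiv.Perm.sign_prodCongrLeft,
    Finset.prod_const, Finset.card_univ, ZMod.card, sq, Int.units_mul_self, mul_one]
  simp only [sign_addRight, par]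
  suffices H : ∀ s : Finset ι, (∏ x ∈ s, if a.f x = 0 then (1 : ℤˣ) else -1) =
      if ∑ x ∈ s, a.f x = 0 then 1 else -1 from H _
  intro s
  induction s using Finset.induction with
  | empty => simp
  | insert x s hx ih =>
    rw [Finset.prod_insert hx, Finset.sum_insert hx, ih]
    generalize a.f x = u
    generalize ∑ i ∈ s, a.f i = v
    revert u v; decide

/-- The parity of the signs, as a homomorphism. -/
def eps : SP ι →* Multiplicative (ZMod 2) where
  toFun a := Multiplicative.ofAdd (par a)
  map_one' := by simp [par_one]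
  map_mul' a b := by simp [par_mul]

theorem eps_eq_one_iff {a : SP ι} : eps a = 1 ↔ par a = 0 := by
  show Multiplicative.ofAdd (par a) = Multiplicative.ofAdd 0 ↔ _
  exact Multiplicative.ofAdd.apply_eq_iff_eq

/-- The sign of a unit of `ℤ` in `Multiplicative (ZMod 2)`. -/
def unitsToTwo : ℤˣ →* Multiplicative (ZMod 2) where
  toFun z := if z = 1 then 1 else Multiplicative.ofAdd 1
  map_one' := by simp
  map_mul' := by decide

/-- The sign of the permutation, as a homomorphism. -/
def sgn : SP ι →* Multiplicative (ZMod 2) :=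
  (unitsToTwo.comp Equiv.Perm.sign).comp proj

theorem sgn_ofF (g : ι → ZMod 2) : sgn (ofF g) = 1 := by simp [sgn]

theorem sgn_swap {i j : ι} (h : i ≠ j) : sgn (ofP (Equiv.swap i j)) ≠ 1 := by
  simp [sgn, Equiv.Perm.sign_swap h, unitsToTwo]

theorem par_ofF_e (i : ι) : par (ofF (e i)) = 1 := by
  simp [par, e_apply]

theorem par_neg : par (neg ι) = (Fintype.card ι : ZMod 2) := by
  simp [par, neg]

theorem par_ofP (τ : Equiv.Perm ι) : par (ofP τ) = 0 := by simp [par]

theorem par_ofF (g : ι → ZMod 2) : par (ofF g) = ∑ i, g i := rfl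

/-- A central element is `1` or the central involution. -/
theorem central_cases (a : SP ι) (h : ∀ b, Commute a b) : a = 1 ∨ a = neg ι := by
  have hp : a.p = 1 := by
    refine Equiv.ext fun i => ?_
    have := (commute_ofF_iff a (e i)).1 (h _) i
    simp only [e_apply, if_true] at this
    by_contra hne
    rw [if_neg (show a.p i ≠ i from hne)] at this
    exact zero_ne_one this
  have hf : ∀ i j, a.f i = a.f j := fun i j => by
    have := ((commute_ofP_iff a (Equiv.swap i j)).1 (h _)).2 j
    simpa using this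
  rcases isEmpty_or_nonempty ι with hι | ⟨⟨i0⟩⟩
  · exact Or.inl (SP.ext (funext fun i => isEmptyElim i) hp)
  · have h2 : ∀ z : ZMod 2, z = 0 ∨ z = 1 := by decide
    rcases h2 (a.f i0) with h0 | h1
    · exact Or.inl (SP.ext (funext fun i => by rw [hf i i0, h0]; rfl) hp)
    · exact Or.inr (SP.ext (funext fun i => by rw [hf i i0, h1]; rfl) hp)

/-- The twist by the central involution along the parity. -/
def twist : SP ι →* SP ι where
  toFun a := ⟨fun i => a.f i + par a, a.p⟩
  map_one' := SP.ext (funext fun i => by simp [par_one]) rfl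
  map_mul' a b := by
    refine SP.ext (funext fun i => ?_) rfl
    show (a * b).f i + par (a * b) = a.f i + par a + (b.f (a.p⁻¹ i) + par b)
    rw [mul_f, par_mul]
    abel

@[simp] theorem twist_p (a : SP ι) : (twist a).p = a.p := rfl

theorem twist_f (a : SP ι) (i : ι) : (twist a).f i = a.f i + par a := rfl

variable (hev : Even (Fintype.card ι))
include hev

theorem card_cast : (Fintype.card ι : ZMod 2) = 0 :=
  (ZMod.natCast_eq_zero_iff_even).2 hev

theorem par_twist (a : SP ι) : par (twist a) = par a := by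
  simp only [par, twist_f, Finset.sum_add_distrib, Finset.sum_const, Finset.card_univ,
    nsmul_eq_mul, card_cast hev, zero_mul, add_zero]

theorem twist_twist (a : SP ι) : twist (twist a) = a := by
  refine SP.ext (funext fun i => ?_) rfl
  rw [twist_f, par_twist hev, twist_f, add_assoc, zmod2_add_self, add_zero]

theorem twist_neg : twist (neg ι) = neg ι := by
  refine SP.ext (funext fun i => ?_) rfl
  rw [twist_f, par_neg, card_cast hev, add_zero]

end Perm

/-- The centralizer of an involution in `SP ι` has no nontrivial normal subgroup of odd order. -/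
theorem no_normal_odd [Finite ι] {w : SP ι} (hw : w * w = 1) (U : Subgroup (SP ι))
    (hUc : ∀ u ∈ U, Commute u w) (hUn : ∀ x, Commute x w → ∀ u ∈ U, x * u * x⁻¹ ∈ U)
    (hodd : Odd (Nat.card U)) : U = ⊥ := by
  classical
  have hsq : ∀ u ∈ U, u * u = 1 → u = 1 := by
    intro u hu h2
    have h1 : orderOf u ∣ 2 := orderOf_dvd_of_pow_eq_one (by rw [sq, h2])
    have h3 : orderOf u ∣ Nat.card U := Subgroup.orderOf_dvd_natCard U hu
    rcases (Nat.dvd_prime Nat.prime_two).1 h1 with h | h
    · exact orderOf_eq_one_iff.1 h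
    · rw [h] at h3
      exact absurd (even_iff_two_dvd.2 h3) (Nat.not_even_iff_odd.2 hodd)
  obtain ⟨hp2, -⟩ := (sq_iff w).1 hw
  rw [Subgroup.eq_bot_iff_forall]
  intro u hu
  have key : ∀ g : ι → ZMod 2, (∀ i, g (w.p i) = g i) → ∀ i, g (u.p i) = g i := by
    intro g hg
    have hc : Commute w (ofF g) := (commute_ofF_iff w g).2 hg
    have h1 : ofF g * u * (ofF g)⁻¹ * u⁻¹ ∈ U :=
      mul_mem (hUn _ hc.symm u hu) (inv_mem hu)
    have h2 : (ofF g * u * (ofF g)⁻¹ * u⁻¹).p = 1 := by simp
    have h3 : ofF g * u * (ofF g)⁻¹ * u⁻¹ = 1 := by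
      refine hsq _ h1 ?_
      rw [eq_ofF h2, ofF_mul_self]
    rw [mul_inv_eq_one, mul_inv_eq_iff_eq_mul] at h3
    exact (commute_ofF_iff u g).1 h3.symm
  have hcomm : u.p * w.p = w.p * u.p := ((commute_iff u w).1 (hUc u hu)).1
  have hinv : ∀ i, w.p (w.p i) = i := fun i => by
    have := Equiv.congr_fun hp2 i
    simpa using this
  have hsqp : u.p * u.p = 1 := by
    refine Equiv.ext fun i => ?_
    have h1 : u.p i = i ∨ u.p i = w.p i := by
      have := key (fun x => if x = i ∨ x = w.p i then 1 else 0) (fun x => by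
        refine if_congr ⟨?_, ?_⟩ rfl rfl
        · rintro (h | h)
          · exact Or.inr (by rw [← hinv x, h])
          · exact Or.inl (w.p.injective h)
        · rintro (h | h)
          · exact Or.inr (by rw [h])
          · exact Or.inl (by rw [h, hinv])) i
      simp only [true_or, if_true] at this
      by_contra hne
      rw [if_neg hne] at this
      exact zero_ne_one this
    rcases h1 with h | h
    · simp [h]
    · have := Equiv.congr_fun hcomm i
      simp only [Equiv.Perm.mul_apply] at this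
      rw [Equiv.Perm.mul_apply, h, this, h, hinv]
      simp
  have hu2 : (u * u) = ofF (u * u).f := eq_ofF hsqp
  have h4 : u * u = 1 := hsq _ (mul_mem hu hu) (by rw [hu2, ofF_mul_self])
  exact hsq u hu h4

end SP

end CfsgLib.Involution.AltCentClasses
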