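import Cfsg.Agent.Lib.Involution.AltCentClasses.Model

/-!
# A group with an involution centralizer of signed permutation type
-/

set_option autoImplicit false

namespace CfsgLib.Involution.AltCentClasses

open Subgroup

/-- A group with an involution `t`, central in a Sylow `2`-subgroup, whose centralizer is a
signed permutation group extended by an odd kernel inverted by the elements of odd parity. -/
structure Setup (G : Type*) [Group G] (ι : Type*) [Fintype ι] [DecidableEq ι] where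
  /-- The involution. -/
  t : G
  /-- The embedding of the signed permutations. -/
  φ : SP ι →* G
  φ_inj : Function.Injective φ
  φ_neg : φ (SP.neg ι) = t
  /-- The projection of the centralizer. -/
  π : centralizer ({t} : Set G) →* SP ι
  π_φ : ∀ w (h : φ w ∈ centralizer ({t} : Set G)), π ⟨φ w, h⟩ = w
  odd_ker : Odd (Nat.card π.ker)
  inv_ker : ∀ c : centralizer ({t} : Set G), π c = 1 → ∀ w,
    φ w * c * (φ w)⁻¹ = if SP.par w = 0 then (c : G) else (c : G)⁻¹
  even_card : Even (Fintype.card ι)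
  nonempty : Nonempty ι
  sylow : ∃ S : Sylow 2 G, (S : Subgroup G) ≤ centralizer ({t} : Set G)
  no_two : ∀ H : Subgroup G, H.Normal → H.index ≠ 2

namespace Setup

variable {G : Type*} [Group G] {ι : Type*} [Fintype ι] [DecidableEq ι] (D : Setup G ι)

/-- The centralizer of the involution. -/
abbrev Ct : Subgroup G := centralizer ({D.t} : Set G)

/-- The image of the signed permutations. -/
def W : Subgroup G := D.φ.range

/-- The image of a sign vector. -/
def vec (f : ι → ZMod 2) : G := D.φ (SP.ofF f)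

/-- The image of the sign vectors. -/
def E : Subgroup G := (SP.base ι).map D.φ

theorem mem_E {x : G} : x ∈ D.E ↔ ∃ f, D.vec f = x := by
  constructor
  · rintro ⟨a, ha, rfl⟩
    exact ⟨a.f, by rw [vec, ← SP.eq_ofF (SP.mem_base.1 ha)]⟩
  · rintro ⟨f, rfl⟩
    exact ⟨_, SP.ofF_mem_base f, rfl⟩

theorem vec_mem (f : ι → ZMod 2) : D.vec f ∈ D.E := D.mem_E.2 ⟨f, rfl⟩

theorem vec_inj : Function.Injective D.vec := D.φ_inj.comp SP.ofF_injective

theorem vec_add (f g : ι → ZMod 2) : D.vec (f + g) = D.vec f * D.vec g := by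
  simp [vec, SP.ofF_add]

theorem vec_zero : D.vec 0 = 1 := by simp [vec, SP.ofF_zero]

theorem vec_sq (f : ι → ZMod 2) : D.vec f * D.vec f = 1 := by
  rw [← D.vec_add, SP.fun_add_self, D.vec_zero]

theorem vec_one : D.vec 1 = D.t := D.φ_neg

theorem φ_mem (w : SP ι) : D.φ w ∈ D.Ct := by
  rw [mem_centralizer_singleton_iff, ← D.φ_neg, ← map_mul, ← map_mul, (SP.neg_commute w).eq]

theorem W_le : D.W ≤ D.Ct := by
  rintro _ ⟨w, rfl⟩
  exact D.φ_mem w

theorem E_le_W : D.E ≤ D.W := Subgroup.map_le_range _ _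

theorem φ_mem_W (w : SP ι) : D.φ w ∈ D.W := ⟨w, rfl⟩

theorem t_sq : D.t * D.t = 1 := by rw [← D.vec_one, D.vec_sq]

theorem t_ne_one : D.t ≠ 1 := by
  rw [← D.φ_neg]
  haveI := D.nonempty
  exact fun h => SP.neg_ne_one (D.φ_inj (h.trans (map_one D.φ).symm))

/-- The projection, as a function on elements of the centralizer. -/
def pr (x : G) (hx : x ∈ D.Ct) : SP ι := D.π ⟨x, hx⟩

theorem pr_φ (w : SP ι) (h : D.φ w ∈ D.Ct) : D.pr (D.φ w) h = w := D.π_φ w h

theorem pr_mul {x y : G} (hx : x ∈ D.Ct) (hy : y ∈ D.Ct) :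
    D.pr (x * y) (mul_mem hx hy) = D.pr x hx * D.pr y hy :=
  map_mul D.π ⟨x, hx⟩ ⟨y, hy⟩

theorem decomp {x : G} (hx : x ∈ D.Ct) :
    ∃ c : D.Ct, D.π c = 1 ∧ x = (c : G) * D.φ (D.pr x hx) := by
  refine ⟨⟨x, hx⟩ * (⟨D.φ (D.pr x hx), D.φ_mem _⟩)⁻¹, ?_, ?_⟩
  · rw [map_mul, map_inv, D.π_φ]
    exact mul_inv_cancel _
  · simp

theorem ker_commute {c : D.Ct} (hc : D.π c = 1) {w : SP ι} (hw : SP.par w = 0) :
    Commute (c : G) (D.φ w) := by
  have := D.inv_ker c hc w
  rw [if_pos hw, mul_inv_eq_iff_eq_mul] at this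
  exact this.symm

theorem ker_eq_one {c : D.Ct} (hc : D.π c = 1) {w : SP ι} (hw : SP.par w ≠ 0)
    (h : Commute (c : G) (D.φ w)) : (c : G) = 1 := by
  have := D.inv_ker c hc w
  rw [if_neg hw, ← h.eq, mul_inv_cancel_right] at this
  have h2 : (c : G) * c = 1 := by nth_rewrite 2 [this]; exact mul_inv_cancel _
  have h3 : orderOf (⟨c, hc⟩ : D.π.ker) ∣ 2 := orderOf_dvd_of_pow_eq_one (by
    refine Subtype.ext (Subtype.ext ?_)
    simpa [sq] using h2)
  rcases (Nat.dvd_prime Nat.prime_two).1 h3 with h4 | h4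
  · simpa using congrArg (fun z : D.π.ker => ((z : D.Ct) : G)) (orderOf_eq_one_iff.1 h4)
  · have h5 := orderOf_dvd_natCard (⟨c, hc⟩ : D.π.ker)
    rw [h4] at h5
    exact absurd (even_iff_two_dvd.2 h5) (Nat.not_even_iff_odd.2 D.odd_ker)

theorem ker_eq_one_of_vec {c : D.Ct} (hc : D.π c = 1)
    (h : ∀ i, Commute (c : G) (D.vec (SP.e i))) : (c : G) = 1 := by
  obtain ⟨i⟩ := D.nonempty
  exact D.ker_eq_one hc (w := SP.ofF (SP.e i)) (by rw [SP.par_ofF_e]; exact one_ne_zero) (h i)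

/-- `E` is self-centralizing. -/
theorem cent_E {x : G} (h : ∀ f, Commute x (D.vec f)) : x ∈ D.E := by
  have hx : x ∈ D.Ct := mem_centralizer_singleton_iff.2 (by rw [← D.vec_one]; exact (h 1).eq)
  have hpr : (D.pr x hx).p = 1 := by
    refine Equiv.ext fun i => ?_
    have h1 : (⟨x, hx⟩ : D.Ct) * ⟨D.vec (SP.e i), D.φ_mem _⟩ =
        ⟨D.vec (SP.e i), D.φ_mem _⟩ * ⟨x, hx⟩ := Subtype.ext (h (SP.e i)).eq
    have h2 := congrArg D.π h1
    simp only [map_mul, vec, D.π_φ] at h2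
    have := (SP.commute_ofF_iff _ (SP.e i)).1 h2 i
    simp only [SP.e_apply, if_true] at this
    by_contra hne
    have hne' : (D.π ⟨x, hx⟩).p i ≠ i := hne
    rw [if_neg hne'] at this
    exact zero_ne_one this
  obtain ⟨c, hc, hxc⟩ := D.decomp hx
  have hc1 : (c : G) = 1 := D.ker_eq_one_of_vec hc fun i => by
    have h1 := h (SP.e i)
    rw [hxc, SP.eq_ofF hpr] at h1
    have h2 : Commute (D.φ (SP.ofF (D.pr x hx).f)) (D.vec (SP.e i)) :=
      (show Commute (SP.ofF _) (SP.ofF (SP.e i)) from SP.ofF_comm _ _).map D.φ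
    simpa using h1.mul_left h2.inv_left
  rw [hxc, hc1, one_mul, SP.eq_ofF hpr]
  exact D.vec_mem _

theorem conj_vec (w : SP ι) (f : ι → ZMod 2) :
    D.φ w * D.vec f * (D.φ w)⁻¹ = D.vec fun i => f (w.p⁻¹ i) := by
  rw [vec, vec, ← SP.conj_ofF]
  simp

/-- The normalizer of `E` in the centralizer is the image of the signed permutations. -/
theorem mem_W_of_normalizes {x : G} (hx : x ∈ D.Ct)
    (h : ∀ f, x * D.vec f * x⁻¹ ∈ D.E) : x ∈ D.W := by
  obtain ⟨c, hc, hxc⟩ := D.decomp hx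
  have hnorm : ∀ g, (c : G) * D.vec g * (c : G)⁻¹ ∈ D.E := fun g => by
    have h1 := h (fun i => g ((D.pr x hx).p i))
    have h2 := D.conj_vec (D.pr x hx) (fun i => g ((D.pr x hx).p i))
    simp only [Equiv.Perm.coe_inv, Equiv.apply_symm_apply] at h2
    generalize D.pr x hx = v at h1 h2 hxc
    rw [hxc] at h1
    simp only [mul_inv_rev, ← mul_assoc] at h1
    rw [mul_assoc (c : G) (D.φ _), mul_assoc (c : G), h2] at h1
    exact h1
  have hc1 : (c : G) = 1 := D.ker_eq_one_of_vec hc fun i => by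
    obtain ⟨g, hg⟩ := D.mem_E.1 (hnorm (SP.e i))
    have h1 : c * ⟨D.vec (SP.e i), D.φ_mem _⟩ * c⁻¹ = ⟨D.vec g, D.φ_mem _⟩ :=
      Subtype.ext hg.symm
    have h2 := congrArg D.π h1
    simp only [map_mul, map_inv, hc, vec, D.π_φ, one_mul, inv_one, mul_one] at h2
    rw [← SP.ofF_injective h2, eq_mul_inv_iff_mul_eq] at hg
    exact hg.symm
  rw [hxc, hc1, one_mul]
  exact D.φ_mem_W _

theorem E_isPGroup : IsPGroup 2 D.E := by
  rintro ⟨x, hx⟩
  obtain ⟨f, rfl⟩ := D.mem_E.1 hx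
  exact ⟨1, Subtype.ext (by simp [sq, D.vec_sq])⟩

variable [Finite G]

/-- A Sylow subgroup of `G` lies in the signed permutations and contains `E`. -/
theorem exists_sylow : ∃ P : Sylow 2 G, (P : Subgroup G) ≤ D.W ∧ D.E ≤ (P : Subgroup G) := by
  haveI : Fact (Nat.Prime 2) := ⟨Nat.prime_two⟩
  haveI := SP.base_normal (ι := ι)
  have hb : IsPGroup 2 (SP.base ι) := by
    rintro ⟨x, hx⟩
    refine ⟨1, Subtype.ext ?_⟩
    show x ^ 2 ^ 1 = 1
    rw [pow_one, sq, SP.eq_ofF (SP.mem_base.1 hx), SP.ofF_mul_self]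
  obtain ⟨P0, hP0⟩ := hb.exists_le_sylow
  obtain ⟨S, hS⟩ := D.sylow
  let f : (S : Subgroup G) →* SP ι := D.π.comp (Subgroup.inclusion hS)
  have hf : Function.Injective f := by
    rw [injective_iff_map_eq_one]
    intro s hs
    obtain ⟨k, hk⟩ := S.isPGroup' s
    set z : D.π.ker := ⟨Subgroup.inclusion hS s, hs⟩ with hz
    have h1 : z ^ 2 ^ k = 1 := by
      refine Subtype.ext (Subtype.ext ?_)
      simpa [hz] using congrArg Subtype.val hk
    have h2 : orderOf z = 1 := Nat.eq_one_of_dvd_coprimes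
      (Nat.Coprime.pow_left k (D.odd_ker.coprime_two_left))
      (orderOf_dvd_of_pow_eq_one h1) (orderOf_dvd_natCard z)
    have h3 : z = 1 := orderOf_eq_one_iff.1 h2
    exact Subtype.ext (congrArg (fun y : D.π.ker => ((y : D.Ct) : G)) h3)
  have hr : IsPGroup 2 f.range := (IsPGroup.of_surjective S.isPGroup' f.rangeRestrict
    f.rangeRestrict_surjective)
  obtain ⟨P1, hP1⟩ := hr.exists_le_sylow
  have hcard : Nat.card (S : Subgroup G) ≤ Nat.card (P0 : Subgroup (SP ι)) := by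
    rw [Sylow.card_eq_multiplicity P0, ← Sylow.card_eq_multiplicity P1]
    exact le_trans (le_of_eq (Nat.card_congr (MonoidHom.ofInjective hf).toEquiv))
      (Subgroup.card_le_of_le hP1)
  obtain ⟨P, hP⟩ := (P0.isPGroup'.map D.φ).exists_le_sylow
  have hc1 : Nat.card ((P0 : Subgroup (SP ι)).map D.φ) = Nat.card (P0 : Subgroup (SP ι)) :=
    (Nat.card_congr ((P0 : Subgroup (SP ι)).equivMapOfInjective D.φ D.φ_inj).toEquiv).symm
  have hPS : Nat.card (P : Subgroup G) = Nat.card (S : Subgroup G) :=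
    (Sylow.card_eq_multiplicity P).trans (Sylow.card_eq_multiplicity S).symm
  have heq : (P0 : Subgroup (SP ι)).map D.φ = (P : Subgroup G) :=
    Subgroup.eq_of_le_of_card_ge hP (by rw [hc1, hPS]; exact hcard)
  refine ⟨P, ?_, ?_⟩
  · rw [← heq]; exact Subgroup.map_le_range _ _
  · rw [← heq]; exact Subgroup.map_mono hP0

/-- A `2`-subgroup of the centralizer is conjugate there into the signed permutations. -/
theorem conj_into_W (Q : Subgroup G) (hQ : IsPGroup 2 Q) (hQC : Q ≤ D.Ct) :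
    ∃ g ∈ D.Ct, ∀ q ∈ Q, g * q * g⁻¹ ∈ D.W := by
  haveI : Fact (Nat.Prime 2) := ⟨Nat.prime_two⟩
  obtain ⟨P, hPW, -⟩ := D.exists_sylow
  have hPC : (P : Subgroup G) ≤ D.Ct := hPW.trans D.W_le
  let P' : Sylow 2 D.Ct := P.subtype hPC
  obtain ⟨R, hR⟩ := (hQ.comap_subtype (K := D.Ct)).exists_le_sylow
  obtain ⟨g, hg⟩ := MulAction.exists_smul_eq D.Ct R P'
  refine ⟨g, g.2, fun q hq => hPW ?_⟩
  have h1 : (⟨q, hQC hq⟩ : D.Ct) ∈ (R : Subgroup D.Ct) := hR hq
  have h2 : g * ⟨q, hQC hq⟩ * g⁻¹ ∈ ((g • R : Sylow 2 D.Ct) : Subgroup D.Ct) :=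
    ⟨_, h1, rfl⟩
  rw [hg] at h2
  exact h2

/-- Every involution is conjugate to one among the signed permutations. -/
theorem involution_conj {x : G} (hx : x * x = 1) :
    ∃ g w, w * w = 1 ∧ g * x * g⁻¹ = D.φ w := by
  haveI : Fact (Nat.Prime 2) := ⟨Nat.prime_two⟩
  obtain ⟨P, hPW, -⟩ := D.exists_sylow
  have h2 : IsPGroup 2 (Subgroup.zpowers x) := by
    rintro ⟨y, hy⟩
    obtain ⟨k, rfl⟩ := Subgroup.mem_zpowers_iff.1 hy
    refine ⟨1, Subtype.ext ?_⟩
    show (x ^ k) ^ 2 ^ 1 = 1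
    rw [pow_one, sq, ← (Commute.refl x).mul_zpow, hx, one_zpow]
  obtain ⟨R, hR⟩ := h2.exists_le_sylow
  obtain ⟨g, hg⟩ := MulAction.exists_smul_eq G R P
  have h3 : g * x * g⁻¹ ∈ ((g • R : Sylow 2 G) : Subgroup G) :=
    ⟨_, hR (Subgroup.mem_zpowers x), rfl⟩
  rw [hg] at h3
  obtain ⟨w, hw⟩ := hPW h3
  refine ⟨g, w, D.φ_inj ?_, hw.symm⟩
  rw [map_mul, hw, map_one]
  calc g * x * g⁻¹ * (g * x * g⁻¹) = g * (x * x) * g⁻¹ := by group
    _ = 1 := by rw [hx]; group

/-- An involution of the centralizer is conjugate to its projection by an element of the kernel. -/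
theorem cent_involution {x : G} (hx : x ∈ D.Ct) (h2 : x * x = 1) :
    ∃ c : D.Ct, D.π c = 1 ∧ (c : G) * x * (c : G)⁻¹ = D.φ (D.pr x hx) := by
  have hp : IsPGroup 2 (Subgroup.zpowers x) := by
    rintro ⟨y, hy⟩
    obtain ⟨k, rfl⟩ := Subgroup.mem_zpowers_iff.1 hy
    refine ⟨1, Subtype.ext ?_⟩
    show (x ^ k) ^ 2 ^ 1 = 1
    rw [pow_one, sq, ← (Commute.refl x).mul_zpow, h2, one_zpow]
  obtain ⟨g, hg, hgQ⟩ := D.conj_into_W _ hp (Subgroup.zpowers_le.2 hx)
  obtain ⟨w, hw⟩ := hgQ x (Subgroup.mem_zpowers x)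
  obtain ⟨c, hc, hgc⟩ := D.decomp hg
  set v := D.pr g hg with hv
  refine ⟨(⟨D.φ v, D.φ_mem v⟩ : D.Ct)⁻¹ * c * ⟨D.φ v, D.φ_mem v⟩, ?_, ?_⟩
  · simp [hc]
  · have h3 : D.pr x hx = v⁻¹ * w * v := by
      have h4 : (⟨g, hg⟩ : D.Ct) * ⟨x, hx⟩ * (⟨g, hg⟩ : D.Ct)⁻¹ = ⟨D.φ w, D.φ_mem w⟩ :=
        Subtype.ext hw.symm
      have h5 := congrArg D.π h4
      simp only [map_mul, map_inv, D.π_φ] at h5
      rw [← h5, hv]
      simp [pr, mul_assoc]
    rw [h3, map_mul, map_mul, map_inv, hw, hgc]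
    simp only [Subgroup.coe_mul, Subgroup.coe_inv]
    group

/-- The setup twisted by the central involution. -/
def twisted : Setup G ι where
  t := D.t
  φ := D.φ.comp SP.twist
  φ_inj a b h := by
    have h1 := congrArg SP.twist (D.φ_inj h)
    rwa [SP.twist_twist D.even_card, SP.twist_twist D.even_card] at h1
  φ_neg := by rw [MonoidHom.comp_apply, SP.twist_neg D.even_card, D.φ_neg]
  π := SP.twist.comp D.π
  π_φ w h := by
    show SP.twist (D.π ⟨D.φ (SP.twist w), h⟩) = w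
    rw [D.π_φ, SP.twist_twist D.even_card]
  odd_ker := by
    have : (SP.twist.comp D.π).ker = D.π.ker := by
      ext x
      simp only [MonoidHom.mem_ker, MonoidHom.comp_apply]
      constructor
      · intro h
        have := congrArg SP.twist h
        rwa [SP.twist_twist D.even_card, map_one] at this
      · intro h; rw [h, map_one]
    rw [this]
    exact D.odd_ker
  inv_ker c hc w := by
    have hc' : D.π c = 1 := by
      have := congrArg SP.twist hc
      rwa [MonoidHom.comp_apply, SP.twist_twist D.even_card, map_one] at this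
    rw [MonoidHom.comp_apply, D.inv_ker c hc', SP.par_twist D.even_card]
  even_card := D.even_card
  nonempty := D.nonempty
  sylow := D.sylow
  no_two := D.no_two

theorem twisted_vec (f : ι → ZMod 2) :
    D.twisted.vec f = D.vec fun i => f i + ∑ j, f j := rfl

end Setup

/-- An element of the centre of an abstract group of the given type is `1` or the involution. -/
theorem central_eq {K : Type*} [Group K] {ι : Type*} [Fintype ι] [DecidableEq ι] [Nonempty ι]
    (φ : SP ι →* K) (π : K →* SP ι) (hπ : ∀ w, π (φ w) = w) (hodd : Odd (Nat.card π.ker))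
    (hinv : ∀ c, π c = 1 → ∀ w, φ w * c * (φ w)⁻¹ = if SP.par w = 0 then c else c⁻¹)
    (hcent : ∀ y, Commute (φ (SP.neg ι)) y) {z : K} (hz : ∀ y, Commute z y) (hz1 : z ≠ 1) :
    z = φ (SP.neg ι) := by
  have h1 : ∀ b, Commute (π z) b := fun b => by
    have := (hz (φ b)).map π
    rwa [hπ] at this
  have key : ∀ c, π c = 1 → (∀ y, Commute c y) → c = 1 := by
    intro c hc hcc
    have h := hinv c hc (SP.ofF (SP.e (Classical.arbitrary ι)))
    rw [if_neg (by rw [SP.par_ofF_e]; exact one_ne_zero), ← (hcc _).eq,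
      mul_inv_cancel_right] at h
    have h2 : c * c = 1 := by nth_rewrite 2 [h]; exact mul_inv_cancel c
    have h3 : orderOf (⟨c, hc⟩ : π.ker) ∣ 2 := orderOf_dvd_of_pow_eq_one (by
      refine Subtype.ext ?_
      simpa [sq] using h2)
    rcases (Nat.dvd_prime Nat.prime_two).1 h3 with h4 | h4
    · exact congrArg Subtype.val (orderOf_eq_one_iff.1 h4)
    · have h5 := orderOf_dvd_natCard (⟨c, hc⟩ : π.ker)
      rw [h4] at h5
      exact absurd (even_iff_two_dvd.2 h5) (Nat.not_even_iff_odd.2 hodd)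
  rcases SP.central_cases (π z) h1 with h | h
  · exact absurd (key z h hz) hz1
  · have := key (z * (φ (SP.neg ι))⁻¹) (by simp [hπ, h])
      (fun y => (hz y).mul_left (hcent y).inv_left)
    rwa [mul_inv_eq_one] at this

/-- Transport of the data along an isomorphism with a centralizer. -/
theorem Setup.exists_of_iso {G : Type*} [Group G] {ι : Type*} [Fintype ι] [DecidableEq ι]
    [Nonempty ι] {K : Type*} [Group K] (φ : SP ι →* K) (π : K →* SP ι) (hπ : ∀ w, π (φ w) = w)
    (hodd : Odd (Nat.card π.ker))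
    (hinv : ∀ c, π c = 1 → ∀ w, φ w * c * (φ w)⁻¹ = if SP.par w = 0 then c else c⁻¹)
    (hcent : ∀ y, Commute (φ (SP.neg ι)) y) (hev : Even (Fintype.card ι)) {t : G} (ht : t ≠ 1)
    (e : centralizer ({t} : Set G) ≃* K)
    (hS : ∃ S : Sylow 2 G, (S : Subgroup G) ≤ centralizer ({t} : Set G))
    (h2 : ∀ H : Subgroup G, H.Normal → H.index ≠ 2) :
    ∃ D : Setup G ι, D.t = t := by
  have htm : t ∈ centralizer ({t} : Set G) := mem_centralizer_singleton_iff.2 rfl
  have het : e ⟨t, htm⟩ = φ (SP.neg ι) := by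
    refine central_eq φ π hπ hodd hinv hcent (fun y => ?_) ?_
    · have h : Commute (⟨t, htm⟩ : centralizer ({t} : Set G)) (e.symm y) :=
        Subtype.ext (mem_centralizer_singleton_iff.1 (e.symm y).2).symm
      simpa using h.map e
    · intro h
      rw [MulEquiv.map_eq_one_iff] at h
      exact ht (congrArg Subtype.val h)
  let φ' : SP ι →* G := (Subgroup.subtype _).comp (e.symm.toMonoidHom.comp φ)
  refine ⟨{
    t := t
    φ := φ'
    φ_inj := fun a b h => ?_
    φ_neg := ?_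
    π := π.comp e.toMonoidHom
    π_φ := fun w h => ?_
    odd_ker := ?_
    inv_ker := fun c hc w => ?_
    even_card := hev
    nonempty := inferInstance
    sylow := hS
    no_two := h2 }, rfl⟩
  · have h1 : φ a = φ b := e.symm.injective (Subtype.ext h)
    simpa [hπ] using congrArg π h1
  · show ((e.symm (φ (SP.neg ι))) : G) = t
    rw [← het, MulEquiv.symm_apply_apply]
  · exact (congrArg π (e.apply_symm_apply (φ w))).trans (hπ w)
  · have : Nat.card (π.comp e.toMonoidHom).ker = Nat.card π.ker :=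
      Nat.card_congr (e.toEquiv.subtypeEquiv fun x => Iff.rfl)
    rw [this]
    exact hodd
  · have h3 := congrArg (fun y => ((e.symm y : centralizer ({t} : Set G)) : G))
      (hinv (e c) hc w)
    simp only [map_mul, map_inv, MulEquiv.symm_apply_apply, Subgroup.coe_mul,
      Subgroup.coe_inv] at h3
    rw [show φ' w = ((e.symm (φ w)) : G) from rfl, h3]
    split_ifs <;> simp

end CfsgLib.Involution.AltCentClasses
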