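import Cfsg.Agent.Lib.Involution.AltCentClasses.Pairs
import Cfsg.Agent.Lib.Involution.AltCentClasses.Setup

/-!
# The orbit of the involution under the normalizer of `E`
-/

set_option autoImplicit false

namespace CfsgLib.Involution.AltCentClasses

open Subgroup

namespace Setup

variable {G : Type*} [Group G] {ι : Type*} [Fintype ι] [DecidableEq ι] (D : Setup G ι)

/-- The normalizer of `E`. -/
def N : Subgroup G where
  carrier := {g | ∀ x, x ∈ D.E ↔ g * x * g⁻¹ ∈ D.E}
  one_mem' x := by simp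
  mul_mem' := by
    intro a b ha hb x
    rw [show a * b * x * (a * b)⁻¹ = a * (b * x * b⁻¹) * a⁻¹ by group]
    exact (hb x).trans (ha _)
  inv_mem' := by
    intro a ha x
    rw [inv_inv, ha (a⁻¹ * x * a), show a * (a⁻¹ * x * a) * a⁻¹ = x by group]

theorem φ_mem_N (w : SP ι) : D.φ w ∈ D.N := fun x => by
  constructor
  · intro hx
    obtain ⟨f, rfl⟩ := D.mem_E.1 hx
    rw [D.conj_vec]; exact D.vec_mem _
  · intro hx
    obtain ⟨f, hf⟩ := D.mem_E.1 hx
    have : x = D.φ w⁻¹ * D.vec f * (D.φ w⁻¹)⁻¹ := by rw [hf, map_inv]; group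
    rw [this, D.conj_vec]; exact D.vec_mem _

theorem mem_N_of_le [Finite G] {g : G} (h : ∀ f, g * D.vec f * g⁻¹ ∈ D.E) : g ∈ D.N := by
  intro x
  constructor
  · intro hx
    obtain ⟨f, rfl⟩ := D.mem_E.1 hx
    exact h f
  · intro hx
    let F : D.E → D.E := fun y => ⟨g * y * g⁻¹, by
      obtain ⟨f, hf⟩ := D.mem_E.1 y.2
      rw [← hf]; exact h f⟩
    have hinj : Function.Injective F := fun a b hab => Subtype.ext (by
      have h1 : g * (a : G) * g⁻¹ = g * (b : G) * g⁻¹ := congrArg Subtype.val hab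
      simpa using h1)
    obtain ⟨y, hy⟩ := (Finite.injective_iff_surjective.1 hinj) ⟨_, hx⟩
    have h1 : g * (y : G) * g⁻¹ = g * x * g⁻¹ := congrArg Subtype.val hy
    simp only [mul_left_inj, mul_right_inj] at h1
    rw [← h1]; exact y.2

open scoped Classical in
/-- The action of the normalizer on sign vectors. -/
noncomputable def act (g : G) (f : ι → ZMod 2) : ι → ZMod 2 :=
  if h : ∃ f', D.vec f' = g * D.vec f * g⁻¹ then h.choose else 0

theorem vec_act {g : G} (hg : g ∈ D.N) (f : ι → ZMod 2) :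
    D.vec (D.act g f) = g * D.vec f * g⁻¹ := by
  classical
  have h : ∃ f', D.vec f' = g * D.vec f * g⁻¹ := D.mem_E.1 ((hg _).1 (D.vec_mem f))
  rw [act, dif_pos h]
  exact h.choose_spec

theorem act_add {g : G} (hg : g ∈ D.N) (f f' : ι → ZMod 2) :
    D.act g (f + f') = D.act g f + D.act g f' := D.vec_inj (by
  rw [D.vec_add, D.vec_act hg, D.vec_act hg, D.vec_act hg, D.vec_add]
  group)

theorem act_mul {g g' : G} (hg : g ∈ D.N) (hg' : g' ∈ D.N) (f : ι → ZMod 2) :
    D.act (g * g') f = D.act g (D.act g' f) := D.vec_inj (by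
  rw [D.vec_act (mul_mem hg hg'), D.vec_act hg, D.vec_act hg']
  group)

theorem act_one (f : ι → ZMod 2) : D.act 1 f = f := D.vec_inj (by
  rw [D.vec_act (one_mem _)]; group)

theorem act_φ (w : SP ι) (f : ι → ZMod 2) : D.act (D.φ w) f = fun i => f (w.p⁻¹ i) :=
  D.vec_inj (by rw [D.vec_act (D.φ_mem_N w), D.conj_vec])

theorem act_inv_act {g : G} (hg : g ∈ D.N) (f : ι → ZMod 2) : D.act g⁻¹ (D.act g f) = f := by
  rw [← D.act_mul (inv_mem hg) hg, inv_mul_cancel, D.act_one]

theorem act_act_inv {g : G} (hg : g ∈ D.N) (f : ι → ZMod 2) : D.act g (D.act g⁻¹ f) = f := by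
  rw [← D.act_mul hg (inv_mem hg), mul_inv_cancel, D.act_one]

theorem act_injective {g : G} (hg : g ∈ D.N) : Function.Injective (D.act g) :=
  Function.LeftInverse.injective (D.act_inv_act hg)

/-- The action as an additive homomorphism. -/
noncomputable def actHom {g : G} (hg : g ∈ D.N) : (ι → ZMod 2) →+ (ι → ZMod 2) :=
  AddMonoidHom.mk' (D.act g) (D.act_add hg)

theorem act_sum {g : G} (hg : g ∈ D.N) {κ : Type*} (s : Finset κ) (f : κ → ι → ZMod 2) :
    D.act g (∑ k ∈ s, f k) = ∑ k ∈ s, D.act g (f k) := map_sum (D.actHom hg) f s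

theorem act_smul {g : G} (hg : g ∈ D.N) (c : ZMod 2) (f : ι → ZMod 2) :
    D.act g (c • f) = c • D.act g f := by
  have h2 : ∀ z : ZMod 2, z = 0 ∨ z = 1 := by decide
  rcases h2 c with rfl | rfl
  · rw [zero_smul, zero_smul]; exact map_zero (D.actHom hg)
  · rw [one_smul, one_smul]

theorem act_zero {g : G} (hg : g ∈ D.N) : D.act g 0 = 0 := map_zero (D.actHom hg)

/-- Membership in the orbit of the involution. -/
def InO (z : ι → ZMod 2) : Prop := ∃ g ∈ D.N, D.act g 1 = z

theorem inO_one : D.InO 1 := ⟨1, one_mem _, D.act_one _⟩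

theorem inO_act {g : G} (hg : g ∈ D.N) {z : ι → ZMod 2} (hz : D.InO z) : D.InO (D.act g z) := by
  obtain ⟨g', hg', rfl⟩ := hz
  exact ⟨g * g', mul_mem hg hg', D.act_mul hg hg' 1⟩

theorem inO_perm (τ : Equiv.Perm ι) {z : ι → ZMod 2} (hz : D.InO z) :
    D.InO fun i => z (τ i) := by
  have := D.inO_act (D.φ_mem_N (SP.ofP τ⁻¹)) hz
  rwa [D.act_φ, SP.ofP_p, inv_inv] at this

theorem inO_add_swap {z : ι → ZMod 2} (hz : D.InO z) {i j : ι} (h : z i ≠ z j) :
    D.InO (z + SP.e i + SP.e j) := by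
  have h1 := D.inO_perm (Equiv.swap i j) hz
  have h2 : z i + z j = 1 := by
    revert h
    generalize z i = u
    generalize z j = v
    revert u v; decide
  rw [comp_swap, h2, one_smul, ← add_assoc] at h1
  exact h1

/-- A transvection fixing the involution is a transposition. -/
theorem swap_of_transvection {g : G} (hg : g ∈ D.N) (hT : D.act g 1 = 1) {v : ι → ZMod 2}
    (h : ∀ z, D.act g z = z ∨ D.act g z = z + v) (hne : ∃ z, D.act g z ≠ z) :
    ∃ i j, i ≠ j ∧ v = SP.e i + SP.e j ∧ ∀ z, D.act g z = fun x => z (Equiv.swap i j x) := by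
  have hgC : g ∈ D.Ct := by
    have := D.vec_act hg 1
    rw [hT, D.vec_one, eq_mul_inv_iff_mul_eq] at this
    exact mem_centralizer_singleton_iff.2 this.symm
  obtain ⟨w, rfl⟩ := D.mem_W_of_normalizes hgC fun f => (hg _).1 (D.vec_mem f)
  have hact : ∀ z, D.act (D.φ w) z = fun x => z (w.p⁻¹ x) := D.act_φ w
  have hv : ∀ i, w.p i ≠ i → v = SP.e i + SP.e (w.p i) := by
    intro i hi
    have h1 : D.act (D.φ w) (SP.e i) = SP.e (w.p i) := by rw [hact, SP.e_comp_perm]
    rcases h (SP.e i) with h2 | h2 <;> rw [h1] at h2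
    · have := congrFun h2 i
      rw [SP.e_apply, SP.e_apply, if_neg (Ne.symm hi), if_pos rfl] at this
      exact absurd this zero_ne_one
    · rw [h2, ← add_assoc, SP.fun_add_self, zero_add]
  obtain ⟨z, hz⟩ := hne
  obtain ⟨i, hi⟩ : ∃ i, w.p i ≠ i := by
    by_contra hall
    simp only [not_exists, not_not] at hall
    refine hz ?_
    rw [hact]
    funext x
    rw [show w.p⁻¹ x = x from (Equiv.Perm.inv_eq_iff_eq).2 (hall x).symm]
  set j := w.p i with hj
  have hne : i ≠ j := Ne.symm hi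
  have hmem : ∀ x, w.p x ≠ x → x = i ∨ x = j := by
    intro x hx
    have h1 := congrFun ((hv x hx).symm.trans (hv i hi)) x
    rw [Pi.add_apply, Pi.add_apply, SP.e_apply, SP.e_apply, SP.e_apply, SP.e_apply, if_pos rfl,
      if_neg (Ne.symm hx), add_zero] at h1
    by_contra hc
    simp only [not_or] at hc
    rw [if_neg hc.1, if_neg hc.2, add_zero] at h1
    exact one_ne_zero h1
  have hji : w.p j = i := by
    have hjj : w.p j ≠ j := fun h => hi (w.p.injective h)
    rcases hmem (w.p j) (fun h => hjj (w.p.injective h)) with h1 | h1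
    · exact h1
    · exact absurd h1 hjj
  refine ⟨i, j, hne, hv i hi, fun z => ?_⟩
  have hp : w.p = Equiv.swap i j := Equiv.ext fun x => by
    by_cases h1 : x = i
    · subst h1; rw [Equiv.swap_apply_left]
    by_cases h2 : x = j
    · subst h2; rw [Equiv.swap_apply_right, hji]
    rw [Equiv.swap_apply_of_ne_of_ne h1 h2]
    by_contra hx
    exact (hmem x hx).elim h1 h2
  rw [hact, hp, Equiv.swap_inv]

/-- Commuting transvections fixing the involution are disjoint transpositions. -/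
theorem pairs_of_fix {K : Type*} (h : K → G) (c : K → ι → ZMod 2) (hN : ∀ k, h k ∈ D.N)
    (hT : ∀ k, D.act (h k) 1 = 1)
    (htv : ∀ k z, D.act (h k) z = z ∨ D.act (h k) z = z + c k)
    (hne : ∀ k, ∃ z, D.act (h k) z ≠ z) (hcomm : ∀ k l, Commute (h k) (h l))
    (hc : Function.Injective c) :
    ∃ a b : K → ι, Function.Injective (Sum.elim a b) ∧ (∀ k, c k = SP.e (a k) + SP.e (b k)) ∧
      ∀ k z, D.act (h k) z = fun x => z (Equiv.swap (a k) (b k) x) := by
  choose a b hab hcab hact using fun k =>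
    D.swap_of_transvection (hN k) (hT k) (htv k) (hne k)
  refine ⟨a, b, pairs_injective a b hab (fun k l hkl => hc ?_) (fun k l => ?_), hcab, hact⟩
  · obtain ⟨z, hz⟩ := hne k
    have h1 : D.act (h k) z = D.act (h l) z := by rw [hact, hact, hkl]
    rcases htv k z with h2 | h2
    · exact absurd h2 hz
    rcases htv l z with h3 | h3
    · exact absurd (h1.trans h3) hz
    rw [h2, h3] at h1
    exact add_left_cancel h1
  · refine Equiv.ext fun x => ?_
    have h1 : ∀ z : ι → ZMod 2, (fun y => z (Equiv.swap (a l) (b l) (Equiv.swap (a k) (b k) y))) =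
        fun y => z (Equiv.swap (a k) (b k) (Equiv.swap (a l) (b l) y)) := by
      intro z
      have := congrArg (fun g => D.act g z) (hcomm k l).eq
      simp only [D.act_mul (hN k) (hN l), D.act_mul (hN l) (hN k), hact] at this
      exact this
    have h2 := congrFun (h1 (SP.e (Equiv.swap (a k) (b k) (Equiv.swap (a l) (b l) x)))) x
    simp only [SP.e_apply, if_true] at h2
    simp only [Equiv.Perm.mul_apply]
    by_contra hne'
    rw [if_neg fun h' => hne' h'.symm] at h2
    exact zero_ne_one h2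

/-- Disjoint transpositions fixing a point of the orbit pull back to disjoint transpositions. -/
theorem pullback {K : Type*} {g : G} (hg : g ∈ D.N) (a b : K → ι)
    (hinj : Function.Injective (Sum.elim a b))
    (hyab : ∀ k, D.act g 1 (a k) = D.act g 1 (b k)) :
    ∃ a' b' : K → ι, Function.Injective (Sum.elim a' b') ∧
      ∀ k, D.act g⁻¹ (SP.e (a k) + SP.e (b k)) = SP.e (a' k) + SP.e (b' k) := by
  classical
  have hab : ∀ k, a k ≠ b k := fun k h => Sum.inl_ne_inr (hinj (a₁ := Sum.inl k) (a₂ := Sum.inr k) h)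
  let h : K → G := fun k => g⁻¹ * D.φ (SP.ofP (Equiv.swap (a k) (b k))) * g
  let c : K → ι → ZMod 2 := fun k => D.act g⁻¹ (SP.e (a k) + SP.e (b k))
  have hN : ∀ k, h k ∈ D.N := fun k => mul_mem (mul_mem (inv_mem hg) (D.φ_mem_N _)) hg
  have hk : ∀ k z, D.act (h k) z = z + (D.act g z (a k) + D.act g z (b k)) • c k := by
    intro k z
    rw [D.act_mul (mul_mem (inv_mem hg) (D.φ_mem_N _)) hg,
      D.act_mul (inv_mem hg) (D.φ_mem_N _), D.act_φ]
    simp only [SP.ofP_p, Equiv.swap_inv]
    rw [comp_swap, D.act_add (inv_mem hg), D.act_inv_act hg, D.act_smul (inv_mem hg)]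
  have h2 : ∀ z : ZMod 2, z = 0 ∨ z = 1 := by decide
  obtain ⟨a', b', hinj', hc', -⟩ := D.pairs_of_fix h c hN
    (fun k => by rw [hk, hyab, SP.zmod2_add_self, zero_smul, add_zero])
    (fun k z => by
      rw [hk]
      rcases h2 (D.act g z (a k) + D.act g z (b k)) with e | e <;> simp [e])
    (fun k => ⟨D.act g⁻¹ (SP.e (a k)), by
      rw [hk, D.act_act_inv hg, SP.e_apply, SP.e_apply, if_pos rfl, if_neg (hab k).symm, add_zero,
        one_smul]
      intro h0
      have h3 := D.act_injective (inv_mem hg) ((add_eq_left.1 h0).trans (D.act_zero (inv_mem hg)).symm)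
      have h4 := congrFun h3 (a k)
      simp [SP.e_apply, hab k] at h4⟩)
    (fun k l => by
      have hc0 : Commute (SP.ofP (Equiv.swap (a k) (b k))) (SP.ofP (Equiv.swap (a l) (b l))) := by
        refine Commute.map ?_ SP.ofP
        by_cases hkl : k = l
        · subst hkl; exact Commute.refl _
        refine (Equiv.Perm.Disjoint.commute fun x => ?_)
        by_cases hx : x = a k ∨ x = b k
        · refine Or.inr (Equiv.swap_apply_of_ne_of_ne ?_ ?_)
          · rintro rfl
            rcases hx with hx | hx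
            · exact hkl (Sum.inl_injective (hinj (a₁ := Sum.inl l) (a₂ := Sum.inl k) hx)).symm
            · exact Sum.inl_ne_inr (hinj (a₁ := Sum.inl l) (a₂ := Sum.inr k) hx)
          · rintro rfl
            rcases hx with hx | hx
            · exact Sum.inl_ne_inr (hinj (a₁ := Sum.inl k) (a₂ := Sum.inr l) hx.symm)
            · exact hkl (Sum.inr_injective (hinj (a₁ := Sum.inr l) (a₂ := Sum.inr k) hx)).symm
        · simp only [not_or] at hx
          exact Or.inl (Equiv.swap_apply_of_ne_of_ne hx.1 hx.2)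
      exact ((hc0.map D.φ).map (MulAut.conj g⁻¹).toMonoidHom |> fun e => by simpa [h] using e))
    (fun k l hkl => by
      have h3 := congrFun (D.act_injective (inv_mem hg) hkl) (a k)
      rw [Pi.add_apply, Pi.add_apply, SP.e_apply, SP.e_apply, SP.e_apply, SP.e_apply, if_pos rfl,
        if_neg (hab k)] at h3
      by_contra hne
      have e1 : a k ≠ a l := fun e => hne (Sum.inl_injective (hinj (a₁ := Sum.inl k) (a₂ := Sum.inl l) e))
      have e2 : a k ≠ b l := fun e => Sum.inl_ne_inr (hinj (a₁ := Sum.inl k) (a₂ := Sum.inr l) e)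
      rw [if_neg e1, if_neg e2] at h3
      simp at h3)
  exact ⟨a', b', hinj', hc'⟩

/-- Two matchings of disjoint sets give a matching of the union. -/
theorem combine_matchings {X : Type*} [DecidableEq X] {l1 l2 : ℕ} (a1 b1 : Fin l1 → X)
    (a2 b2 : Fin l2 → X) (s1 s2 : Finset X) (hi1 : Function.Injective (Sum.elim a1 b1))
    (hi2 : Function.Injective (Sum.elim a2 b2))
    (hr1 : Finset.univ.image (Sum.elim a1 b1) = s1) (hr2 : Finset.univ.image (Sum.elim a2 b2) = s2)
    (hd : Disjoint s1 s2) :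
    Function.Injective (Sum.elim (Sum.elim a1 a2) (Sum.elim b1 b2)) ∧
      Finset.univ.image (Sum.elim (Sum.elim a1 a2) (Sum.elim b1 b2)) = s1 ∪ s2 := by
  have hev : ∀ s, Sum.elim (Sum.elim a1 a2) (Sum.elim b1 b2) s =
      Sum.elim (Sum.elim a1 b1) (Sum.elim a2 b2) (Equiv.sumSumSumComm _ _ _ _ s) := by
    rintro ((k | k) | (k | k)) <;> rfl
  have hm1 : ∀ s, Sum.elim a1 b1 s ∈ s1 := fun s => hr1 ▸ Finset.mem_image.2 ⟨s, by simp, rfl⟩
  have hm2 : ∀ s, Sum.elim a2 b2 s ∈ s2 := fun s => hr2 ▸ Finset.mem_image.2 ⟨s, by simp, rfl⟩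
  have h : Function.Injective (Sum.elim (Sum.elim a1 b1) (Sum.elim a2 b2)) :=
    hi1.sumElim hi2 fun s s' he => Finset.disjoint_left.1 hd (hm1 s) (he ▸ hm2 s')
  refine ⟨fun s s' he => (Equiv.sumSumSumComm _ _ _ _).injective
    (h ((hev s).symm.trans (he.trans (hev s')))), ?_⟩
  ext x
  rw [Finset.mem_union, ← hr1, ← hr2]
  simp only [Finset.mem_image, Finset.mem_univ, true_and]
  constructor
  · rintro ⟨s, rfl⟩
    rw [hev]
    rcases Equiv.sumSumSumComm _ _ _ _ s with s' | s'
    · exact Or.inl ⟨s', rfl⟩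
    · exact Or.inr ⟨s', rfl⟩
  · rintro (⟨s, rfl⟩ | ⟨s, rfl⟩)
    · exact ⟨(Equiv.sumSumSumComm _ _ _ _).symm (Sum.inl s), by rw [hev, Equiv.apply_symm_apply]; rfl⟩
    · exact ⟨(Equiv.sumSumSumComm _ _ _ _).symm (Sum.inr s), by rw [hev, Equiv.apply_symm_apply]; rfl⟩

/-- An element of the orbit with even support is the involution. -/
theorem inO_even {y : ι → ZMod 2} (hy : D.InO y) (hpar : ∑ i, y i = 0) : y = 1 := by
  obtain ⟨g, hg, rfl⟩ := hy
  set y := D.act g 1 with hy
  set B := Finset.univ.filter fun i => y i = 1 with hB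
  have hBe : Even B.card := by
    rw [← ZMod.natCast_eq_zero_iff_even, hB, ← sum_eq_card_filter, hpar]
  have hBc : Even Bᶜ.card := by
    rw [Finset.card_compl, Nat.even_sub (Finset.card_le_univ B)]
    exact iff_of_true D.even_card hBe
  obtain ⟨l1, a1, b1, hi1, hr1, hl1⟩ := exists_matching B hBe
  obtain ⟨l2, a2, b2, hi2, hr2, hl2⟩ := exists_matching Bᶜ hBc
  let a : Fin l1 ⊕ Fin l2 → ι := Sum.elim a1 a2
  let b : Fin l1 ⊕ Fin l2 → ι := Sum.elim b1 b2
  obtain ⟨hinj, -⟩ := combine_matchings a1 b1 a2 b2 B Bᶜ hi1 hi2 hr1 hr2 disjoint_compl_right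
  have hm1 : ∀ s, Sum.elim a1 b1 s ∈ B := fun s => hr1 ▸ Finset.mem_image.2 ⟨s, by simp, rfl⟩
  have hm2 : ∀ s, Sum.elim a2 b2 s ∈ Bᶜ := fun s => hr2 ▸ Finset.mem_image.2 ⟨s, by simp, rfl⟩
  have hyab : ∀ k, y (a k) = y (b k) := by
    have hz : ∀ i ∈ Bᶜ, y i = 0 := fun i hi => by
      have h2 : ∀ z : ZMod 2, z ≠ 1 → z = 0 := by decide
      refine h2 _ fun h => Finset.mem_compl.1 hi ?_
      simp [hB, h]
    rintro (k | k)
    · exact ((Finset.mem_filter.1 (hm1 (Sum.inl k))).2).trans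
        (Finset.mem_filter.1 (hm1 (Sum.inr k))).2.symm
    · exact (hz _ (hm2 (Sum.inl k))).trans (hz _ (hm2 (Sum.inr k))).symm
  have hcard : Fintype.card ι = 2 * Fintype.card (Fin l1 ⊕ Fin l2) := by
    rw [Fintype.card_sum, Fintype.card_fin, Fintype.card_fin, mul_add, ← hl1, ← hl2,
      Finset.card_add_card_compl]
  obtain ⟨a', b', hinj', hc'⟩ := D.pullback hg a b hinj hyab
  have hsum : D.act g⁻¹ 1 = 1 := by
    conv_rhs => rw [← sum_pairs_all a' b' hinj' hcard, ← Finset.sum_congr rfl fun k _ => hc' k,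
      ← D.act_sum (inv_mem hg), sum_pairs_all a b hinj hcard]
  have := D.act_act_inv hg 1
  rw [hsum] at this
  exact this

end Setup

end CfsgLib.Involution.AltCentClasses
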