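import Cfsg.Agent.Lib.Involution.AltCentClasses.Orbit

/-!
# The shape of the orbit of the involution under the normalizer of `E`
-/

set_option autoImplicit false

namespace CfsgLib.Involution.AltCentClasses

open Subgroup

namespace Setup

variable {G : Type*} [Group G] {ι : Type*} [Fintype ι] [DecidableEq ι] (D : Setup G ι)

include D in
theorem sum_one_eq_zero : ∑ i, (1 : ι → ZMod 2) i = 0 := by
  simp [ZMod.natCast_eq_zero_iff_even.2 D.even_card]

theorem sum_e_eq (i : ι) : ∑ x, SP.e i x = 1 := by simp [SP.e_apply]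

/-- A point of the orbit of odd support is a unit vector or the complement of one; not both kinds
occur when there are more than two points. -/
theorem inO_odd {y : ι → ZMod 2} (hy : D.InO y) (hne : y ≠ 1) :
    ((∃ i, y = SP.e i) ∨ ∃ i, y = 1 + SP.e i) ∧
      ∀ i j, y = SP.e i → D.InO (1 + SP.e j) → Fintype.card ι = 2 := by
  classical
  have h2 : ∀ z : ZMod 2, z = 0 ∨ z = 1 := by decide
  have hodd : ∀ z, D.InO z → z ≠ 1 → ∑ x, z x = 1 := fun z hz hz1 =>
    (h2 _).resolve_left fun h => hz1 (D.inO_even hz h)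
  obtain ⟨g, hg, rfl⟩ := hy
  set y := D.act g 1 with hy
  have hyO : D.InO y := ⟨g, hg, rfl⟩
  have hysum := hodd y hyO hne
  set B := Finset.univ.filter fun i => y i = 1 with hB
  have hmem : ∀ x, x ∈ B ↔ y x = 1 := fun x => by simp [hB]
  have hz0 : ∀ x, x ∉ B → y x = 0 := fun x hx => (h2 _).resolve_right fun h => hx ((hmem x).2 h)
  have hBodd : Odd B.card := by
    rw [← Nat.not_even_iff_odd, ← ZMod.natCast_eq_zero_iff_even, hB, ← sum_eq_card_filter, hysum]
    exact one_ne_zero
  have hBcodd : Odd Bᶜ.card := by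
    rw [Finset.card_compl, Nat.odd_sub (Finset.card_le_univ B)]
    exact iff_of_false (Nat.not_odd_iff_even.2 D.even_card) (Nat.not_even_iff_odd.2 hBodd)
  -- what follows from a choice of a point inside and a point outside
  have main : ∀ i j, y i = 1 → y j = 0 →
      ∃ Dv : (ι → ZMod 2) →+ ZMod 2, Dv (SP.e i) = 0 ∧ Dv (SP.e j) = 1 ∧ Dv y = 0 ∧ Dv 1 = 1 ∧
        ∀ z, D.InO z → z ≠ 1 → Dv z = 1 → z = y + SP.e i + SP.e j := by
    intro i j hi hj
    have hiB : i ∈ B := (hmem i).2 hi
    have hjB : j ∈ Bᶜ := Finset.mem_compl.2 fun h => by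
      rw [hmem, hj] at h; exact zero_ne_one h
    have he1 : Even (B.erase i).card := by
      rw [Finset.card_erase_of_mem hiB]; exact Nat.Odd.sub_odd hBodd odd_one
    have he2 : Even (Bᶜ.erase j).card := by
      rw [Finset.card_erase_of_mem hjB]; exact Nat.Odd.sub_odd hBcodd odd_one
    obtain ⟨l1, a1, b1, hi1, hr1, hl1⟩ := exists_matching _ he1
    obtain ⟨l2, a2, b2, hi2, hr2, hl2⟩ := exists_matching _ he2
    let a : Fin l1 ⊕ Fin l2 → ι := Sum.elim a1 a2
    let b : Fin l1 ⊕ Fin l2 → ι := Sum.elim b1 b2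
    have hdis : Disjoint (B.erase i) (Bᶜ.erase j) :=
      disjoint_compl_right.mono (Finset.erase_subset _ _) (Finset.erase_subset _ _)
    obtain ⟨hinj, hrange⟩ := combine_matchings a1 b1 a2 b2 _ _ hi1 hi2 hr1 hr2 hdis
    have hm1 : ∀ s, y (Sum.elim a1 b1 s) = 1 := fun s => (hmem _).1
      (Finset.mem_of_mem_erase (hr1 ▸ Finset.mem_image.2 ⟨s, by simp, rfl⟩))
    have hm2 : ∀ s, y (Sum.elim a2 b2 s) = 0 := fun s => hz0 _ (Finset.mem_compl.1
      (Finset.mem_of_mem_erase (hr2 ▸ Finset.mem_image.2 ⟨s, by simp, rfl⟩)))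
    have hyab : ∀ k, D.act g 1 (a k) = D.act g 1 (b k) := by
      rintro (k | k)
      · exact (hm1 (Sum.inl k)).trans (hm1 (Sum.inr k)).symm
      · exact (hm2 (Sum.inl k)).trans (hm2 (Sum.inr k)).symm
    obtain ⟨a', b', hinj', hc'⟩ := D.pullback hg a b hinj hyab
    have hcard : Fintype.card ι = 2 * Fintype.card (Fin l1 ⊕ Fin l2) + 2 := by
      have h3 := Finset.card_add_card_compl B
      have h4 := Finset.card_erase_add_one hiB
      have h5 := Finset.card_erase_add_one hjB
      rw [Fintype.card_sum, Fintype.card_fin, Fintype.card_fin]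
      omega
    have hrc : (Finset.univ.image (Sum.elim a' b'))ᶜ.card = 2 := by
      rw [Finset.card_compl, Finset.card_image_of_injective _ hinj', Finset.card_univ,
        Fintype.card_sum]
      omega
    obtain ⟨p, q, hpq, hpqs⟩ := Finset.card_eq_two.1 hrc
    have hnot : ∀ s, Sum.elim a' b' s ≠ p ∧ Sum.elim a' b' s ≠ q := fun s => by
      have h3 : Sum.elim a' b' s ∉ (Finset.univ.image (Sum.elim a' b'))ᶜ := by simp
      rw [hpqs] at h3
      simpa using h3
    let Dv : (ι → ZMod 2) →+ ZMod 2 := AddMonoidHom.mk'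
      (fun z => D.act g⁻¹ z p + D.act g⁻¹ z q) fun z z' => by
        simp only [D.act_add (inv_mem hg), Pi.add_apply]; abel
    have hsum0 : ∀ k, Dv (SP.e (a k) + SP.e (b k)) = 0 := fun k => by
      show D.act g⁻¹ _ p + D.act g⁻¹ _ q = 0
      rw [hc']
      have e1 := hnot (Sum.inl k)
      have e2 := hnot (Sum.inr k)
      simp only [Sum.elim_inl, Sum.elim_inr] at e1 e2
      simp [SP.e_apply, e1.1.symm, e1.2.symm, e2.1.symm, e2.2.symm]
    have hDy : Dv y = 0 := by
      show D.act g⁻¹ y p + D.act g⁻¹ y q = 0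
      rw [hy, D.act_inv_act hg]
      exact SP.zmod2_add_self _
    have hsplit : ∀ x, x ≠ i → x ≠ j → x ∈ Finset.univ.image (Sum.elim a b) := by
      intro x hxi hxj
      rw [hrange, Finset.mem_union, Finset.mem_erase, Finset.mem_erase, Finset.mem_compl]
      by_cases hx : x ∈ B
      · exact Or.inl ⟨hxi, hx⟩
      · exact Or.inr ⟨hxj, hx⟩
    have hij : i ≠ j := fun h => by rw [h, hj] at hi; exact zero_ne_one hi
    have hy_eq : y = SP.e i + ∑ k, (SP.e (a1 k) + SP.e (b1 k)) := by
      funext x
      rw [Pi.add_apply, sum_pairs a1 b1 hi1, hr1, SP.e_apply]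
      by_cases hx : x = i
      · subst hx; simp [hi]
      · by_cases hxB : x ∈ B
        · rw [if_neg hx, if_pos (Finset.mem_erase.2 ⟨hx, hxB⟩), (hmem x).1 hxB, zero_add]
        · rw [if_neg hx, if_neg fun h => hxB (Finset.mem_of_mem_erase h), hz0 x hxB, zero_add]
    have hDi : Dv (SP.e i) = 0 := by
      have h3 : Dv y = Dv (SP.e i) := by
        rw [hy_eq, map_add, map_sum]
        have : ∀ k ∈ Finset.univ, Dv (SP.e (a1 k) + SP.e (b1 k)) = 0 := fun k _ => hsum0 (Sum.inl k)
        rw [Finset.sum_eq_zero this, add_zero]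
      rw [← h3, hDy]
    have hrest : (1 : ι → ZMod 2) = SP.e i + SP.e j + ∑ k, (SP.e (a k) + SP.e (b k)) := by
      funext x
      rw [Pi.add_apply, Pi.add_apply, sum_pairs a b hinj, Pi.one_apply, SP.e_apply, SP.e_apply]
      by_cases hxi : x = i
      · subst hxi
        rw [if_pos rfl, if_neg hij, if_neg, add_zero, add_zero]
        rw [hrange]
        simp [Finset.mem_union, Finset.mem_erase, hiB]
      · by_cases hxj : x = j
        · subst hxj
          rw [if_neg hxi, if_pos rfl, if_neg, zero_add, add_zero]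
          rw [hrange]
          simp only [Finset.mem_union, Finset.mem_erase, not_or, not_and]
          exact ⟨fun _ => Finset.mem_compl.1 hjB, fun h => absurd rfl h⟩
        · rw [if_neg hxi, if_neg hxj, if_pos (hsplit x hxi hxj), zero_add, zero_add]
    -- the transvection
    set T := g * D.φ (SP.ofP (Equiv.swap p q)) * g⁻¹ with hTdef
    have hTN : T ∈ D.N := mul_mem (mul_mem hg (D.φ_mem_N _)) (inv_mem hg)
    set v := D.act g (SP.e p + SP.e q) with hv
    have hTz : ∀ z, D.act T z = z + Dv z • v := fun z => by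
      rw [hTdef, D.act_mul (mul_mem hg (D.φ_mem_N _)) (inv_mem hg), D.act_mul hg (D.φ_mem_N _),
        D.act_φ]
      simp only [SP.ofP_p, Equiv.swap_inv]
      rw [comp_swap, D.act_add hg, D.act_act_inv hg, D.act_smul hg]
      rfl
    have hv_eq : v = y + 1 + SP.e i + SP.e j := by
      have h3 : SP.e p + SP.e q = 1 + ∑ k, (SP.e (a' k) + SP.e (b' k)) := by
        funext x
        rw [Pi.add_apply, Pi.add_apply, sum_pairs a' b' hinj', Pi.one_apply, SP.e_apply,
          SP.e_apply]
        have hiff : x ∈ Finset.univ.image (Sum.elim a' b') ↔ ¬(x = p ∨ x = q) := by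
          rw [← not_iff_not, ← Finset.mem_compl, hpqs, not_not]
          simp
        by_cases hxp : x = p
        · subst hxp
          rw [if_pos rfl, if_neg hpq, if_neg fun h => hiff.1 h (Or.inl rfl)]
        · by_cases hxq : x = q
          · subst hxq
            rw [if_neg hxp, if_pos rfl, if_neg fun h => hiff.1 h (Or.inr rfl), zero_add, add_zero]
          · rw [if_neg hxp, if_neg hxq, if_pos (hiff.2 (by simp [hxp, hxq]))]
            decide
      rw [hv, h3, D.act_add hg, ← hy, Finset.sum_congr rfl fun k _ => (hc' k).symm,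
        ← D.act_sum (inv_mem hg), D.act_act_inv hg]
      conv_rhs => rw [hrest]
      calc y + ∑ k, (SP.e (a k) + SP.e (b k))
          = y + ∑ k, (SP.e (a k) + SP.e (b k)) + (SP.e i + SP.e i) + (SP.e j + SP.e j) := by
            rw [SP.fun_add_self, SP.fun_add_self, add_zero, add_zero]
        _ = _ := by abel
    have hvsum : ∑ x, v x = 1 := by
      rw [hv_eq]
      simp only [Pi.add_apply, Finset.sum_add_distrib, hysum, D.sum_one_eq_zero, sum_e_eq]
      decide
    have hD1 : Dv 1 = 1 := by
      refine (h2 _).resolve_left fun h => ?_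
      obtain ⟨z, hz⟩ : ∃ z, D.act T z ≠ z := by
        refine ⟨D.act g (SP.e p), ?_⟩
        rw [hTz]
        have hD : Dv (D.act g (SP.e p)) = 1 := by
          show D.act g⁻¹ _ p + D.act g⁻¹ _ q = 1
          rw [D.act_inv_act hg]
          simp [SP.e_apply, hpq.symm]
        rw [hD, one_smul]
        intro h3
        rw [add_eq_left] at h3
        rw [h3] at hvsum
        simp at hvsum
      obtain ⟨a0, b0, -, hab0, -⟩ := D.swap_of_transvection hTN
        (by rw [hTz, h, zero_smul, add_zero]) (v := v)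
        (fun z => by rw [hTz]; rcases h2 (Dv z) with e | e <;> simp [e]) ⟨z, hz⟩
      rw [hab0] at hvsum
      simp only [Pi.add_apply, Finset.sum_add_distrib, sum_e_eq] at hvsum
      exact absurd hvsum (by decide)
    have hDj : Dv (SP.e j) = 1 := by
      have h3 : Dv 1 = Dv (SP.e j) := by
        rw [hrest, map_add, map_add, map_sum, Finset.sum_eq_zero (fun k _ => hsum0 k), hDi,
          zero_add, add_zero]
      rw [← h3, hD1]
    refine ⟨Dv, hDi, hDj, hDy, hD1, fun z hz hz1 hDz => ?_⟩
    have h3 : D.InO (z + v) := by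
      have := D.inO_act hTN hz
      rwa [hTz, hDz, one_smul] at this
    have h4 : z + v = 1 := D.inO_even h3 (by
      simp only [Pi.add_apply, Finset.sum_add_distrib, hodd z hz hz1, hvsum]; decide)
    calc z = z + v + v := by rw [add_assoc, SP.fun_add_self, add_zero]
      _ = 1 + v := by rw [h4]
      _ = y + SP.e i + SP.e j + (1 + 1) := by rw [hv_eq]; abel
      _ = _ := by rw [SP.fun_add_self, add_zero]
  obtain ⟨i, hiB⟩ : B.Nonempty := Finset.card_pos.1 hBodd.pos
  obtain ⟨j, hjB⟩ : Bᶜ.Nonempty := Finset.card_pos.1 hBcodd.pos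
  have hi : y i = 1 := (hmem i).1 hiB
  have hj : y j = 0 := hz0 j (Finset.mem_compl.1 hjB)
  obtain ⟨Dv, hDi, hDj, hDy, hD1, hDz⟩ := main i j hi hj
  constructor
  · by_cases h1 : ∀ x, y x = 1 → x = i
    · refine Or.inl ⟨i, funext fun x => ?_⟩
      rw [SP.e_apply]
      by_cases hx : x = i
      · subst hx; rw [if_pos rfl, hi]
      · rw [if_neg hx]; exact (h2 _).resolve_right fun h => hx (h1 x h)
    by_cases h3 : ∀ x, y x = 0 → x = j
    · refine Or.inr ⟨j, funext fun x => ?_⟩
      rw [Pi.add_apply, Pi.one_apply, SP.e_apply]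
      by_cases hx : x = j
      · subst hx; rw [if_pos rfl, hj]; decide
      · rw [if_neg hx, add_zero]; exact (h2 _).resolve_left fun h => hx (h3 x h)
    exfalso
    simp only [not_forall, exists_prop] at h1 h3
    obtain ⟨k, hk, hki⟩ := h1
    obtain ⟨l, hl, hlj⟩ := h3
    have hil : i ≠ l := fun h => by rw [h, hl] at hi; exact zero_ne_one hi
    have hkj : k ≠ j := fun h => by rw [h, hj] at hk; exact zero_ne_one hk
    have hkl : k ≠ l := fun h => by rw [h, hl] at hk; exact zero_ne_one hk
    have key : ∀ a b, y a = 1 → y b = 0 → a ≠ i ∨ b ≠ j →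
        Dv (y + SP.e a + SP.e b) = 0 := by
      intro a b ha hb hab
      have habne : a ≠ b := fun h => by rw [h, hb] at ha; exact zero_ne_one ha
      have hO := D.inO_add_swap hyO (i := a) (j := b) (by rw [ha, hb]; exact one_ne_zero)
      have hne1 : y + SP.e a + SP.e b ≠ 1 := fun h => by
        have h4 := congrFun h a
        simp [SP.e_apply, ha, habne] at h4
      refine (h2 _).resolve_right fun h => ?_
      have h4 := hDz _ hO hne1 h
      rw [add_assoc, add_assoc] at h4
      have h5 := add_left_cancel h4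
      rcases hab with hai | hbj
      · have h6 := congrFun h5 a
        have haj : a ≠ j := fun h7 => by rw [h7, hj] at ha; exact zero_ne_one ha
        simp [SP.e_apply, habne, hai, haj] at h6
      · have h6 := congrFun h5 b
        have hbi : b ≠ i := fun h7 => by rw [h7, hi] at hb; exact one_ne_zero hb
        simp [SP.e_apply, habne.symm, hbi, hbj] at h6
    have e1 := key i l hi hl (Or.inr hlj)
    have e2 := key k j hk hj (Or.inl hki)
    have e3 := key k l hk hl (Or.inl hki)
    simp only [map_add, hDy, hDi, hDj, zero_add] at e1 e2 e3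
    rw [e1, add_zero] at e3
    rw [e3] at e2
    exact absurd e2 (by decide)
  · intro i' j' hy' hO'
    by_contra hcard
    have hi' : y i' = 1 := by rw [hy']; simp [SP.e_apply]
    obtain ⟨j0, hj0⟩ : ∃ j0, j0 ≠ i' := by
      haveI := D.nonempty
      by_contra h
      simp only [not_exists, not_not] at h
      have h1 : Fintype.card ι ≤ 1 := Fintype.card_le_one_iff.2 fun a b => (h a).trans (h b).symm
      have h3 : 0 < Fintype.card ι := Fintype.card_pos
      obtain ⟨k, hk⟩ := D.even_card
      omega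
    have hj0' : y j0 = 0 := by rw [hy']; simp [SP.e_apply, hj0]
    obtain ⟨Dv', hD'i, -, -, hD'1, hD'z⟩ := main i' j0 hi' hj0'
    have hO1 : D.InO (1 + SP.e i') := by
      have := D.inO_perm (Equiv.swap j' i') hO'
      rwa [show (fun x => ((1 : ι → ZMod 2) + SP.e j') (Equiv.swap j' i' x)) = 1 + SP.e i' from
        funext fun x => by simp [SP.e_apply, Equiv.swap_apply_eq_iff]] at this
    have h4 := hD'z _ hO1 (fun h => by
      have h5 := congrFun h i'
      simp [SP.e_apply] at h5) (by rw [map_add, hD'1, hD'i, add_zero])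
    rw [hy', SP.fun_add_self, zero_add] at h4
    obtain ⟨l, hl⟩ : ∃ l, l ∉ ({i', j0} : Finset ι) := by
      by_contra hall
      simp only [not_exists, not_not] at hall
      refine hcard ?_
      rw [← Finset.card_univ, show (Finset.univ : Finset ι) = {i', j0} from
        Finset.ext fun x => iff_of_true (Finset.mem_univ x) (hall x), Finset.card_pair hj0.symm]
    simp only [Finset.mem_insert, Finset.mem_singleton, not_or] at hl
    have h5 := congrFun h4 l
    simp [SP.e_apply, hl.1, hl.2] at h5

/-- The orbit consists of the involution and complements of unit vectors. -/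
def Good : Prop := ∀ z, D.InO z → z = 1 ∨ ∃ i, z = 1 + SP.e i

/-- After twisting if necessary, the orbit has the good shape. -/
theorem exists_good [Finite G] : ∃ D' : Setup G ι, D'.t = D.t ∧ D'.Good := by
  classical
  by_cases hG : D.Good
  · exact ⟨D, rfl, hG⟩
  refine ⟨D.twisted, rfl, fun z hz => ?_⟩
  simp only [Good, not_forall, not_or, not_exists] at hG
  obtain ⟨z0, hz0, hne, hno⟩ := hG
  have h := D.inO_odd hz0 hne
  obtain ⟨i0, hi0⟩ := h.1.resolve_right fun ⟨i, hi⟩ => hno i hi
  have hcard : Fintype.card ι ≠ 2 := by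
    intro hc
    obtain ⟨a, b, hab, huniv⟩ := Finset.card_eq_two.1 (by rwa [Finset.card_univ] :
      (Finset.univ : Finset ι).card = 2)
    have hmem : ∀ x, x = a ∨ x = b := fun x => by
      have := Finset.mem_univ x
      rw [huniv] at this
      simpa using this
    obtain ⟨j, hj⟩ : ∃ j, j ≠ i0 := ⟨if i0 = a then b else a, by
      split_ifs with h1
      · rw [h1]; exact hab.symm
      · exact Ne.symm h1⟩
    refine hno j (hi0.trans (funext fun x => ?_))
    rw [Pi.add_apply, Pi.one_apply, SP.e_apply, SP.e_apply]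
    have hx : x = i0 ∨ x = j := by
      rcases hmem x with h1 | h1 <;> rcases hmem i0 with h3 | h3 <;> rcases hmem j with h4 | h4 <;>
        simp_all
    rcases hx with rfl | rfl
    · simp [hj.symm]
    · simp [hj]; decide
  let tw : (ι → ZMod 2) → ι → ZMod 2 := fun f x => f x + ∑ y, f y
  have htw : ∀ f, tw (tw f) = f := fun f => by
    have := SP.twist_twist D.even_card (SP.ofF f)
    exact congrArg SP.f this
  obtain ⟨g, hg, rfl⟩ := hz
  have hE : ∀ x, x ∈ D.twisted.E ↔ x ∈ D.E := fun x => by
    rw [D.twisted.mem_E, D.mem_E]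
    constructor
    · rintro ⟨f, hf⟩; exact ⟨tw f, by rw [← hf, D.twisted_vec]⟩
    · rintro ⟨f, hf⟩
      refine ⟨tw f, ?_⟩
      rw [← hf, D.twisted_vec]
      exact congrArg D.vec (htw f)
  have hg' : g ∈ D.N := fun x => by rw [← hE, ← hE]; exact hg x
  have hact : D.act g 1 = tw (D.twisted.act g 1) := D.vec_inj (by
    rw [D.vec_act hg', show D.vec (tw (D.twisted.act g 1)) = D.twisted.vec (D.twisted.act g 1) from
      (D.twisted_vec _).symm, D.twisted.vec_act hg, D.vec_one, D.twisted.vec_one]
    rfl)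
  have hO : D.InO (tw (D.twisted.act g 1)) := ⟨g, hg', hact⟩
  have htwone : tw 1 = 1 := by
    funext x; show (1 : ι → ZMod 2) x + _ = _; rw [D.sum_one_eq_zero, add_zero]
  rw [← htw (D.twisted.act g 1)]
  generalize tw (D.twisted.act g 1) = u at hO
  by_cases hu : u = 1
  · exact Or.inl (by rw [hu, htwone])
  refine Or.inr ?_
  rcases (D.inO_odd hO hu).1 with ⟨i, rfl⟩ | ⟨i, rfl⟩
  · exact ⟨i, funext fun x => by
      show SP.e i x + ∑ y, SP.e i y = (1 : ι → ZMod 2) x + SP.e i x
      rw [sum_e_eq, Pi.one_apply, add_comm]⟩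
  · exact absurd (h.2 i0 i hi0 hO) hcard

end Setup

end CfsgLib.Involution.AltCentClasses
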