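import Cfsg.Agent.Lib.Involution.AltCentClasses.Model

/-!
# Disjoint pairs of points and commuting transpositions
-/

set_option autoImplicit false

namespace CfsgLib.Involution.AltCentClasses

open Equiv

variable {X K : Type*}

theorem pairs_injective [DecidableEq X] (a b : K → X) (hab : ∀ k, a k ≠ b k)
    (hne : ∀ k l, Equiv.swap (a k) (b k) = Equiv.swap (a l) (b l) → k = l)
    (hc : ∀ k l, Commute (Equiv.swap (a k) (b k)) (Equiv.swap (a l) (b l))) :
    Function.Injective (Sum.elim a b) := by
  have key : ∀ k l, k ≠ l → a k ≠ a l ∧ a k ≠ b l ∧ b k ≠ a l ∧ b k ≠ b l := by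
    intro k l hkl
    have h1 : Equiv.swap (Equiv.swap (a k) (b k) (a l)) (Equiv.swap (a k) (b k) (b l)) =
        Equiv.swap (a l) (b l) := by
      rw [Equiv.swap_apply_apply, (hc k l).eq, mul_inv_cancel_right]
    have h2 : ∀ x, (x = a l ∨ x = b l) → Equiv.swap (a l) (b l) x ≠ x := by
      rintro x (rfl | rfl)
      · rw [Equiv.swap_apply_left]; exact (hab l).symm
      · rw [Equiv.swap_apply_right]; exact hab l
    have h3 : ∀ x, Equiv.swap (a l) (b l) x ≠ x → x = a l ∨ x = b l := fun x hx =>
      (Equiv.swap_apply_ne_self_iff.1 hx).2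
    have h4 : ∀ x, (x = a l ∨ x = b l) →
        Equiv.swap (a k) (b k) x = a l ∨ Equiv.swap (a k) (b k) x = b l := by
      intro x hx
      apply h3
      rw [← h1]
      rcases hx with rfl | rfl
      · rw [Equiv.swap_apply_left]; exact fun h => hab l ((Equiv.swap _ _).injective h).symm
      · rw [Equiv.swap_apply_right]; exact fun h => hab l ((Equiv.swap _ _).injective h)
    have h5 : ¬(a k = a l ∨ a k = b l) := by
      intro hx
      have hb := h4 _ hx
      rw [Equiv.swap_apply_left] at hb
      refine hkl (hne k l ?_)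
      rcases hx with hx | hx <;> rcases hb with hy | hy
      · exact absurd (hx.trans hy.symm) (hab k)
      · rw [hx, hy]
      · rw [hx, hy, Equiv.swap_comm]
      · exact absurd (hx.trans hy.symm) (hab k)
    have h6 : ¬(b k = a l ∨ b k = b l) := by
      intro hx
      have hb := h4 _ hx
      rw [Equiv.swap_apply_right] at hb
      exact h5 hb
    simp only [not_or] at h5 h6
    exact ⟨h5.1, h5.2, h6.1, h6.2⟩
  rintro (k | k) (l | l) h <;> simp only [Sum.elim_inl, Sum.elim_inr] at h <;>
    by_cases hkl : k = l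
  · rw [hkl]
  · exact absurd h (key k l hkl).1
  · exact absurd (hkl ▸ h) (hab l)
  · exact absurd h (key k l hkl).2.1
  · exact absurd (hkl ▸ h).symm (hab l)
  · exact absurd h (key k l hkl).2.2.1
  · rw [hkl]
  · exact absurd h (key k l hkl).2.2.2

theorem sum_pairs [DecidableEq X] [Fintype K] (a b : K → X)
    (hinj : Function.Injective (Sum.elim a b)) (x : X) :
    (∑ k, (SP.e (a k) + SP.e (b k))) x =
      if x ∈ Finset.univ.image (Sum.elim a b) then 1 else 0 := by
  have h : (∑ k, (SP.e (a k) + SP.e (b k))) = ∑ s : K ⊕ K, SP.e (Sum.elim a b s) := by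
    rw [Finset.sum_add_distrib, Fintype.sum_sum_type]
    rfl
  rw [h, Finset.sum_apply]
  by_cases hx : x ∈ Finset.univ.image (Sum.elim a b)
  · rw [if_pos hx]
    obtain ⟨s, -, rfl⟩ := Finset.mem_image.1 hx
    rw [Finset.sum_eq_single s]
    · simp [SP.e_apply]
    · intro s' _ hs'
      rw [SP.e_apply, if_neg fun h => hs' (hinj h).symm]
    · simp
  · rw [if_neg hx]
    refine Finset.sum_eq_zero fun s _ => ?_
    rw [SP.e_apply, if_neg]
    rintro rfl
    exact hx (Finset.mem_image.2 ⟨s, Finset.mem_univ _, rfl⟩)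

theorem sum_pairs_all [DecidableEq X] [Fintype X] [Fintype K] (a b : K → X)
    (hinj : Function.Injective (Sum.elim a b)) (hcard : Fintype.card X = 2 * Fintype.card K) :
    (∑ k, (SP.e (a k) + SP.e (b k))) = (1 : X → ZMod 2) := by
  have : Finset.univ.image (Sum.elim a b) = Finset.univ := by
    refine Finset.eq_univ_of_card _ ?_
    rw [Finset.card_image_of_injective _ hinj, Finset.card_univ, Fintype.card_sum, hcard, two_mul]
  funext x
  rw [sum_pairs a b hinj, this, if_pos (Finset.mem_univ _)]
  rfl

theorem sum_pairs_all_but_one [DecidableEq X] [Fintype X] [Fintype K] (a b : K → X)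
    (hinj : Function.Injective (Sum.elim a b)) (hcard : Fintype.card X = 2 * Fintype.card K + 1) :
    ∃ o, (∑ k, (SP.e (a k) + SP.e (b k))) = (1 : X → ZMod 2) + SP.e o := by
  have : (Finset.univ.image (Sum.elim a b))ᶜ.card = 1 := by
    rw [Finset.card_compl, Finset.card_image_of_injective _ hinj, Finset.card_univ,
      Fintype.card_sum, hcard]
    omega
  obtain ⟨o, ho⟩ := Finset.card_eq_one.1 this
  refine ⟨o, funext fun x => ?_⟩
  have hx : x ∈ Finset.univ.image (Sum.elim a b) ↔ x ≠ o := by
    rw [← not_iff_not, ← Finset.mem_compl, ho, Finset.mem_singleton, not_not]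
  rw [sum_pairs a b hinj, Pi.add_apply, Pi.one_apply, SP.e_apply]
  by_cases h : x = o
  · rw [if_neg (fun h' => hx.1 h' h), if_pos h]; decide
  · rw [if_pos (hx.2 h), if_neg h, add_zero]

/-- A finite set of even size is a disjoint union of pairs. -/
theorem exists_matching [DecidableEq X] (s : Finset X) (hs : Even s.card) :
    ∃ (l : ℕ) (a b : Fin l → X), Function.Injective (Sum.elim a b) ∧
      Finset.univ.image (Sum.elim a b) = s ∧ s.card = 2 * l := by
  obtain ⟨l, hl⟩ := hs
  let eq : Fin l ⊕ Fin l ≃ s := finSumFinEquiv.trans ((finCongr hl.symm).trans s.equivFin.symm)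
  refine ⟨l, fun k => (eq (Sum.inl k)).1, fun k => (eq (Sum.inr k)).1, ?_, ?_, by omega⟩
  · have : Sum.elim (fun k => (eq (Sum.inl k)).1) (fun k => (eq (Sum.inr k)).1) =
        fun x => (eq x).1 := by
      funext x; cases x <;> rfl
    rw [this]
    exact Subtype.val_injective.comp eq.injective
  · ext x
    simp only [Finset.mem_image, Finset.mem_univ, true_and]
    constructor
    · rintro ⟨k | k, rfl⟩ <;> exact (eq _).2
    · intro hx
      obtain ⟨y, hy⟩ := eq.surjective ⟨x, hx⟩
      refine ⟨y, ?_⟩
      cases y <;> simp [hy]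

theorem sum_eq_card_filter [Fintype X] [DecidableEq X] (f : X → ZMod 2) :
    ∑ x, f x = ((Finset.univ.filter fun x => f x = 1).card : ZMod 2) := by
  have h2 : ∀ z : ZMod 2, z = if z = 1 then 1 else 0 := by decide
  rw [Finset.sum_congr rfl fun x _ => h2 (f x), Finset.sum_boole]

theorem comp_swap [DecidableEq X] (f : X → ZMod 2) (i j : X) :
    (fun x => f (Equiv.swap i j x)) = f + (f i + f j) • (SP.e i + SP.e j) := by
  funext x
  simp only [Pi.add_apply, Pi.smul_apply, smul_eq_mul, SP.e_apply]
  by_cases h1 : x = i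
  · subst h1
    rw [Equiv.swap_apply_left]
    by_cases h2 : x = j
    · subst h2
      simp [SP.zmod2_add_self]
    · simp only [if_neg h2, if_true]
      generalize f x = u
      generalize f j = v
      revert u v; decide
  · by_cases h2 : x = j
    · subst h2
      rw [Equiv.swap_apply_right]
      simp only [if_neg h1, if_true]
      generalize f x = u
      generalize f i = v
      revert u v; decide
    · rw [Equiv.swap_apply_of_ne_of_ne h1 h2]
      simp [h1, h2]

end CfsgLib.Involution.AltCentClasses
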