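import Cfsg.Agent.Lib.Involution.AltCentClasses.OrbitShape

/-!
# The points of the orbit and the induced symmetric group
-/

set_option autoImplicit false

namespace CfsgLib.Involution.AltCentClasses

open Subgroup

namespace Setup

variable {G : Type*} [Group G] {ι : Type*} [Fintype ι] [DecidableEq ι] (D : Setup G ι)

/-- The orbit is just the involution. -/
def Only : Prop := ∀ z, D.InO z → z = 1

/-- The orbit contains the complements of all unit vectors. -/
def Full : Prop := ∀ i, D.InO (1 + SP.e i)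

theorem only_or_full (hD : D.Good) : D.Only ∨ D.Full := by
  by_cases h : D.Only
  · exact Or.inl h
  refine Or.inr fun i => ?_
  simp only [Only, not_forall] at h
  obtain ⟨z, hz, hne⟩ := h
  obtain ⟨j, rfl⟩ := (hD z hz).resolve_left hne
  have := D.inO_perm (Equiv.swap j i) hz
  rwa [show (fun x => ((1 : ι → ZMod 2) + SP.e j) (Equiv.swap j i x)) = 1 + SP.e i from
    funext fun x => by simp [SP.e_apply, Equiv.swap_apply_eq_iff]] at this

/-- The vector attached to a combination of points. -/
def lam : (Option ι → ZMod 2) →+ (ι → ZMod 2) :=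
  AddMonoidHom.mk' (fun x i => (∑ o, x o) + x (some i)) fun x y => funext fun i => by
    simp only [Pi.add_apply, Finset.sum_add_distrib]; abel

theorem lam_apply (x : Option ι → ZMod 2) (i : ι) :
    lam x i = (∑ o, x o) + x (some i) := rfl

/-- The even extension of a vector. -/
def ext (f : ι → ZMod 2) : Option ι → ZMod 2 := fun o => o.elim (∑ i, f i) f

theorem sum_ext (f : ι → ZMod 2) : ∑ o, ext f o = 0 := by
  rw [Fintype.sum_option]
  exact SP.zmod2_add_self _

theorem lam_ext (f : ι → ZMod 2) : lam (ext f) = f := funext fun i => by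
  rw [lam_apply, sum_ext, zero_add]
  rfl

theorem ext_lam {x : Option ι → ZMod 2} (hx : ∑ o, x o = 0) : ext (lam x) = x := by
  funext o
  rcases o with _ | i
  · show ∑ i, lam x i = x none
    simp only [lam_apply, hx, zero_add]
    rw [Fintype.sum_option] at hx
    exact (CharTwo.add_eq_zero.1 hx).symm
  · show lam x i = x (some i)
    rw [lam_apply, hx, zero_add]

theorem ext_injective : Function.Injective (ext : (ι → ZMod 2) → Option ι → ZMod 2) :=
  fun f g h => by rw [← lam_ext f, h, lam_ext]

/-- The point with the given label. -/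
def pt (o : Option ι) : ι → ZMod 2 := lam (SP.e o)

theorem pt_none : pt (none : Option ι) = 1 := funext fun i => by
  simp [pt, lam_apply, SP.e_apply]

theorem pt_some (i : ι) : pt (some i) = 1 + SP.e i := funext fun j => by
  simp [pt, lam_apply, SP.e_apply]

theorem pt_injective : Function.Injective (pt : Option ι → ι → ZMod 2) := by
  have h1 : ∀ i : ι, pt (some i) ≠ pt none := fun i h => by
    rw [pt_some, pt_none] at h
    simpa [SP.e_apply] using congrFun h i
  rintro (_ | i) (_ | j) h
  · rfl
  · exact absurd h.symm (h1 j)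
  · exact absurd h (h1 i)
  · rw [pt_some, pt_some] at h
    have h2 := congrFun (add_left_cancel h) i
    rw [SP.e_apply, SP.e_apply, if_pos rfl] at h2
    by_contra hne
    rw [if_neg fun e => hne (congrArg some e)] at h2
    exact one_ne_zero h2

theorem eq_sum_e {X : Type*} [Fintype X] [DecidableEq X] (x : X → ZMod 2) :
    x = ∑ o, x o • SP.e o := by
  funext p
  simp [SP.e_apply]

theorem smul_lam (c : ZMod 2) (x : Option ι → ZMod 2) : lam (c • x) = c • lam x := by
  funext i
  simp only [lam_apply, Pi.smul_apply, smul_eq_mul, ← Finset.mul_sum, mul_add]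

variable {D}

theorem inO_iff (hD : D.Good) (hF : D.Full) {z : ι → ZMod 2} :
    D.InO z ↔ ∃ o, z = pt o := by
  constructor
  · intro hz
    rcases hD z hz with rfl | ⟨i, rfl⟩
    · exact ⟨none, pt_none.symm⟩
    · exact ⟨some i, (pt_some i).symm⟩
  · rintro ⟨_ | i, rfl⟩
    · rw [pt_none]; exact D.inO_one
    · rw [pt_some]; exact hF i

theorem exists_point_perm (hD : D.Good) (hF : D.Full) {g : G} (hg : g ∈ D.N) :
    ∃ π : Equiv.Perm (Option ι), ∀ o, D.act g (pt o) = pt (π o) := by
  choose f hf using fun o => (inO_iff hD hF).1 (D.inO_act hg ((inO_iff hD hF).2 ⟨o, rfl⟩))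
  have hinj : Function.Injective f := fun a b h =>
    pt_injective (D.act_injective hg (by rw [hf, hf, h]))
  exact ⟨Equiv.ofBijective f (Finite.injective_iff_bijective.1 hinj), hf⟩

theorem act_lam {g : G} (hg : g ∈ D.N) {π : Equiv.Perm (Option ι)}
    (hπ : ∀ o, D.act g (pt o) = pt (π o)) (x : Option ι → ZMod 2) :
    D.act g (lam x) = lam fun o => x (π⁻¹ o) := by
  conv_lhs => rw [eq_sum_e x]
  rw [map_sum, D.act_sum hg]
  conv_rhs => rw [eq_sum_e (fun o => x (π⁻¹ o))]
  rw [map_sum, ← Equiv.sum_comp π fun o => lam (x (π⁻¹ o) • SP.e o)]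
  refine Finset.sum_congr rfl fun o _ => ?_
  rw [smul_lam, smul_lam, D.act_smul hg]
  simp only [Equiv.Perm.coe_inv, Equiv.symm_apply_apply]
  exact congrArg (x o • ·) (hπ o)

theorem ext_act {g : G} (hg : g ∈ D.N) {π : Equiv.Perm (Option ι)}
    (hπ : ∀ o, D.act g (pt o) = pt (π o)) (f : ι → ZMod 2) :
    ext (D.act g f) = fun o => ext f (π⁻¹ o) := by
  conv_lhs => rw [← lam_ext f, act_lam hg hπ]
  refine ext_lam ?_
  rw [Equiv.sum_comp π⁻¹ (ext f), sum_ext]

/-- The number of points in the support of the even extension. -/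
def weight (f : ι → ZMod 2) : ℕ := (Finset.univ.filter fun o => ext f o = 1).card

theorem weight_act (hD : D.Good) (hF : D.Full) {g : G} (hg : g ∈ D.N) (f : ι → ZMod 2) :
    weight (D.act g f) = weight f := by
  obtain ⟨π, hπ⟩ := exists_point_perm hD hF hg
  rw [weight, weight, ext_act hg hπ]
  exact Finset.card_equiv π⁻¹ fun o => by simp

theorem exists_act_eq (hD : D.Good) (hF : D.Full) {f f' : ι → ZMod 2}
    (h : weight f = weight f') : ∃ g ∈ D.N, D.act g f = f' := by
  classical
  let e0 : {o // ext f o = 1} ≃ {o // ext f' o = 1} := Fintype.equivOfCardEq (by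
    rw [Fintype.card_subtype, Fintype.card_subtype]; exact h)
  let σ : Equiv.Perm (Option ι) := e0.extendSubtype
  have hσ : ∀ o, ext f' (σ o) = ext f o := by
    have h2 : ∀ z : ZMod 2, z ≠ 1 → z = 0 := by decide
    intro o
    by_cases ho : ext f o = 1
    · rw [ho]; exact e0.extendSubtype_mem o ho
    · rw [h2 _ ho, h2 _ (e0.extendSubtype_not_mem o ho)]
  obtain ⟨g0, hg0, hg0'⟩ := (inO_iff hD hF (z := pt (σ none))).2 ⟨_, rfl⟩
  obtain ⟨π0, hπ0⟩ := exists_point_perm hD hF hg0
  have hnone : π0 none = σ none := pt_injective (by rw [← hπ0, pt_none, hg0'])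
  set ρ := π0⁻¹ * σ with hρ
  have hρnone : ρ none = none := by
    rw [hρ, Equiv.Perm.mul_apply, ← hnone]; simp
  let τ : Equiv.Perm ι := Equiv.removeNone ρ
  have hτ : ∀ o, ρ o = Option.map τ o := by
    rintro (_ | i)
    · exact hρnone
    · exact (Equiv.removeNone_some ρ (Option.ne_none_iff_exists'.1 fun h =>
        Option.some_ne_none i (ρ.injective (h.trans hρnone.symm)))).symm
  have hg1 : D.φ (SP.ofP τ) ∈ D.N := D.φ_mem_N _
  refine ⟨g0 * D.φ (SP.ofP τ), mul_mem hg0 hg1, ext_injective ?_⟩
  rw [D.act_mul hg0 hg1, ext_act hg0 hπ0, D.act_φ, SP.ofP_p]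
  funext o
  obtain ⟨o, rfl⟩ := σ.surjective o
  rw [hσ]
  have h3 : π0⁻¹ (σ o) = ρ o := rfl
  rw [h3, hτ]
  rcases o with _ | i
  · show ∑ x, f (τ⁻¹ x) = ∑ x, f x
    exact Equiv.sum_comp τ⁻¹ f
  · show f (τ⁻¹ (τ i)) = f i
    simp

end Setup

end CfsgLib.Involution.AltCentClasses
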