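import Cfsg.Agent.Lib.Involution.AltCentClasses.Elementary
import Cfsg.Agent.Lib.Involution.AltCentClasses.Points

/-!
# Weak closure of `E` and control of fusion
-/

set_option autoImplicit false

namespace CfsgLib.Involution.AltCentClasses

open Subgroup

theorem eq_swap_of_moved {X : Type*} [DecidableEq X] (π : Equiv.Perm X) (i : X) (hi : π i ≠ i)
    (h : ∀ x, π x ≠ x → x = i ∨ x = π i) : π = Equiv.swap i (π i) := by
  have hji : π (π i) = i := by
    have hjj : π (π i) ≠ π i := fun e => hi (π.injective e)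
    rcases h (π (π i)) (fun e => hjj (π.injective e)) with h1 | h1
    · exact h1
    · exact absurd h1 hjj
  refine Equiv.ext fun x => ?_
  by_cases h1 : x = i
  · subst h1; rw [Equiv.swap_apply_left]
  by_cases h2 : x = π i
  · subst h2; rw [Equiv.swap_apply_right, hji]
  rw [Equiv.swap_apply_of_ne_of_ne h1 h2]
  by_contra hx
  exact (h x hx).elim h1 h2

namespace Setup

variable {G : Type*} [Group G] {ι : Type*} [Fintype ι] [DecidableEq ι] (D : Setup G ι)

/-- Commuting transvections on the points. -/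
theorem sum_of_full {K : Type*} [Fintype K] (hD : D.Good) (hF : D.Full) (h : K → G)
    (c : K → ι → ZMod 2) (hN : ∀ k, h k ∈ D.N)
    (htv : ∀ k z, D.act (h k) z = z ∨ D.act (h k) z = z + c k)
    (hne : ∀ k, ∃ z, D.act (h k) z ≠ z) (hcomm : ∀ k l, Commute (h k) (h l))
    (hc : Function.Injective c) (hcard : Fintype.card ι = 2 * Fintype.card K) :
    ∃ o, ∑ k, c k = pt o := by
  classical
  choose π hπ using fun k => exists_point_perm hD hF (hN k)
  have hpair : ∀ k x, π k x ≠ x → c k = lam (SP.e x + SP.e (π k x)) := by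
    intro k x hx
    have h1 := hπ k x
    rcases htv k (pt x) with h2 | h2 <;> rw [h1] at h2
    · exact absurd (pt_injective h2) hx
    · rw [map_add, show lam (SP.e (π k x)) = pt (π k x) from rfl, h2,
        show lam (SP.e x) = pt x from rfl, ← add_assoc, SP.fun_add_self, zero_add]
  have heven : ∀ x y : Option ι, ∑ o, (SP.e x + SP.e y) o = 0 := fun x y => by
    simp only [Pi.add_apply, Finset.sum_add_distrib, sum_e_eq]; decide
  have hswap : ∀ k, ∃ a b, a ≠ b ∧ π k = Equiv.swap a b ∧ c k = lam (SP.e a + SP.e b) := by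
    intro k
    obtain ⟨x, hx⟩ : ∃ x, π k x ≠ x := by
      by_contra hall
      simp only [not_exists, not_not] at hall
      obtain ⟨z, hz⟩ := hne k
      refine hz ?_
      have h1 : π k = 1 := Equiv.ext hall
      conv_lhs => rw [← lam_ext z, act_lam (hN k) (hπ k), h1]
      simp [lam_ext]
    refine ⟨x, π k x, hx.symm, eq_swap_of_moved _ x hx fun y hy => ?_, hpair k x hx⟩
    have h1 : SP.e x + SP.e (π k x) = SP.e y + SP.e (π k y) := by
      rw [← ext_lam (heven x (π k x)), ← hpair k x hx, hpair k y hy, ext_lam (heven y (π k y))]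
    have h2 := congrFun h1 y
    rw [Pi.add_apply, Pi.add_apply, SP.e_apply, SP.e_apply, SP.e_apply, SP.e_apply, if_pos rfl,
      if_neg (Ne.symm hy), add_zero] at h2
    by_contra hcon
    simp only [not_or] at hcon
    rw [if_neg hcon.1, if_neg hcon.2, add_zero] at h2
    exact zero_ne_one h2
  choose a b hab hπab hcab using hswap
  have hinj : Function.Injective (Sum.elim a b) := by
    refine pairs_injective a b hab (fun k l hkl => hc ?_) fun k l => ?_
    · obtain ⟨z, hz⟩ := hne k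
      have h1 : D.act (h k) z = D.act (h l) z := by
        conv_lhs => rw [← lam_ext z, act_lam (hN k) (hπ k), hπab, hkl, ← hπab,
          ← act_lam (hN l) (hπ l), lam_ext]
      rcases htv k z with h2 | h2
      · exact absurd h2 hz
      rcases htv l z with h3 | h3
      · exact absurd (h1.trans h3) hz
      rw [h2, h3] at h1
      exact add_left_cancel h1
    · rw [← hπab, ← hπab]
      refine Equiv.ext fun o => pt_injective ?_
      rw [Equiv.Perm.mul_apply, Equiv.Perm.mul_apply, ← hπ, ← hπ, ← hπ, ← hπ,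
        ← D.act_mul (hN k) (hN l), ← D.act_mul (hN l) (hN k), (hcomm k l).eq]
  obtain ⟨o, ho⟩ := sum_pairs_all_but_one a b hinj (by rw [Fintype.card_option, hcard])
  refine ⟨o, ?_⟩
  rw [Finset.sum_congr rfl fun k _ => hcab k, ← map_sum, ho, map_add]
  have h0 : lam (1 : Option ι → ZMod 2) = 0 := funext fun i => by
    rw [lam_apply, Fintype.sum_option]
    simp only [Pi.one_apply, Pi.zero_apply]
    rw [show ∑ _i : ι, (1 : ZMod 2) = 0 from D.sum_one_eq_zero]
    decide
  rw [h0, zero_add]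
  rfl

variable [Finite G]

theorem weak_closed (hD : D.Good) {g : G} (hg : ∀ f, g * D.vec f * g⁻¹ ∈ D.W) : g ∈ D.N := by
  classical
  choose α hα using hg
  have hαadd : ∀ f f', α (f + f') = α f * α f' := fun f f' => D.φ_inj (by
    rw [map_mul, hα, hα, hα, D.vec_add]; group)
  have hαinj : Function.Injective α := fun f f' h => D.vec_inj (by
    have h1 := congrArg D.φ h
    rw [hα, hα] at h1
    simpa using h1)
  have hα0 : α 0 = 1 := D.φ_inj (by rw [hα, D.vec_zero, map_one]; group)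
  let A : Subgroup (SP ι) :=
    { carrier := Set.range α
      one_mem' := ⟨0, hα0⟩
      mul_mem' := by rintro _ _ ⟨f, rfl⟩ ⟨f', rfl⟩; exact ⟨f + f', hαadd f f'⟩
      inv_mem' := by
        rintro _ ⟨f, rfl⟩
        refine ⟨f, (inv_eq_of_mul_eq_one_right ?_).symm⟩
        rw [← hαadd, SP.fun_add_self, hα0] }
  have hcommA : ∀ a ∈ A, ∀ b ∈ A, Commute a b := by
    rintro _ ⟨f, rfl⟩ _ ⟨f', rfl⟩
    rw [commute_iff_eq, ← hαadd, ← hαadd, add_comm]
  have hsqA : ∀ a ∈ A, a * a = 1 := by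
    rintro _ ⟨f, rfl⟩
    rw [← hαadd, SP.fun_add_self, hα0]
  obtain ⟨horb, hmemA⟩ := SP.elementary_structure A hcommA (by
    have : Nat.card A = Nat.card (ι → ZMod 2) :=
      (Nat.card_congr (Equiv.ofInjective α hαinj)).symm
    rw [this, Nat.card_fun, Nat.card_zmod, Nat.card_eq_fintype_card])
  let μ : ι → ι := fun i => if h : ∃ a ∈ A, a.p i ≠ i then h.choose.p i else i
  have hμ : ∀ a ∈ A, ∀ i, a.p i ≠ i → μ i = a.p i := by
    intro a ha i hi
    have h : ∃ a ∈ A, a.p i ≠ i := ⟨a, ha, hi⟩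
    simp only [μ, dif_pos h]
    exact horb _ h.choose_spec.1 a ha i h.choose_spec.2 hi
  have hμ' : ∀ i, (∀ a ∈ A, a.p i = i) → μ i = i := fun i h => by
    simp only [μ]
    rw [dif_neg]
    rintro ⟨a, ha, hi⟩
    exact hi (h a ha)
  have happ : ∀ a ∈ A, ∀ i, a.p (a.p i) = i := fun a ha i =>
    Equiv.congr_fun ((SP.sq_iff a).1 (hsqA a ha)).1 i
  have hμμ : ∀ i, μ i ≠ i → ∃ a ∈ A, a.p i = μ i ∧ a.p (μ i) = i ∧ μ (μ i) = i := by
    intro i hi
    obtain ⟨a, ha, hai⟩ : ∃ a ∈ A, a.p i ≠ i := by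
      by_contra hall
      simp only [not_exists, not_and, not_not] at hall
      exact hi (hμ' i hall)
    have h1 := hμ a ha i hai
    refine ⟨a, ha, h1.symm, by rw [h1, happ a ha], ?_⟩
    rw [h1]
    have h2 : a.p (a.p i) ≠ a.p i := fun e => hai (a.p.injective e)
    rw [hμ a ha _ h2, happ a ha]
  let N0 := Fintype.equivFin ι
  let R := {i : ι // N0 i < N0 (μ i)}
  let Mv : Finset ι := Finset.univ.filter fun i => μ i ≠ i
  have hRne : ∀ r : R, μ r.1 ≠ r.1 := fun r h => absurd r.2 (by rw [h]; exact lt_irrefl _)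
  let rr := (Fintype.equivFin R).symm
  let a1 : Fin (Fintype.card R) → ι := fun k => (rr k).1
  let b1 : Fin (Fintype.card R) → ι := fun k => μ (rr k).1
  have hi1 : Function.Injective (Sum.elim a1 b1) := by
    rintro (k | k) (l | l) h <;> simp only [Sum.elim_inl, Sum.elim_inr, a1, b1] at h
    · rw [rr.injective (Subtype.ext h)]
    · exfalso
      obtain ⟨a, -, -, -, h3⟩ := hμμ _ (hRne (rr l))
      have h4 := (rr k).2
      have h5 := (rr l).2
      rw [h, h3] at h4
      exact lt_asymm h4 h5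
    · exfalso
      obtain ⟨a, -, -, -, h3⟩ := hμμ _ (hRne (rr k))
      have h4 := (rr k).2
      have h5 := (rr l).2
      rw [← h, h3] at h5
      exact lt_asymm h4 h5
    · obtain ⟨a, -, -, -, h3⟩ := hμμ _ (hRne (rr k))
      obtain ⟨a', -, -, -, h3'⟩ := hμμ _ (hRne (rr l))
      rw [h, h3'] at h3
      rw [rr.injective (Subtype.ext h3.symm)]
  have hr1 : Finset.univ.image (Sum.elim a1 b1) = Mv := by
    ext i
    simp only [Finset.mem_image, Finset.mem_univ, true_and, Mv, Finset.mem_filter]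
    constructor
    · rintro ⟨k | k, rfl⟩
      · exact hRne _
      · obtain ⟨a, -, -, -, h3⟩ := hμμ _ (hRne (rr k))
        simp only [Sum.elim_inr, b1, h3]
        exact (hRne _).symm
    · intro hi
      obtain ⟨a, -, -, -, h3⟩ := hμμ i hi
      rcases lt_trichotomy (N0 i) (N0 (μ i)) with h | h | h
      · exact ⟨Sum.inl (rr.symm ⟨i, h⟩), by simp [a1]⟩
      · exact absurd (N0.injective h).symm hi
      · exact ⟨Sum.inr (rr.symm ⟨μ i, by rw [h3]; exact h⟩), by simp [b1, h3]⟩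
  have hMv : Mv.card = 2 * Fintype.card R := by
    rw [← hr1, Finset.card_image_of_injective _ hi1, Finset.card_univ, Fintype.card_sum,
      Fintype.card_fin]
    omega
  have hFx : Even Mvᶜ.card := by
    rw [Finset.card_compl, Nat.even_sub (Finset.card_le_univ Mv)]
    exact iff_of_true D.even_card ⟨Fintype.card R, by omega⟩
  obtain ⟨l2, a2, b2, hi2, hr2, hl2⟩ := exists_matching Mvᶜ hFx
  let K := Fin (Fintype.card R) ⊕ Fin l2
  let a : K → ι := Sum.elim a1 a2
  let b : K → ι := Sum.elim b1 b2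
  obtain ⟨hinj, -⟩ := combine_matchings a1 b1 a2 b2 Mv Mvᶜ hi1 hi2 hr1 hr2 disjoint_compl_right
  have hcardK : Fintype.card ι = 2 * Fintype.card K := by
    rw [Fintype.card_sum, Fintype.card_fin, Fintype.card_fin, mul_add, ← hMv, ← hl2,
      Finset.card_add_card_compl]
  have hab : ∀ k, a k ≠ b k := fun k h => Sum.inl_ne_inr (hinj (a₁ := Sum.inl k) (a₂ := Sum.inr k) h)
  have hdis : ∀ k l, k ≠ l → a k ≠ a l ∧ a k ≠ b l ∧ b k ≠ a l ∧ b k ≠ b l := fun k l hkl =>
    ⟨fun h => hkl (Sum.inl_injective (hinj (a₁ := Sum.inl k) (a₂ := Sum.inl l) h)),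
      fun h => Sum.inl_ne_inr (hinj (a₁ := Sum.inl k) (a₂ := Sum.inr l) h),
      fun h => Sum.inr_ne_inl (hinj (a₁ := Sum.inr k) (a₂ := Sum.inl l) h),
      fun h => hkl (Sum.inr_injective (hinj (a₁ := Sum.inr k) (a₂ := Sum.inr l) h))⟩
  have hfix : ∀ k : Fin l2, (∀ x ∈ A, x.p (a2 k) = a2 k) ∧ ∀ x ∈ A, x.p (b2 k) = b2 k := by
    intro k
    have h : ∀ s, Sum.elim a2 b2 s ∈ Mvᶜ := fun s => hr2 ▸ Finset.mem_image.2 ⟨s, by simp, rfl⟩
    have h' : ∀ i, i ∈ Mvᶜ → ∀ x ∈ A, x.p i = i := fun i hi x hx => by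
      by_contra hne
      refine Finset.mem_compl.1 hi ?_
      simp only [Mv, Finset.mem_filter, Finset.mem_univ, true_and, hμ x hx i hne]
      exact hne
    exact ⟨h' _ (h (Sum.inl k)), h' _ (h (Sum.inr k))⟩
  have hmov : ∀ k : Fin (Fintype.card R), (∀ x ∈ A, (x.p (a1 k) = a1 k ∧ x.p (b1 k) = b1 k) ∨
      (x.p (a1 k) = b1 k ∧ x.p (b1 k) = a1 k)) ∧ ∃ x ∈ A, x.p (a1 k) = b1 k := by
    intro k
    obtain ⟨y, hy, hy1, -, -⟩ := hμμ _ (hRne (rr k))
    refine ⟨fun x hx => ?_, y, hy, hy1⟩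
    by_cases h : x.p (a1 k) = a1 k
    · refine Or.inl ⟨h, ?_⟩
      by_contra h'
      have h2 := hμ x hx _ h'
      obtain ⟨_, -, -, -, h3⟩ := hμμ _ (hRne (rr k))
      have h4 : x.p (b1 k) = a1 k := h2.symm.trans h3
      have h5 := happ x hx (b1 k)
      rw [h4, h] at h5
      exact hab (Sum.inl k) h5
    · refine Or.inr ?_
      have h2 := hμ x hx _ h
      exact ⟨h2.symm, by rw [show b1 k = x.p (a1 k) from h2, happ x hx]⟩
  let c : K → ι → ZMod 2 := fun k => SP.e (a k) + SP.e (b k)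
  have hcA : ∀ k, SP.ofF (c k) ∈ A := by
    intro k
    refine hmemA _ fun x hx i => ?_
    have hsym : ∀ z, z = a k ∨ z = b k → (x.p z = a k ∨ x.p z = b k) := by
      rcases k with k | k
      · rcases (hmov k).1 x hx with ⟨h1, h2⟩ | ⟨h1, h2⟩
        · rintro z (rfl | rfl); exacts [Or.inl h1, Or.inr h2]
        · rintro z (rfl | rfl); exacts [Or.inr h1, Or.inl h2]
      · rintro z (rfl | rfl); exacts [Or.inl ((hfix k).1 x hx), Or.inr ((hfix k).2 x hx)]
    have hiff : (x.p i = a k ∨ x.p i = b k) ↔ (i = a k ∨ i = b k) :=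
      ⟨fun h => by have := hsym _ h; rwa [happ x hx] at this, hsym i⟩
    have hcval : ∀ z, c k z = if z = a k ∨ z = b k then 1 else 0 := fun z => by
      simp only [c, Pi.add_apply, SP.e_apply]
      by_cases h1 : z = a k
      · rw [if_pos h1, if_neg (h1 ▸ hab k), if_pos (Or.inl h1), add_zero]
      · by_cases h2 : z = b k
        · rw [if_neg h1, if_pos h2, if_pos (Or.inr h2), zero_add]
        · rw [if_neg h1, if_neg h2, if_neg (by simp [h1, h2]), add_zero]
    rw [hcval, hcval, if_congr hiff rfl rfl]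
  let u : K → SP ι := Sum.elim (fun k => SP.ofF (SP.e (a1 k)))
    (fun k => SP.ofP (Equiv.swap (a2 k) (b2 k)))
  have hu : ∀ k, ∀ x ∈ A, u k * x * (u k)⁻¹ = x ∨ u k * x * (u k)⁻¹ = SP.ofF (c k) * x := by
    intro k x hx
    rcases k with k | k
    · show SP.ofF (SP.e (a1 k)) * x * (SP.ofF (SP.e (a1 k)))⁻¹ = _ ∨ _
      have he : (fun i => SP.e (a1 k) (x.p⁻¹ i)) = SP.e (x.p (a1 k)) := SP.e_comp_perm _ _
      rw [SP.conj_ofF']
      rcases (hmov k).1 x hx with ⟨h1, -⟩ | ⟨h1, -⟩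
      · refine Or.inl (SP.ext (funext fun i => ?_) rfl)
        show SP.e (a1 k) i + x.f i + SP.e (a1 k) (x.p⁻¹ i) = x.f i
        rw [congrFun he i, h1]
        generalize SP.e (a1 k) i = p; generalize x.f i = q; revert p q; decide
      · refine Or.inr (SP.ext (funext fun i => ?_) (one_mul _).symm)
        show SP.e (a1 k) i + x.f i + SP.e (a1 k) (x.p⁻¹ i) =
          (SP.e (a1 k) i + SP.e (b1 k) i) + x.f i
        rw [congrFun he i, h1]; abel
    · show SP.ofP _ * x * (SP.ofP _)⁻¹ = _ ∨ SP.ofP _ * x * (SP.ofP _)⁻¹ = _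
      have h1 := (hfix k).1 x hx
      have h2 := (hfix k).2 x hx
      have hp : Equiv.swap (a2 k) (b2 k) * x.p * (Equiv.swap (a2 k) (b2 k))⁻¹ = x.p := by
        rw [mul_inv_eq_iff_eq_mul, Equiv.mul_swap_eq_swap_mul, h1, h2]
      have hf : (fun i => x.f ((Equiv.swap (a2 k) (b2 k))⁻¹ i)) =
          x.f + (x.f (a2 k) + x.f (b2 k)) • c (Sum.inr k) := by
        rw [Equiv.swap_inv, comp_swap]; rfl
      rw [SP.conj_ofP, hp, hf]
      have h3 : ∀ z : ZMod 2, z = 0 ∨ z = 1 := by decide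
      rcases h3 (x.f (a2 k) + x.f (b2 k)) with e | e
      · exact Or.inl (SP.ext (by rw [e, zero_smul, add_zero]) rfl)
      · exact Or.inr (SP.ext (funext fun i => by
          rw [e, one_smul, SP.mul_f]; simp [add_comm]) (by simp))
  have hune : ∀ k, ∃ x ∈ A, u k * x * (u k)⁻¹ ≠ x := by
    intro k
    rcases k with k | k
    · obtain ⟨-, x, hx, hx1⟩ := hmov k
      refine ⟨x, hx, fun h => hab (Sum.inl k) ?_⟩
      have h2 : Commute x (SP.ofF (SP.e (a1 k))) := (mul_inv_eq_iff_eq_mul.1 h).symm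
      have h3 := (SP.commute_ofF_iff x _).1 h2 (a1 k)
      rw [hx1, SP.e_apply, SP.e_apply, if_pos rfl] at h3
      by_contra hne
      rw [if_neg fun e => hne e.symm] at h3
      exact zero_ne_one h3
    · refine ⟨SP.ofF (SP.e (a2 k)), hmemA _ fun x hx i => ?_, fun h => hab (Sum.inr k) ?_⟩
      · have h1 := (hfix k).1 x hx
        simp only [SP.e_apply]
        refine if_congr ⟨fun e => ?_, fun e => by rw [e, h1]⟩ rfl rfl
        exact x.p.injective (e.trans h1.symm)
      · simp only [u, Sum.elim_inr, SP.conj_ofF_e, SP.ofP_p, Equiv.swap_apply_left] at h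
        have h3 := congrFun (SP.ofF_injective h) (b2 k)
        rw [SP.e_apply, SP.e_apply, if_pos rfl] at h3
        by_contra hne
        rw [if_neg fun e => hne e.symm] at h3
        exact one_ne_zero h3
  have huc : ∀ k l, Commute (u k) (u l) := by
    intro k l
    by_cases hkl : k = l
    · rw [hkl]
    obtain ⟨d1, d2, d3, d4⟩ := hdis k l hkl
    have hsw : ∀ (p q r : ι), r ≠ p → r ≠ q →
        Commute (SP.ofP (Equiv.swap p q)) (SP.ofF (SP.e r)) := by
      intro p q r hp hq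
      refine (SP.commute_ofF_iff _ _).2 fun i => ?_
      rw [SP.ofP_p, SP.e_apply, SP.e_apply]
      refine if_congr ⟨fun e => ?_, fun e => ?_⟩ rfl rfl
      · rw [← Equiv.swap_apply_self p q i, e, Equiv.swap_apply_of_ne_of_ne hp hq]
      · rw [e, Equiv.swap_apply_of_ne_of_ne hp hq]
    rcases k with k | k <;> rcases l with l | l
    · exact SP.ofF_comm _ _
    · exact (hsw _ _ _ d1 d2).symm
    · exact hsw _ _ _ d1.symm d3.symm
    · refine Commute.map ?_ SP.ofP
      rw [commute_iff_eq, Equiv.mul_swap_eq_swap_mul, Equiv.swap_apply_of_ne_of_ne,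
        Equiv.swap_apply_of_ne_of_ne]
      exacts [d2.symm, d4.symm, d1.symm, d3.symm]
  choose c' hc' using fun k => hcA k
  let h : K → G := fun k => g⁻¹ * D.φ (u k) * g
  have hconj : ∀ k f, h k * D.vec f * (h k)⁻¹ = D.vec f ∨
      h k * D.vec f * (h k)⁻¹ = D.vec (f + c' k) := by
    intro k f
    have h1 : h k * D.vec f * (h k)⁻¹ = g⁻¹ * D.φ (u k * α f * (u k)⁻¹) * g := by
      rw [map_mul, map_mul, map_inv, hα]; simp only [h]; group
    rcases hu k (α f) ⟨f, rfl⟩ with h2 | h2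
    · exact Or.inl (by rw [h1, h2, hα]; group)
    · refine Or.inr ?_
      rw [h1, h2, ← hc' k, ← hαadd, hα, add_comm]; group
  have hN : ∀ k, h k ∈ D.N := fun k => D.mem_N_of_le fun f => by
    rcases hconj k f with e | e <;> rw [e] <;> exact D.vec_mem _
  have htv : ∀ k z, D.act (h k) z = z ∨ D.act (h k) z = z + c' k := fun k z => by
    rcases hconj k z with e | e
    · exact Or.inl (D.vec_inj (by rw [D.vec_act (hN k), e]))
    · exact Or.inr (D.vec_inj (by rw [D.vec_act (hN k), e]))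
  have hne : ∀ k, ∃ z, D.act (h k) z ≠ z := fun k => by
    obtain ⟨x, ⟨f, rfl⟩, hx⟩ := hune k
    refine ⟨f, fun e => hx (D.φ_inj ?_)⟩
    have e1 := D.vec_act (hN k) f
    rw [e] at e1
    rw [map_mul, map_mul, map_inv, hα]
    calc D.φ (u k) * (g * D.vec f * g⁻¹) * (D.φ (u k))⁻¹
        = g * (h k * D.vec f * (h k)⁻¹) * g⁻¹ := by simp only [h]; group
      _ = _ := by rw [← e1]
  have hcomm : ∀ k l, Commute (h k) (h l) := fun k l => by
    have := ((huc k l).map D.φ).map (MulAut.conj g⁻¹).toMonoidHom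
    simpa [h] using this
  have hcinj : Function.Injective c' := fun k l hkl => by
    have h1 : c k = c l := SP.ofF_injective (by rw [← hc' k, ← hc' l, hkl])
    have h2 := congrFun h1 (a k)
    simp only [c, Pi.add_apply, SP.e_apply, if_true, if_neg (hab k), add_zero] at h2
    by_contra hne'
    rw [if_neg (hdis k l hne').1, if_neg (hdis k l hne').2.1, add_zero] at h2
    exact one_ne_zero h2
  have hz0 : D.InO (∑ k, c' k) := by
    rcases D.only_or_full hD with hO | hF
    · obtain ⟨a', b', hinj', hcc, -⟩ := D.pairs_of_fix h c' hN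
        (fun k => hO _ ⟨_, hN k, rfl⟩) htv hne hcomm hcinj
      rw [Finset.sum_congr rfl fun k _ => hcc k, sum_pairs_all a' b' hinj' hcardK]
      exact D.inO_one
    · obtain ⟨o, ho⟩ := D.sum_of_full hD hF h c' hN htv hne hcomm hcinj hcardK
      exact (inO_iff hD hF).2 ⟨o, ho⟩
  obtain ⟨h0, hh0, hh0'⟩ := hz0
  have hsum : D.φ (α (∑ k, c' k)) = D.vec (∑ k, c k) := by
    refine congrArg D.φ ?_
    induction (Finset.univ : Finset K) using Finset.induction with
    | empty => simp [hα0, SP.ofF_zero]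
    | insert x s hx ih =>
      rw [Finset.sum_insert hx, Finset.sum_insert hx, hαadd, hc', ih]
      exact (SP.ofF_add _ _).symm
  have hall : ∑ k, c k = 1 := sum_pairs_all a b hinj hcardK
  rw [hall, hα, D.vec_one] at hsum
  set x := g * h0 with hx
  have hxC : x ∈ D.Ct := by
    have h1 : h0 * D.t * h0⁻¹ = D.vec (∑ k, c' k) := by
      rw [← hh0', D.vec_act hh0, D.vec_one]
    rw [← h1] at hsum
    refine mem_centralizer_singleton_iff.2 ?_
    rw [← mul_inv_eq_iff_eq_mul, hx]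
    exact (show g * h0 * D.t * (g * h0)⁻¹ = g * (h0 * D.t * h0⁻¹) * g⁻¹ by group).trans hsum
  have hxN : x ∈ D.N := D.mem_N_of_le fun f => by
    have h1 : x * D.vec f * x⁻¹ = D.φ (α (D.act h0 f)) := by
      rw [hα, D.vec_act hh0, hx]; group
    haveI := SP.base_normal (ι := ι)
    have h2 : (⟨x, hxC⟩ : D.Ct) * ⟨D.vec f, D.φ_mem _⟩ * (⟨x, hxC⟩ : D.Ct)⁻¹ =
        ⟨D.φ (α (D.act h0 f)), D.φ_mem _⟩ := Subtype.ext h1
    have h3 := congrArg D.π h2
    simp only [vec, map_mul, map_inv, D.π_φ] at h3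
    rw [h1, ← h3]
    exact ⟨_, Subgroup.Normal.conj_mem inferInstance _ (SP.ofF_mem_base f) _, rfl⟩
  have : g = x * h0⁻¹ := by rw [hx]; group
  rw [this]
  exact mul_mem hxN (inv_mem hh0)

/-- Fusion in `E` is controlled by its normalizer. -/
theorem fusion (hD : D.Good) {g : G} {f f' : ι → ZMod 2} (h : g * D.vec f * g⁻¹ = D.vec f') :
    ∃ k ∈ D.N, D.act k f = f' := by
  haveI : Fact (Nat.Prime 2) := ⟨Nat.prime_two⟩
  obtain ⟨P, hPW, -⟩ := D.exists_sylow
  let C := centralizer ({D.vec f'} : Set G)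
  let E2 : Subgroup G := D.E.map (MulAut.conj g).toMonoidHom
  have hcE : D.E ≤ C := fun x hx => by
    obtain ⟨v, rfl⟩ := D.mem_E.1 hx
    exact mem_centralizer_singleton_iff.2 (by rw [← D.vec_add, ← D.vec_add, add_comm])
  have hcE2 : E2 ≤ C := by
    rintro _ ⟨x, hx, rfl⟩
    obtain ⟨v, rfl⟩ := D.mem_E.1 hx
    refine mem_centralizer_singleton_iff.2 ?_
    simp only [MulEquiv.coe_toMonoidHom, MulAut.conj_apply]
    rw [← h]
    calc g * D.vec v * g⁻¹ * (g * D.vec f * g⁻¹) = g * (D.vec v * D.vec f) * g⁻¹ := by group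
      _ = g * (D.vec f * D.vec v) * g⁻¹ := by rw [← D.vec_add, ← D.vec_add, add_comm]
      _ = _ := by group
  obtain ⟨P1, hP1⟩ := (D.E_isPGroup.comap_subtype (K := C)).exists_le_sylow
  obtain ⟨P2, hP2⟩ := ((D.E_isPGroup.map (MulAut.conj g).toMonoidHom).comap_subtype
    (K := C)).exists_le_sylow
  obtain ⟨c, hc⟩ := MulAction.exists_smul_eq C P2 P1
  obtain ⟨R, hR⟩ := (P1.isPGroup'.map C.subtype).exists_le_sylow
  obtain ⟨k, hk⟩ := MulAction.exists_smul_eq G R P
  have hW : ∀ x ∈ (P1 : Subgroup C), k * (x : G) * k⁻¹ ∈ D.W := fun x hx => hPW (by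
    have h1 : k * (x : G) * k⁻¹ ∈ ((k • R : Sylow 2 G) : Subgroup G) :=
      ⟨_, hR ⟨x, hx, rfl⟩, rfl⟩
    rwa [hk] at h1)
  have hk1 : k ∈ D.N := D.weak_closed hD fun v =>
    hW ⟨D.vec v, hcE (D.vec_mem v)⟩ (hP1 (D.vec_mem v))
  have hk2 : k * c * g ∈ D.N := D.weak_closed hD fun v => by
    have h1 : (⟨g * D.vec v * g⁻¹, hcE2 ⟨_, D.vec_mem v, rfl⟩⟩ : C) ∈ (P2 : Subgroup C) :=
      hP2 ⟨_, D.vec_mem v, rfl⟩
    have h2 : c * (⟨g * D.vec v * g⁻¹, hcE2 ⟨_, D.vec_mem v, rfl⟩⟩ : C) * c⁻¹ ∈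
        ((c • P2 : Sylow 2 C) : Subgroup C) := ⟨_, h1, rfl⟩
    rw [hc] at h2
    have h3 := hW _ h2
    simp only [Subgroup.coe_mul, Subgroup.coe_inv] at h3
    rwa [show k * c * g * D.vec v * (k * c * g)⁻¹ = k * (c * (g * D.vec v * g⁻¹) * (c : G)⁻¹) * k⁻¹
      by group]
  refine ⟨(c : G) * g, ?_, D.vec_inj ?_⟩
  · rw [show (c : G) * g = k⁻¹ * (k * c * g) by group]
    exact mul_mem (inv_mem hk1) hk2
  · have hmem : (c : G) * g ∈ D.N := by
      rw [show (c : G) * g = k⁻¹ * (k * c * g) by group]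
      exact mul_mem (inv_mem hk1) hk2
    rw [D.vec_act hmem, show (c : G) * g * D.vec f * ((c : G) * g)⁻¹ =
      (c : G) * (g * D.vec f * g⁻¹) * (c : G)⁻¹ by group, h]
    rw [mul_inv_eq_iff_eq_mul]
    exact mem_centralizer_singleton_iff.1 c.2

end Setup

end CfsgLib.Involution.AltCentClasses
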