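import Cfsg.Agent.Lib.Characterizations.TwoTimesSymmetric.Count
import Cfsg.Agent.Lib.Involution.AltCentClasses.WeakClosed

/-!
# Transfer: a conjugate of the involution outside `E`
-/

set_option autoImplicit false

namespace CfsgLib.Involution.AltCentClasses

open Subgroup
open CfsgLib.Characterizations.TwoTimesSymmetric (Count.val Count.val_conj Count.val_of_mem
  Count.mem_of_val_ne Count.exists_index_two_of_odd)

theorem even_choose_of_odd {k b : ℕ} (hk : Even k) (hb : Odd b) : Even (k.choose b) := by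
  obtain ⟨b, rfl⟩ : ∃ c, b = c + 1 := ⟨b - 1, by have := hb.pos; omega⟩
  rcases k with _ | k
  · simp
  have h := Nat.add_one_mul_choose_eq k b
  have h1 : Even ((k + 1).choose (b + 1) * (b + 1)) := h ▸ hk.mul_right _
  rcases Nat.even_mul.1 h1 with h2 | h2
  · exact h2
  · exact absurd h2 (Nat.not_even_iff_odd.2 hb)

namespace Setup

variable {G : Type*} [Group G] {ι : Type*} [Fintype ι] [DecidableEq ι] (D : Setup G ι) [Finite G]

/-- The value of a transfer homomorphism attached to a conjugate of the involution. -/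
def HasVal (θ : SP ι →* Multiplicative (ZMod 2)) (u y : G) : Prop :=
  ∃ g, g * D.t * g⁻¹ = y ∧ Count.val (θ.comp D.π) (g⁻¹ * u * g) ≠ 1

theorem transfer_even (θ : SP ι →* Multiplicative (ZMod 2)) {u : G} (hu : orderOf u = 2)
    (Q : Subgroup G) (hQ : IsPGroup 2 Q) (hQu : ∀ q ∈ Q, Commute q u) :
    Even (Nat.card {y : G // D.HasVal θ u y ∧ ∀ q ∈ Q, Commute q y}) := by
  haveI : Fact (Nat.Prime 2) := ⟨Nat.prime_two⟩
  set φ := θ.comp D.π with hφ
  let Φ := {c : G ⧸ D.Ct // Count.val φ (c.out⁻¹ * u * c.out) ≠ 1}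
  have hΦ : Even (Nat.card Φ) := by
    rw [← Nat.not_odd_iff_even]
    intro h
    obtain ⟨H, hH⟩ := Count.exists_index_two_of_odd φ hu h
    exact D.no_two H (Subgroup.normal_of_index_eq_two hH) hH
  have hwd : ∀ g : G, Count.val φ ((g : G ⧸ D.Ct).out⁻¹ * u * (g : G ⧸ D.Ct).out) =
      Count.val φ (g⁻¹ * u * g) := fun g => by
    obtain ⟨k, hk⟩ := QuotientGroup.mk_out_eq_mul D.Ct g
    rw [hk, show (g * (k : G))⁻¹ * u * (g * k) = (k : G)⁻¹ * (g⁻¹ * u * g) * k by group]
    exact Count.val_conj φ k.2 _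
  let _act : MulAction Q Φ :=
    { smul := fun q c => ⟨(q : G) • c.1, by
        obtain ⟨⟨g⟩, hc⟩ := c
        change Count.val φ ((((q : G) * g : G) : G ⧸ D.Ct).out⁻¹ * u *
          (((q : G) * g : G) : G ⧸ D.Ct).out) ≠ 1
        rw [hwd, show ((q : G) * g)⁻¹ * u * ((q : G) * g) = g⁻¹ * ((q : G)⁻¹ * (u * q)) * g by
          group, ← (hQu q q.2).eq, inv_mul_cancel_left, ← hwd]
        exact hc⟩
      one_smul := fun c => Subtype.ext (one_smul G c.1)
      mul_smul := fun a b c => Subtype.ext (mul_smul (a : G) (b : G) c.1) }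
  have hfix : ∀ (q : Q) (c : Φ), q • c = c ↔ Commute (q : G) (c.1.out * D.t * c.1.out⁻¹) := by
    intro q c
    rw [Subtype.ext_iff]
    show (q : G) • c.1 = c.1 ↔ _
    conv_lhs => rw [← QuotientGroup.out_eq' c.1, MulAction.Quotient.smul_mk, eq_comm,
      QuotientGroup.eq, smul_eq_mul]
    rw [mem_centralizer_singleton_iff, commute_iff_eq]
    constructor
    · intro h
      calc (q : G) * (c.1.out * D.t * c.1.out⁻¹)
          = c.1.out * ((c.1.out⁻¹ * ((q : G) * c.1.out)) * D.t) * c.1.out⁻¹ := by group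
        _ = c.1.out * (D.t * (c.1.out⁻¹ * ((q : G) * c.1.out))) * c.1.out⁻¹ := by rw [h]
        _ = _ := by group
    · intro h
      calc c.1.out⁻¹ * ((q : G) * c.1.out) * D.t
          = c.1.out⁻¹ * ((q : G) * (c.1.out * D.t * c.1.out⁻¹)) * c.1.out := by group
        _ = c.1.out⁻¹ * (c.1.out * D.t * c.1.out⁻¹ * (q : G)) * c.1.out := by rw [h]
        _ = _ := by group
  let F : MulAction.fixedPoints Q Φ → {y : G // D.HasVal θ u y ∧ ∀ q ∈ Q, Commute q y} := fun c =>
    ⟨c.1.1.out * D.t * c.1.1.out⁻¹, ⟨_, rfl, c.1.2⟩, fun q hq => (hfix ⟨q, hq⟩ c.1).1 (c.2 ⟨q, hq⟩)⟩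
  have hF : Function.Bijective F := by
    constructor
    · intro c d h
      have h1 : c.1.1.out * D.t * c.1.1.out⁻¹ = d.1.1.out * D.t * d.1.1.out⁻¹ :=
        congrArg Subtype.val h
      refine Subtype.ext (Subtype.ext ?_)
      rw [← QuotientGroup.out_eq' c.1.1, ← QuotientGroup.out_eq' d.1.1, QuotientGroup.eq,
        mem_centralizer_singleton_iff]
      calc c.1.1.out⁻¹ * d.1.1.out * D.t
          = c.1.1.out⁻¹ * (d.1.1.out * D.t * d.1.1.out⁻¹) * d.1.1.out := by group
        _ = c.1.1.out⁻¹ * (c.1.1.out * D.t * c.1.1.out⁻¹) * d.1.1.out := by rw [h1]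
        _ = _ := by group
    · rintro ⟨y, ⟨g, hg, hv⟩, hy⟩
      have hyc : (g : G ⧸ D.Ct).out * D.t * (g : G ⧸ D.Ct).out⁻¹ = y := by
        obtain ⟨k, hk⟩ := QuotientGroup.mk_out_eq_mul D.Ct g
        rw [hk, ← hg, show g * (k : G) * D.t * (g * k)⁻¹ = g * ((k : G) * D.t) * (k : G)⁻¹ * g⁻¹ by
          group, mem_centralizer_singleton_iff.1 k.2]
        group
      let c : Φ := ⟨(g : G ⧸ D.Ct), by rw [hwd]; exact hv⟩
      have hc : c ∈ MulAction.fixedPoints Q Φ := fun q => (hfix q c).2 (by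
        show Commute (q : G) ((g : G ⧸ D.Ct).out * D.t * (g : G ⧸ D.Ct).out⁻¹)
        rw [hyc]; exact hy q q.2)
      exact ⟨⟨c, hc⟩, Subtype.ext hyc⟩
  rw [← Nat.card_congr (Equiv.ofBijective F hF)]
  have hmod := hQ.card_modEq_card_fixedPoints Φ
  rw [Nat.even_iff] at hΦ ⊢
  rw [← hmod]
  exact hΦ

theorem hasVal_of_commute {θ : SP ι →* Multiplicative (ZMod 2)} {u y q : G}
    (hy : D.HasVal θ u y) (hqu : Commute q u) : D.HasVal θ u (q * y * q⁻¹) := by
  obtain ⟨g, rfl, hv⟩ := hy
  refine ⟨q * g, by group, ?_⟩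
  rwa [show (q * g)⁻¹ * u * (q * g) = g⁻¹ * (q⁻¹ * (u * q)) * g by group, ← hqu.eq,
    inv_mul_cancel_left]

theorem commute_of_hasVal {θ : SP ι →* Multiplicative (ZMod 2)} {u y : G}
    (hy : D.HasVal θ u y) : Commute u y := by
  obtain ⟨g, rfl, hv⟩ := hy
  have h := mem_centralizer_singleton_iff.1 (Count.mem_of_val_ne hv)
  rw [commute_iff_eq]
  calc u * (g * D.t * g⁻¹) = g * (g⁻¹ * u * g * D.t) * g⁻¹ := by group
    _ = g * (D.t * (g⁻¹ * u * g)) * g⁻¹ := by rw [h]
    _ = _ := by group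

theorem hasVal_t {θ : SP ι →* Multiplicative (ZMod 2)} {w : SP ι} (hw : θ w ≠ 1) :
    D.HasVal θ (D.φ w) D.t := by
  refine ⟨1, by group, ?_⟩
  rw [show (1 : G)⁻¹ * D.φ w * 1 = D.φ w by group, Count.val_of_mem _ (D.φ_mem w)]
  show θ (D.π ⟨D.φ w, _⟩) ≠ 1
  rwa [D.π_φ]

/-- The orbit of the involution is not trivial. -/
theorem not_only (hD : D.Good) : ¬ D.Only := by
  intro hO
  haveI := D.nonempty
  obtain ⟨i⟩ := D.nonempty
  have hu : orderOf (D.vec (SP.e i)) = 2 := orderOf_eq_prime (by rw [sq, D.vec_sq]) (by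
    rw [← D.vec_zero]
    intro h
    have := congrFun (D.vec_inj h) i
    simp [SP.e_apply] at this)
  have hcom : ∀ f g, Commute (D.vec f) (D.vec g) := fun f g => by
    rw [commute_iff_eq, ← D.vec_add, ← D.vec_add, add_comm]
  have heven := D.transfer_even SP.eps hu D.E D.E_isPGroup (fun q hq => by
    obtain ⟨f, rfl⟩ := D.mem_E.1 hq
    exact hcom _ _)
  have huniq : Nat.card {y : G // D.HasVal SP.eps (D.vec (SP.e i)) y ∧ ∀ q ∈ D.E, Commute q y} = 1 := by
    rw [Nat.card_eq_one_iff_unique]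
    refine ⟨⟨fun a b => Subtype.ext ?_⟩, ⟨⟨D.t, ?_, fun q hq => ?_⟩⟩⟩
    · have key : ∀ y : {y : G // D.HasVal SP.eps (D.vec (SP.e i)) y ∧ ∀ q ∈ D.E, Commute q y},
          y.1 = D.t := by
        rintro ⟨y, ⟨g, hg, -⟩, hy⟩
        obtain ⟨f, hf⟩ := D.mem_E.1 (D.cent_E (x := y) fun f => (hy _ (D.vec_mem f)).symm)
        obtain ⟨k, hk, hk'⟩ := D.fusion hD (g := g) (f := 1) (f' := f)
          (by rw [D.vec_one, hg, hf])
        show y = D.t
        rw [← hf, hO f ⟨k, hk, hk'⟩, D.vec_one]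
      rw [key a, key b]
    · refine D.hasVal_t (fun h => ?_)
      rw [SP.eps_eq_one_iff, SP.par_ofF_e] at h
      exact one_ne_zero h
    · obtain ⟨f, rfl⟩ := D.mem_E.1 hq
      rw [← D.vec_one]; exact hcom _ _
  rw [huniq] at heven
  exact absurd heven (by decide)

theorem full_of_good (hD : D.Good) : D.Full :=
  (D.only_or_full hD).resolve_left (D.not_only hD)

/-- Some conjugate of the involution lies outside `E`. -/
theorem exists_partner (hD : D.Good) {i0 j0 : ι} (hij : i0 ≠ j0) :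
    ∃ f : ι → ZMod 2, f i0 = 0 ∧ f j0 = 0 ∧
      Even (Finset.univ.filter fun x => f x = 1).card ∧
      Odd ((Fintype.card ι - 2).choose (Finset.univ.filter fun x => f x = 1).card) ∧
      IsConj D.t (D.φ ⟨f, Equiv.swap i0 j0⟩) := by
  classical
  have h2 : ∀ z : ZMod 2, z = 0 ∨ z = 1 := by decide
  have hF := D.full_of_good hD
  set u := D.φ (SP.ofP (Equiv.swap i0 j0)) with hu_def
  have hu : orderOf u = 2 := orderOf_eq_prime
    (by rw [hu_def, sq, ← map_mul, ← map_mul, Equiv.swap_mul_self, map_one, map_one])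
    (fun h => hij (by
      have h1 : Equiv.swap i0 j0 = 1 := SP.ofP_injective
        (D.φ_inj (h.trans (by rw [map_one, map_one])))
      simpa using Equiv.swap_eq_one_iff.1 h1))
  let Q : Subgroup G :=
    { carrier := {x | ∃ f, f i0 = f j0 ∧ D.vec f = x}
      one_mem' := ⟨0, rfl, D.vec_zero⟩
      mul_mem' := by
        rintro _ _ ⟨f, hf, rfl⟩ ⟨g, hg, rfl⟩
        exact ⟨f + g, by rw [Pi.add_apply, Pi.add_apply, hf, hg], D.vec_add f g⟩
      inv_mem' := by
        rintro _ ⟨f, hf, rfl⟩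
        exact ⟨f, hf, (inv_eq_of_mul_eq_one_right (D.vec_sq f)).symm⟩ }
  have hQE : Q ≤ D.E := fun x ⟨f, _, hx⟩ => D.mem_E.2 ⟨f, hx⟩
  have hsym : ∀ f : ι → ZMod 2, f i0 = f j0 → ∀ x, f (Equiv.swap i0 j0 x) = f x := by
    intro f hf x
    rw [congrFun (comp_swap f i0 j0) x, hf, SP.zmod2_add_self, zero_smul, add_zero]
  have heven := D.transfer_even SP.sgn hu Q (D.E_isPGroup.to_le hQE) (by
    rintro _ ⟨f, hf, rfl⟩
    exact ((SP.commute_ofF_iff _ f).2 (hsym f hf)).symm.map D.φ)
  set Y := fun y => D.HasVal SP.sgn u y ∧ ∀ q ∈ Q, Commute q y with hY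
  -- the fixed conjugates come from signed permutations moving at most the pair
  have hform : ∀ y, Y y → ∃ w : SP ι, D.φ w = y ∧ (w.p = 1 ∨ w.p = Equiv.swap i0 j0) ∧
      w.f i0 = w.f j0 := by
    rintro y ⟨hval, hyQ⟩
    have hyC : y ∈ D.Ct := by
      have h := hyQ _ ⟨1, rfl, D.vec_one⟩
      exact mem_centralizer_singleton_iff.2 h.eq.symm
    set w := D.pr y hyC with hw
    have hwQ : ∀ f : ι → ZMod 2, f i0 = f j0 → ∀ x, f (w.p x) = f x := by
      intro f hf
      refine (SP.commute_ofF_iff w f).1 ?_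
      have h1 : Commute (⟨D.vec f, D.φ_mem _⟩ : D.Ct) ⟨y, hyC⟩ :=
        Subtype.ext (hyQ _ ⟨f, hf, rfl⟩).eq
      have h3 := h1.map D.π
      simp only [vec, D.π_φ] at h3
      exact h3.symm
    have hrest : ∀ x, x ≠ i0 → x ≠ j0 → w.p x = x := by
      intro x hi hj
      have h1 := hwQ (SP.e x) (by simp [SP.e_apply, hi.symm, hj.symm]) x
      rw [SP.e_apply, SP.e_apply, if_pos rfl] at h1
      by_contra hne
      rw [if_neg hne] at h1
      exact zero_ne_one h1
    have hwp : w.p = 1 ∨ w.p = Equiv.swap i0 j0 := by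
      by_cases h : w.p i0 = i0
      · refine Or.inl (Equiv.ext fun x => ?_)
        by_cases hx1 : x = i0
        · rw [hx1, h]; rfl
        by_cases hx2 : x = j0
        · subst hx2
          by_contra hne
          have hne' : w.p x ≠ x := hne
          have h4 : w.p x ≠ i0 := fun e => hx1 (w.p.injective (e.trans h.symm))
          exact hne' (w.p.injective (hrest (w.p x) h4 hne'))
        exact hrest x hx1 hx2
      · refine Or.inr ?_
        have h4 : w.p i0 = j0 := by
          by_contra h4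
          exact h (w.p.injective (hrest _ h h4))
        rw [eq_swap_of_moved w.p i0 h fun x hx => ?_, h4]
        rw [h4]
        by_contra hcon
        simp only [not_or] at hcon
        exact hx (hrest x hcon.1 hcon.2)
    have hcomm_u : Commute w (SP.ofP (Equiv.swap i0 j0)) := by
      have h1 : Commute (⟨u, D.φ_mem _⟩ : D.Ct) ⟨y, hyC⟩ :=
        Subtype.ext (D.commute_of_hasVal hval).eq
      have h3 := h1.map D.π
      simp only [hu_def, D.π_φ] at h3
      exact h3.symm
    have hwij : w.f i0 = w.f j0 := by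
      have h5 := ((SP.commute_ofP_iff _ _).1 hcomm_u).2 j0
      rwa [Equiv.swap_apply_right] at h5
    refine ⟨w, ?_, hwp, hwij⟩
    obtain ⟨c, hc, hyc⟩ := D.decomp hyC
    rw [← hw] at hyc
    suffices h : (c : G) = 1 by rw [hyc, h, one_mul]
    by_cases hex : ∃ k, k ≠ i0 ∧ k ≠ j0
    · obtain ⟨k, hk1, hk2⟩ := hex
      refine D.ker_eq_one hc (w := SP.ofF (SP.e k)) (by rw [SP.par_ofF_e]; exact one_ne_zero) ?_
      have h1 : Commute (D.vec (SP.e k)) y :=
        hyQ _ ⟨_, by simp [SP.e_apply, hk1.symm, hk2.symm], rfl⟩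
      have h3 : Commute (D.vec (SP.e k)) (D.φ w) :=
        ((SP.commute_ofF_iff w _).2 (hwQ _ (by simp [SP.e_apply, hk1.symm, hk2.symm]))).symm.map D.φ
      rw [hyc] at h1
      simpa [vec] using (h1.mul_right h3.inv_right).symm
    · simp only [not_exists, not_and, not_not] at hex
      have huniv : (Finset.univ : Finset ι) = {i0, j0} := Finset.ext fun x => by
        simp only [Finset.mem_univ, Finset.mem_insert, Finset.mem_singleton, true_iff]
        exact or_iff_not_imp_left.2 fun h => hex x h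
      have hpar : SP.par w = 0 := by
        rw [SP.par, huniv, Finset.sum_pair hij, hwij]
        exact SP.zmod2_add_self _
      have hcomm := D.ker_commute hc hpar
      have hy2 : y * y = 1 := by
        obtain ⟨g, hg, -⟩ := hval
        rw [← hg, show g * D.t * g⁻¹ * (g * D.t * g⁻¹) = g * (D.t * D.t) * g⁻¹ by group, D.t_sq]
        group
      have hw2 : w * w = 1 := by
        have h1 : (⟨y, hyC⟩ : D.Ct) * ⟨y, hyC⟩ = 1 := Subtype.ext hy2
        have h3 := congrArg D.π h1
        rw [map_mul, map_one] at h3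
        exact h3
      have hc2 : (c : G) * c = 1 := by
        rw [hyc, hcomm.symm.mul_mul_mul_comm, ← map_mul, hw2, map_one, mul_one] at hy2
        exact hy2
      have h3 : orderOf (⟨c, hc⟩ : D.π.ker) ∣ 2 := orderOf_dvd_of_pow_eq_one (by
        refine Subtype.ext (Subtype.ext ?_)
        simpa [sq] using hc2)
      rcases (Nat.dvd_prime Nat.prime_two).1 h3 with h4 | h4
      · simpa using congrArg (fun z : D.π.ker => ((z : D.Ct) : G)) (orderOf_eq_one_iff.1 h4)
      · have h5 := orderOf_dvd_natCard (⟨c, hc⟩ : D.π.ker)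
        rw [h4] at h5
        exact absurd (even_iff_two_dvd.2 h5) (Nat.not_even_iff_odd.2 D.odd_ker)
  haveI : Fintype (SP ι) := Fintype.ofFinite _
  let Z : Finset (SP ι) := Finset.univ.filter fun w => Y (D.φ w)
  have hmemZ : ∀ w, w ∈ Z ↔ Y (D.φ w) := fun w => by simp [Z]
  have hZ : Even Z.card := by
    have h1 : Nat.card {y : G // Y y} = Nat.card {w : SP ι // Y (D.φ w)} := by
      refine (Nat.card_congr (Equiv.ofBijective (fun w => ⟨D.φ w.1, w.2⟩) ⟨?_, ?_⟩)).symm
      · intro a b h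
        exact Subtype.ext (D.φ_inj (congrArg Subtype.val h))
      · rintro ⟨y, hy⟩
        obtain ⟨w, rfl, -⟩ := hform y hy
        exact ⟨⟨w, hy⟩, rfl⟩
    rw [h1, Nat.card_eq_fintype_card, Fintype.card_subtype] at heven
    exact heven
  have hinv : ∀ w ∈ Z, ∀ τ : Equiv.Perm ι, τ i0 = i0 → τ j0 = j0 →
      SP.ofP τ * w * (SP.ofP τ)⁻¹ ∈ Z := by
    intro w hw τ hi hj
    obtain ⟨hval, hwQ⟩ := (hmemZ w).1 hw
    rw [hmemZ]
    have hqu : Commute (D.φ (SP.ofP τ)) u := by
      refine Commute.map (Commute.map ?_ SP.ofP) D.φ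
      rw [commute_iff_eq, Equiv.mul_swap_eq_swap_mul, hi, hj]
    rw [map_mul, map_mul, map_inv]
    refine ⟨D.hasVal_of_commute hval hqu, ?_⟩
    rintro q ⟨f, hf, rfl⟩
    have h1 := hwQ _ ⟨fun x => f (τ x), by show f (τ i0) = f (τ j0); rw [hi, hj, hf], rfl⟩
    have h3 := D.conj_vec (SP.ofP τ) (fun x => f (τ x))
    simp only [SP.ofP_p, Equiv.Perm.coe_inv, Equiv.apply_symm_apply] at h3
    rw [← h3]
    simpa using h1.map (MulAut.conj (D.φ (SP.ofP τ))).toMonoidHom
  set Rest : Finset ι := Finset.univ \ {i0, j0} with hRest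
  have hRmem : ∀ x, x ∈ Rest ↔ x ≠ i0 ∧ x ≠ j0 := fun x => by simp [hRest]
  have hRcard : Rest.card = Fintype.card ι - 2 := by
    rw [hRest, Finset.card_univ_diff, Finset.card_pair hij]
  have hReven : Even Rest.card := by
    rw [hRcard]
    obtain ⟨l, hl⟩ := D.even_card
    exact ⟨l - 1, by omega⟩
  -- the part inside `E`
  let Z1 := Z.filter fun w => w.p = 1
  have hZ1 : Odd Z1.card := by
    let P := Rest.filter fun k => SP.ofF (1 + SP.e k) ∈ Z
    have hone : SP.neg ι ∈ Z := by
      refine (hmemZ _).2 ⟨?_, ?_⟩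
      · rw [D.φ_neg]; exact D.hasVal_t (SP.sgn_swap hij)
      · rintro _ ⟨f, -, rfl⟩
        exact (show Commute (SP.ofF f) (SP.neg ι) from SP.ofF_comm f 1).map D.φ
    have heq : Z1 = insert (SP.neg ι) (P.image fun k => SP.ofF (1 + SP.e k)) := by
      ext w
      simp only [Z1, Finset.mem_filter, Finset.mem_insert, Finset.mem_image, P]
      constructor
      · rintro ⟨hw, hp⟩
        obtain ⟨hval, hwQ⟩ := (hmemZ w).1 hw
        obtain ⟨g, hg, -⟩ := hval
        rw [SP.eq_ofF hp] at hg hw ⊢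
        obtain ⟨k, hk, hk'⟩ := D.fusion hD (g := g) (f := 1) (f' := w.f) (by rw [D.vec_one, hg]; rfl)
        rcases hD w.f ⟨k, hk, hk'⟩ with h | ⟨x, hx⟩
        · exact Or.inl (by rw [h]; rfl)
        · refine Or.inr ⟨x, ⟨(hRmem x).2 ?_, hx ▸ hw⟩, by rw [hx]⟩
          obtain ⟨v, hv, -, hvij⟩ := hform _ ((hmemZ _).1 hw)
          rw [D.φ_inj hv] at hvij
          rw [SP.ofF_f, hx] at hvij
          simp only [Pi.add_apply, Pi.one_apply, SP.e_apply] at hvij
          constructor <;> rintro rfl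
          · simp [hij.symm] at hvij
          · simp [hij] at hvij
      · rintro (rfl | ⟨k, ⟨hk, hkZ⟩, rfl⟩)
        · exact ⟨hone, rfl⟩
        · exact ⟨hkZ, rfl⟩
    have hP : Even P.card := by
      by_cases hne : P.Nonempty
      · obtain ⟨k, hk⟩ := hne
        obtain ⟨hkR, hkZ⟩ := Finset.mem_filter.1 hk
        have : P = Rest := Finset.filter_true_of_mem fun l hl => by
          have h1 := hinv _ hkZ (Equiv.swap k l)
            (Equiv.swap_apply_of_ne_of_ne ((hRmem k).1 hkR).1.symm ((hRmem l).1 hl).1.symm)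
            (Equiv.swap_apply_of_ne_of_ne ((hRmem k).1 hkR).2.symm ((hRmem l).1 hl).2.symm)
          rwa [SP.conj_ofF, SP.ofP_p, Equiv.swap_inv,
            show (fun i => ((1 : ι → ZMod 2) + SP.e k) (Equiv.swap k l i)) = 1 + SP.e l from
              funext fun i => by simp [SP.e_apply, Equiv.swap_apply_eq_iff]] at h1
        rw [this]; exact hReven
      · rw [Finset.not_nonempty_iff_eq_empty.1 hne]; simp
    rw [heq, Finset.card_insert_of_notMem, Finset.card_image_of_injective]
    · exact hP.add_one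
    · intro a b h
      have h3 := congrFun (add_left_cancel (SP.ofF_injective h)) a
      simp only [SP.e_apply, if_true] at h3
      by_contra hne
      rw [if_neg hne] at h3
      exact one_ne_zero h3
    · simp only [Finset.mem_image, not_exists, not_and]
      intro k _ h
      have h3 := congrFun (SP.ofF_injective h) k
      simp [SP.e_apply] at h3
  -- the part outside `E`
  let Z2 := Z.filter fun w => ¬ w.p = 1
  have hZ2 : Odd Z2.card := by
    have h1 : Z1.card + Z2.card = Z.card := Finset.card_filter_add_card_filter_not _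
    rw [Nat.odd_iff] at hZ1 ⊢
    rw [Nat.even_iff] at hZ
    omega
  let key : SP ι → ZMod 2 × ℕ := fun w => (w.f i0, (Rest.filter fun x => w.f x = 1).card)
  have hsum := Finset.card_eq_sum_card_fiberwise (f := key) (s := Z2) (t := Z2.image key)
    (fun w hw => Finset.mem_image_of_mem key hw)
  obtain ⟨⟨e0, b⟩, hkey, hodd⟩ : ∃ κ ∈ Z2.image key, Odd (Z2.filter fun w => key w = κ).card := by
    by_contra hall
    simp only [not_exists, not_and, Nat.not_odd_iff_even] at hall
    exact Nat.not_even_iff_odd.2 hZ2 (hsum ▸ Finset.even_sum _ hall)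
  obtain ⟨w0, hw0, hw0key⟩ := Finset.mem_image.1 hkey
  have hZ2form : ∀ w ∈ Z2, w.p = Equiv.swap i0 j0 ∧ w.f i0 = w.f j0 := by
    intro w hw
    obtain ⟨hwZ, hwp⟩ := Finset.mem_filter.1 hw
    obtain ⟨v, hv, hvp, hvij⟩ := hform _ ((hmemZ w).1 hwZ)
    rw [D.φ_inj hv] at hvp hvij
    exact ⟨hvp.resolve_left hwp, hvij⟩
  simp only [key, Prod.mk.injEq] at hw0key
  obtain ⟨hw0p, hw0ij⟩ := hZ2form w0 hw0
  let mk : Finset ι → SP ι := fun B =>
    ⟨fun x => if x = i0 ∨ x = j0 then e0 else if x ∈ B then 1 else 0, Equiv.swap i0 j0⟩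
  have hfib : (Z2.filter fun w => key w = (e0, b)) = (Rest.powersetCard b).image mk := by
    ext w
    simp only [Finset.mem_filter, Finset.mem_image, Finset.mem_powersetCard, key, Prod.mk.injEq]
    constructor
    · rintro ⟨hw, he, hb⟩
      obtain ⟨hp, hij'⟩ := hZ2form w hw
      refine ⟨Rest.filter fun x => w.f x = 1, ⟨Finset.filter_subset _ _, hb⟩,
        SP.ext (funext fun x => ?_) hp.symm⟩
      simp only [mk]
      by_cases hx : x = i0 ∨ x = j0
      · rw [if_pos hx]
        rcases hx with rfl | rfl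
        · exact he.symm
        · rw [← hij', he]
      · rw [if_neg hx]
        simp only [not_or] at hx
        rcases h2 (w.f x) with h | h <;> simp [h, (hRmem x).2 hx]
    · rintro ⟨B, ⟨hBR, hB⟩, rfl⟩
      set B0 := Rest.filter fun x => w0.f x = 1 with hB0
      let R' := {x : ι // x ∈ Rest}
      let e1 : {x : R' // x.1 ∈ B0} ≃ {x : R' // x.1 ∈ B} := Fintype.equivOfCardEq (by
        have hc : ∀ C : Finset ι, C ⊆ Rest → Fintype.card {x : R' // x.1 ∈ C} = C.card := by
          intro C hC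
          rw [Fintype.card_subtype]
          refine Finset.card_bij (fun x _ => x.1) (fun x hx => by simpa using hx)
            (fun x _ y _ h => Subtype.ext h) fun x hx => ⟨⟨x, hC hx⟩, by simpa using hx, rfl⟩
        rw [hc B0 (Finset.filter_subset _ _), hc B hBR, hB]
        exact hw0key.2)
      let τ : Equiv.Perm ι := Equiv.Perm.ofSubtype e1.extendSubtype
      have hτo : ∀ x, x ∉ Rest → τ x = x := fun x hx =>
        Equiv.Perm.ofSubtype_apply_of_not_mem _ hx
      have hτi : τ i0 = i0 := hτo _ (by simp [hRest])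
      have hτj : τ j0 = j0 := hτo _ (by simp [hRest])
      have hmk : SP.ofP τ * w0 * (SP.ofP τ)⁻¹ = mk B := by
        rw [SP.conj_ofP]
        refine SP.ext (funext fun x => ?_) ?_
        · obtain ⟨y, rfl⟩ := τ.surjective x
          simp only [mk, Equiv.Perm.coe_inv, Equiv.symm_apply_apply]
          by_cases hy : y = i0 ∨ y = j0
          · rcases hy with rfl | rfl
            · rw [if_pos (Or.inl hτi), hw0key.1]
            · rw [if_pos (Or.inr hτj), ← hw0ij, hw0key.1]
          · simp only [not_or] at hy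
            have hyR : y ∈ Rest := (hRmem y).2 hy
            rw [if_neg (by
              simp only [not_or]
              exact ⟨fun h => hy.1 (τ.injective (h.trans hτi.symm)),
                fun h => hy.2 (τ.injective (h.trans hτj.symm))⟩)]
            have hτy : τ y = (e1.extendSubtype ⟨y, hyR⟩).1 :=
              Equiv.Perm.ofSubtype_apply_of_mem _ hyR
            by_cases hy0 : y ∈ B0
            · rw [if_pos (hτy ▸ e1.extendSubtype_mem ⟨y, hyR⟩ hy0)]
              exact (Finset.mem_filter.1 hy0).2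
            · rw [if_neg (hτy ▸ e1.extendSubtype_not_mem ⟨y, hyR⟩ hy0)]
              exact (h2 _).resolve_right fun h => hy0 (Finset.mem_filter.2 ⟨hyR, h⟩)
        · show τ * w0.p * τ⁻¹ = Equiv.swap i0 j0
          rw [hw0p, mul_inv_eq_iff_eq_mul, Equiv.mul_swap_eq_swap_mul, hτi, hτj]
      refine ⟨Finset.mem_filter.2 ⟨hmk ▸ hinv w0 (Finset.mem_filter.1 hw0).1 τ hτi hτj, ?_⟩,
        by simp [mk], ?_⟩
      · show ¬ Equiv.swap i0 j0 = 1
        rw [Equiv.swap_eq_one_iff]; exact hij
      · rw [← hB]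
        congr 1
        ext x
        simp only [Finset.mem_filter, mk]
        constructor
        · rintro ⟨hx, h⟩
          obtain ⟨h3, h4⟩ := (hRmem x).1 hx
          rw [if_neg (by simp [h3, h4])] at h
          by_contra hn
          rw [if_neg hn] at h
          exact zero_ne_one h
        · intro hx
          obtain ⟨h3, h4⟩ := (hRmem x).1 (hBR hx)
          exact ⟨hBR hx, by rw [if_neg (by simp [h3, h4]), if_pos hx]⟩
  have hmkinj : Set.InjOn mk (Rest.powersetCard b : Set (Finset ι)) := by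
    intro B hB C hC h
    rw [Finset.mem_coe, Finset.mem_powersetCard] at hB hC
    ext x
    by_cases hx : x ∈ Rest
    · have h3 := congrFun (congrArg SP.f h) x
      obtain ⟨h4, h5⟩ := (hRmem x).1 hx
      simp only [mk, h4, h5, or_self, if_false] at h3
      constructor <;> intro hm
      · by_contra hn; rw [if_pos hm, if_neg hn] at h3; exact one_ne_zero h3
      · by_contra hn; rw [if_pos hm, if_neg hn] at h3; exact zero_ne_one h3
    · exact iff_of_false (fun h => hx (hB.1 h)) (fun h => hx (hC.1 h))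
  rw [hfib, Finset.card_image_of_injOn hmkinj, Finset.card_powersetCard, hRcard] at hodd
  have hbeven : Even b := by
    by_contra hb
    exact Nat.not_even_iff_odd.2 hodd
      (even_choose_of_odd (hRcard ▸ hReven) (Nat.not_even_iff_odd.1 hb))
  have hconj : IsConj D.t (D.φ w0) := by
    obtain ⟨g, hg, -⟩ := ((hmemZ w0).1 (Finset.mem_filter.1 hw0).1).1
    exact isConj_iff.2 ⟨g, hg⟩
  let f : ι → ZMod 2 := fun x => if x = i0 ∨ x = j0 then 0 else w0.f x
  have hfcard : (Finset.univ.filter fun x => f x = 1).card = b := by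
    rw [← hw0key.2]
    congr 1
    ext x
    simp only [f, Finset.mem_filter, Finset.mem_univ, true_and, hRmem]
    by_cases hx : x = i0 ∨ x = j0
    · rw [if_pos hx]
      exact iff_of_false zero_ne_one (fun h => hx.elim h.1.1 h.1.2)
    · rw [if_neg hx]
      simp only [not_or] at hx
      exact ⟨fun h => ⟨hx, h⟩, fun h => h.2⟩
  refine ⟨f, by simp [f], by simp [f], hfcard.symm ▸ hbeven, hfcard.symm ▸ hodd, hconj.trans ?_⟩
  suffices h : SP.ofF (w0.f i0 • SP.e i0) * w0 * (SP.ofF (w0.f i0 • SP.e i0))⁻¹ =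
      ⟨f, Equiv.swap i0 j0⟩ from
    isConj_iff.2 ⟨D.φ (SP.ofF (w0.f i0 • SP.e i0)), by rw [← map_inv, ← map_mul, ← map_mul, h]⟩
  rw [SP.conj_ofF']
  refine SP.ext (funext fun x => ?_) hw0p
  rw [hw0p, Equiv.swap_inv]
  simp only [f, Pi.smul_apply, smul_eq_mul, SP.e_apply]
  by_cases hxi : x = i0
  · subst hxi
    rw [Equiv.swap_apply_left, if_pos rfl, if_neg hij.symm, if_pos (Or.inl rfl)]
    simp [SP.zmod2_add_self]
  by_cases hxj : x = j0
  · subst hxj
    rw [Equiv.swap_apply_right, if_pos rfl, if_neg hij.symm, if_pos (Or.inr rfl), ← hw0ij]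
    simp [SP.zmod2_add_self]
  · simp [Equiv.swap_apply_of_ne_of_ne hxi hxj, hxi, hxj]

end Setup

end CfsgLib.Involution.AltCentClasses
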