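import Cfsg.Agent.Lib.Involution.AltCentClasses.Tools
import Cfsg.Agent.Lib.Involution.AltCentClasses.TransferStep

/-!
# Exchanging the involution with a conjugate outside `E`
-/

set_option autoImplicit false

namespace CfsgLib.Involution.AltCentClasses

open Subgroup

namespace SP

theorem mem_cent_iff {ι : Type*} {v w : SP ι} :
    v ∈ centralizer ({w} : Set (SP ι)) ↔ Commute v w :=
  mem_centralizer_singleton_iff

/-- The centralizer of a transposition. -/
abbrev L {ι : Type*} [DecidableEq ι] (i0 j0 : ι) : Subgroup (SP ι) :=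
  centralizer ({ofP (Equiv.swap i0 j0)} : Set (SP ι))

theorem mem_L {ι : Type*} [DecidableEq ι] {i0 j0 : ι} (hij : i0 ≠ j0) {v : SP ι} (hv : v ∈ L i0 j0) :
    ((v.p i0 = i0 ∧ v.p j0 = j0) ∨ (v.p i0 = j0 ∧ v.p j0 = i0)) ∧ v.f i0 = v.f j0 := by
  obtain ⟨hp, hf⟩ := (commute_ofP_iff v _).1 (mem_cent_iff.1 hv)
  have hf' := hf j0
  rw [Equiv.swap_apply_right] at hf'
  refine ⟨?_, hf'⟩
  have h1 : ∀ x, v.p (Equiv.swap i0 j0 x) = Equiv.swap i0 j0 (v.p x) := fun x =>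
    Equiv.congr_fun hp x
  have h2 := h1 i0
  rw [Equiv.swap_apply_left] at h2
  have hmem : v.p i0 = i0 ∨ v.p i0 = j0 := by
    by_contra h
    simp only [not_or] at h
    rw [Equiv.swap_apply_of_ne_of_ne h.1 h.2] at h2
    exact hij (v.p.injective h2.symm)
  rcases hmem with h | h
  · exact Or.inl ⟨h, by rw [h2, h, Equiv.swap_apply_left]⟩
  · exact Or.inr ⟨h, by rw [h2, h, Equiv.swap_apply_right]⟩

theorem cent_eq_L {ι : Type*} [DecidableEq ι] {i0 j0 : ι} (hij : i0 ≠ j0) (f : ι → ZMod 2)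
    (hf : f i0 = f j0) (hc : ∀ x y, x ≠ i0 → x ≠ j0 → y ≠ i0 → y ≠ j0 → f x = f y) :
    centralizer ({(⟨f, Equiv.swap i0 j0⟩ : SP ι)} : Set (SP ι)) = L i0 j0 := by
  have key : ∀ v : SP ι, v.p * Equiv.swap i0 j0 = Equiv.swap i0 j0 * v.p →
      ∀ x, f (v.p x) = f x := by
    intro v hv x
    have hmv : ∀ z, Equiv.swap i0 j0 z ≠ z ↔ z = i0 ∨ z = j0 := fun z =>
      Equiv.swap_apply_ne_self_iff.trans (and_iff_right hij)
    have h1 : Equiv.swap i0 j0 (v.p x) = v.p (Equiv.swap i0 j0 x) := (Equiv.congr_fun hv x).symm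
    have hiff : (v.p x = i0 ∨ v.p x = j0) ↔ (x = i0 ∨ x = j0) := by
      rw [← hmv, ← hmv, h1]
      exact not_congr v.p.apply_eq_iff_eq
    by_cases hx : x = i0 ∨ x = j0
    · have hy := hiff.2 hx
      rcases hx with rfl | rfl <;> rcases hy with h | h <;> rw [h] <;>
        first | rfl | exact hf | exact hf.symm
    · have hy := fun h => hx (hiff.1 h)
      simp only [not_or] at hx
      exact hc _ _ (fun h => hy (Or.inl h)) (fun h => hy (Or.inr h)) hx.1 hx.2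
  ext v
  rw [mem_cent_iff, mem_cent_iff, commute_iff, commute_ofP_iff]
  refine and_congr_right fun hv => ⟨fun h i => ?_, fun h i => ?_⟩
  · have h1 := h (Equiv.swap i0 j0 i)
    simp only [Equiv.swap_inv, Equiv.swap_apply_self] at h1
    have h2 := key v hv (v.p⁻¹ (Equiv.swap i0 j0 i))
    simp only [Equiv.Perm.coe_inv, Equiv.apply_symm_apply] at h2 h1
    rw [← h2, add_comm] at h1
    exact add_left_cancel h1
  · have h2 := key v hv (v.p⁻¹ i)
    simp only [Equiv.Perm.coe_inv, Equiv.apply_symm_apply] at h2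
    simp only [Equiv.swap_inv, Equiv.Perm.coe_inv, ← h2]
    rw [h, add_comm]

/-- Any homomorphism to a group of order two kills a sum over an even set of one part. -/
theorem hom_part {ι : Type*} [Fintype ι] [DecidableEq ι] {w : SP ι}
    (χ : centralizer ({w} : Set (SP ι)) →* Multiplicative (ZMod 2)) (B : Finset ι)
    (hfix : ∀ x ∈ B, w.p x = x) (hf : ∀ x ∈ B, ∀ y ∈ B, w.f x = w.f y) (hB : Even B.card)
    (hm : ofF (∑ x ∈ B, e x) ∈ centralizer ({w} : Set (SP ι))) :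
    χ ⟨ofF (∑ x ∈ B, e x), hm⟩ = 1 :=
  hom_sum_even _ χ e B (fun x hx => mem_cent_iff.2 (ofF_e_commute (hfix x hx)).symm)
    (fun x hx y hy => ⟨ofP (Equiv.swap x y),
      mem_cent_iff.2 (swap_commute (hfix x hx) (hfix y hy) (hf x hx y hy)).symm,
      by rw [conj_ofF_e, ofP_p, Equiv.swap_apply_left]⟩) hB hm

end SP

namespace Setup

variable {G : Type*} [Group G] {ι : Type*} [Fintype ι] [DecidableEq ι] (D : Setup G ι) [Finite G]

theorem inj_hom {g : G} {w1 w2 : SP ι} (h1 : g * D.φ w1 * g⁻¹ = D.t)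
    (h2 : g * D.t * g⁻¹ = D.φ w2) (hw : w1 * w1 = 1) :
    ∃ ψ : centralizer ({w1} : Set (SP ι)) →* centralizer ({w2} : Set (SP ι)),
      Function.Injective ψ ∧ ∀ v : centralizer ({w1} : Set (SP ι)), ∀ hm : g * D.φ (v : SP ι) * g⁻¹ ∈ D.Ct,
        (ψ v : SP ι) = D.pr (g * D.φ (v : SP ι) * g⁻¹) hm := by
  set K := centralizer ({w1} : Set (SP ι)) with hK
  have hmem : ∀ v : K, g * D.φ (v : SP ι) * g⁻¹ ∈ D.Ct := fun v => by
    refine mem_centralizer_singleton_iff.2 ?_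
    rw [← h1]
    calc g * D.φ (v : SP ι) * g⁻¹ * (g * D.φ w1 * g⁻¹)
        = g * D.φ ((v : SP ι) * w1) * g⁻¹ := by rw [map_mul]; group
      _ = g * D.φ (w1 * (v : SP ι)) * g⁻¹ := by rw [(SP.mem_cent_iff.1 v.2).eq]
      _ = _ := by rw [map_mul]; group
  let θ : K →* D.Ct :=
    { toFun := fun v => ⟨_, hmem v⟩
      map_one' := Subtype.ext (by simp)
      map_mul' := fun a b => Subtype.ext (by simp only [Subgroup.coe_mul, map_mul]; group) }
  have hcomm2 : ∀ v : K, Commute (D.π (θ v)) w2 := fun v => by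
    have h3 : θ v * ⟨D.φ w2, D.φ_mem w2⟩ = ⟨D.φ w2, D.φ_mem w2⟩ * θ v := by
      refine Subtype.ext ?_
      show g * D.φ (v : SP ι) * g⁻¹ * D.φ w2 = D.φ w2 * (g * D.φ (v : SP ι) * g⁻¹)
      rw [← h2]
      calc g * D.φ (v : SP ι) * g⁻¹ * (g * D.t * g⁻¹)
          = g * (D.φ (v : SP ι) * D.t) * g⁻¹ := by group
        _ = g * (D.t * D.φ (v : SP ι)) * g⁻¹ := by
          rw [mem_centralizer_singleton_iff.1 (D.φ_mem (v : SP ι))]
        _ = _ := by group
    have h4 := congrArg D.π h3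
    rw [map_mul, map_mul, D.π_φ] at h4
    exact h4
  let ψ := (D.π.comp θ).codRestrict _ fun v => SP.mem_cent_iff.2 (hcomm2 v)
  refine ⟨ψ, ?_, fun v hm => rfl⟩
  have hθ : Function.Injective θ := fun a b h => Subtype.ext (D.φ_inj (by
    have h3 : g * D.φ (a : SP ι) * g⁻¹ = g * D.φ (b : SP ι) * g⁻¹ := congrArg Subtype.val h
    simpa using h3))
  let U := (D.π.comp θ).ker.map K.subtype
  have hU : U = ⊥ := by
    refine SP.no_normal_odd hw U ?_ ?_ ?_
    · rintro _ ⟨v, -, rfl⟩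
      exact SP.mem_cent_iff.1 v.2
    · rintro x hx _ ⟨v, hv, rfl⟩
      exact ⟨⟨x, SP.mem_cent_iff.2 hx⟩ * v * ⟨x, SP.mem_cent_iff.2 hx⟩⁻¹,
        (MonoidHom.normal_ker _).conj_mem v hv _, rfl⟩
    · have hcard : Nat.card U = Nat.card (D.π.comp θ).ker :=
        (Nat.card_congr ((D.π.comp θ).ker.equivMapOfInjective K.subtype K.subtype_injective).toEquiv).symm
      rw [hcard]
      refine D.odd_ker.of_dvd_nat ?_
      rw [← MonoidHom.comap_ker]
      exact Subgroup.card_comap_dvd_of_injective D.π.ker θ hθ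
  rw [injective_iff_map_eq_one]
  intro v hv
  have h5 : (v : SP ι) ∈ U := ⟨v, congrArg Subtype.val hv, rfl⟩
  rw [hU, Subgroup.mem_bot] at h5
  exact Subtype.ext h5

/-- A conjugate of the involution in a centralizer gives an isomorphism of centralizers
respecting fusion. -/
theorem exists_swap_iso {g : G} {w w' : SP ι} (h1 : g * D.φ w * g⁻¹ = D.t)
    (h2 : g * D.t * g⁻¹ = D.φ w') (hw : w * w = 1) (hw' : w' * w' = 1) :
    ∃ ψ : centralizer ({w} : Set (SP ι)) ≃* centralizer ({w'} : Set (SP ι)),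
      (∀ v : centralizer ({w} : Set (SP ι)), (v : SP ι) = w → (ψ v : SP ι) = SP.neg ι) ∧
      (∀ v : centralizer ({w} : Set (SP ι)), (v : SP ι) = SP.neg ι → (ψ v : SP ι) = w') ∧
      ∀ v : centralizer ({w} : Set (SP ι)), v * v = 1 → IsConj (D.φ (v : SP ι)) (D.φ (ψ v : SP ι)) := by
  obtain ⟨ψ, hψ, hval⟩ := D.inj_hom h1 h2 hw
  obtain ⟨ψ', hψ', -⟩ := D.inj_hom (g := g⁻¹) (w1 := w') (w2 := w)
    (by rw [← h2]; group) (by rw [← h1]; group) hw'
  have hmem : ∀ v : centralizer ({w} : Set (SP ι)), g * D.φ (v : SP ι) * g⁻¹ ∈ D.Ct := fun v => by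
    refine mem_centralizer_singleton_iff.2 ?_
    rw [← h1]
    calc g * D.φ (v : SP ι) * g⁻¹ * (g * D.φ w * g⁻¹)
        = g * D.φ ((v : SP ι) * w) * g⁻¹ := by rw [map_mul]; group
      _ = g * D.φ (w * (v : SP ι)) * g⁻¹ := by rw [(SP.mem_cent_iff.1 v.2).eq]
      _ = _ := by rw [map_mul]; group
  have hbij : Function.Bijective ψ := (Nat.bijective_iff_injective_and_card ψ).2
    ⟨hψ, le_antisymm (Nat.card_le_card_of_injective ψ hψ) (Nat.card_le_card_of_injective ψ' hψ')⟩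
  refine ⟨MulEquiv.ofBijective ψ hbij, fun v hv => ?_, fun v hv => ?_, fun v hv => ?_⟩
  · show (ψ v : SP ι) = _
    rw [hval v (hmem v)]
    have : (⟨g * D.φ (v : SP ι) * g⁻¹, hmem v⟩ : D.Ct) = ⟨D.φ (SP.neg ι), D.φ_mem _⟩ :=
      Subtype.ext (by
        show g * D.φ (v : SP ι) * g⁻¹ = D.φ (SP.neg ι)
        rw [hv, h1, D.φ_neg])
    exact (congrArg D.π this).trans (D.π_φ _ _)
  · show (ψ v : SP ι) = _
    rw [hval v (hmem v)]
    have : (⟨g * D.φ (v : SP ι) * g⁻¹, hmem v⟩ : D.Ct) = ⟨D.φ w', D.φ_mem _⟩ :=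
      Subtype.ext (by
        show g * D.φ (v : SP ι) * g⁻¹ = D.φ w'
        rw [hv, D.φ_neg, h2])
    exact (congrArg D.π this).trans (D.π_φ _ _)
  · show IsConj _ (D.φ (ψ v : SP ι))
    rw [hval v (hmem v)]
    have hx2 : g * D.φ (v : SP ι) * g⁻¹ * (g * D.φ (v : SP ι) * g⁻¹) = 1 := by
      have h3 : (v : SP ι) * (v : SP ι) = 1 := congrArg Subtype.val hv
      calc _ = g * D.φ ((v : SP ι) * (v : SP ι)) * g⁻¹ := by rw [map_mul]; group
        _ = 1 := by rw [h3, map_one]; group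
    obtain ⟨c, -, hc⟩ := D.cent_involution (hmem v) hx2
    exact isConj_iff.2 ⟨(c : G) * g, by rw [← hc]; group⟩

end Setup

end CfsgLib.Involution.AltCentClasses
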