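import Cfsg.Agent.Lib.Involution.AltCentClasses.Aut

/-!
# Every involution is conjugate into `E`
-/

set_option autoImplicit false

namespace CfsgLib.Involution.AltCentClasses

open Subgroup

namespace Setup

variable {G : Type*} [Group G] {ι : Type*} [Fintype ι] [DecidableEq ι] (D : Setup G ι) [Finite G]

theorem mem_L_of_involution {w : SP ι} (hw : w * w = 1) (i : ι) :
    w ∈ SP.L i (w.p i) := by
  obtain ⟨hp, hsym⟩ := (SP.sq_iff w).1 hw
  refine SP.mem_cent_iff.2 ((SP.commute_ofP_iff _ _).2 ⟨?_, fun x => ?_⟩)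
  · rw [Equiv.mul_swap_eq_swap_mul,
      show w.p (w.p i) = i by simpa using Equiv.congr_fun hp i, Equiv.swap_comm]
  · by_cases h1 : x = i
    · rw [h1, Equiv.swap_apply_left, hsym]
    by_cases h2 : x = w.p i
    · rw [h2, Equiv.swap_apply_right, hsym]
    rw [Equiv.swap_apply_of_ne_of_ne h1 h2]

/-- One step: an involution moving a point is conjugate to the image of an element of the
centralizer of the transposition fixing the pair. -/
theorem exists_step {i j : ι} (hij : i ≠ j) (ψ : SP.L i j ≃* SP.L i j)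
    (hd : ∀ v : SP.L i j, (v : SP ι) = SP.ofF (SP.e i + SP.e j) → (ψ v : SP ι).p i = j)
    (hfus : ∀ v : SP.L i j, v * v = 1 → IsConj (D.φ (v : SP ι)) (D.φ (ψ v : SP ι)))
    (u : SP ι) (hu : u ∈ SP.L i j) (hu2 : u * u = 1) (hup : u.p i = j) :
    ∃ u1 : SP.L i j, ((u1 : SP ι) = u ∨ (u1 : SP ι) = u * SP.ofF (SP.e i + SP.e j)) ∧
      (u1 : SP ι) * u1 = 1 ∧ (ψ u1 : SP ι).p i = i ∧ (ψ u1 : SP ι).p j = j ∧
      IsConj (D.φ u) (D.φ (ψ u1 : SP ι)) := by
  obtain ⟨hp, hsym⟩ := (SP.sq_iff u).1 hu2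
  have hinv : u.p⁻¹ = u.p := inv_eq_of_mul_eq_one_right hp
  have hujp : u.p j = i := by
    rw [← hup]
    simpa using Equiv.congr_fun hp i
  have hdmem : SP.ofF (SP.e i + SP.e j) ∈ SP.L i j := by
    refine SP.mem_cent_iff.2 (((SP.commute_ofF_iff _ _).2 fun x => ?_).symm)
    simp only [SP.ofP_p, Pi.add_apply, SP.e_apply, Equiv.swap_apply_eq_iff, Equiv.swap_apply_left,
      Equiv.swap_apply_right]
    exact add_comm _ _
  set d : SP.L i j := ⟨_, hdmem⟩ with hd_def
  set uu : SP.L i j := ⟨u, hu⟩ with huu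
  have hd' : (SP.ofF (SP.e i) * u * (SP.ofF (SP.e i))⁻¹) = u * SP.ofF (SP.e i + SP.e j) := by
    rw [SP.conj_ofF']
    refine SP.ext (funext fun x => ?_) (by simp)
    rw [SP.mul_f, SP.ofF_f, hinv]
    simp only [Pi.add_apply, SP.e_apply]
    have h1 : u.p x = i ↔ x = j := ⟨fun h => u.p.injective (h.trans hujp.symm), fun h => h ▸ hujp⟩
    have h2 : u.p x = j ↔ x = i := ⟨fun h => u.p.injective (h.trans hup.symm), fun h => h ▸ hup⟩
    rw [if_congr h1 rfl rfl, if_congr h2 rfl rfl]
    abel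
  have hcomm : ∀ v : SP.L i j, ((v : SP ι).p i = i ∧ (v : SP ι).p j = j) ∨
      ((v : SP ι).p i = j ∧ (v : SP ι).p j = i) := fun v => (SP.mem_L hij v.2).1
  rcases hcomm (ψ uu) with h | h
  · refine ⟨uu, Or.inl rfl, hu2, h.1, h.2, hfus uu (Subtype.ext hu2)⟩
  · have hud2 : u * SP.ofF (SP.e i + SP.e j) * (u * SP.ofF (SP.e i + SP.e j)) = 1 := by
      rw [← hd', show SP.ofF (SP.e i) * u * (SP.ofF (SP.e i))⁻¹ *
        (SP.ofF (SP.e i) * u * (SP.ofF (SP.e i))⁻¹) =
        SP.ofF (SP.e i) * (u * u) * (SP.ofF (SP.e i))⁻¹ by group, hu2]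
      group
    refine ⟨uu * d, Or.inr rfl, hud2, ?_, ?_, ?_⟩
    · rw [map_mul, Subgroup.coe_mul, SP.mul_p, Equiv.Perm.mul_apply, hd d rfl, h.2]
    · rw [map_mul, Subgroup.coe_mul, SP.mul_p, Equiv.Perm.mul_apply]
      have h3 : (ψ d : SP ι).p j = i := by
        rcases hcomm (ψ d) with h4 | h4
        · exact absurd (h4.1.symm.trans (hd d rfl)) hij
        · exact h4.2
      rw [h3, h.1]
    · refine IsConj.trans ?_ (hfus (uu * d) (Subtype.ext hud2))
      show IsConj (D.φ u) (D.φ (u * SP.ofF (SP.e i + SP.e j)))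
      rw [← hd']
      exact D.isConj_vec_of_conj _ _

theorem conj_central (hD : D.Good) (h4 : 4 ≤ Fintype.card ι) {i j : ι} (hij : i ≠ j)
    (g : ι → ZMod 2) (hg : g i = g j)
    (hc : ∀ x y, x ≠ i → x ≠ j → y ≠ i → y ≠ j → g x = g y) :
    ∃ f, IsConj (D.φ (⟨g, Equiv.swap i j⟩ : SP ι)) (D.vec f) := by
  classical
  obtain ⟨ψ, hd, hfus⟩ := D.exists_aut hD hij h4
  set u : SP ι := ⟨g, Equiv.swap i j⟩ with hu
  have hgswap : ∀ x, g (Equiv.swap i j x) = g x := fun x => by
    rw [congrFun (comp_swap g i j) x, hg, SP.zmod2_add_self, zero_smul, add_zero]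
  have hu2 : u * u = 1 := (SP.sq_iff u).2 ⟨Equiv.swap_mul_self _ _, hgswap⟩
  have huL : u ∈ SP.L i j :=
    SP.mem_cent_iff.2 ((SP.commute_ofP_iff _ _).2 ⟨rfl, hgswap⟩)
  have hLu : centralizer ({u} : Set (SP ι)) = SP.L i j := SP.cent_eq_L hij g hg hc
  obtain ⟨u1, hu1, -, hi, hj, hconj⟩ :=
    D.exists_step hij ψ hd hfus u huL hu2 (Equiv.swap_apply_left i j)
  have hz : ∀ v ∈ SP.L i j, Commute v (u1 : SP ι) := by
    intro v hv
    have h1 : Commute v u := SP.mem_cent_iff.1 (hLu ▸ hv)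
    rcases hu1 with e | e <;> rw [e]
    · exact h1
    · refine h1.mul_right ((SP.commute_ofF_iff v _).2 fun x => ?_)
      have hiff : ∀ z, SP.e i z + SP.e j z = if z = i ∨ z = j then 1 else 0 := fun z => by
        simp only [SP.e_apply]
        by_cases h2 : z = i
        · subst h2
          rw [if_pos rfl, if_neg hij, if_pos (Or.inl rfl), add_zero]
        · by_cases h3 : z = j <;> simp [h2, h3, Ne.symm hij]
      rw [Pi.add_apply, Pi.add_apply, hiff, hiff]
      refine if_congr ⟨fun h => ?_, fun h => ?_⟩ rfl rfl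
      · rcases (SP.mem_L hij hv).1 with ⟨a, b⟩ | ⟨a, b⟩ <;> rcases h with h | h
        · exact Or.inl (v.p.injective (h.trans a.symm))
        · exact Or.inr (v.p.injective (h.trans b.symm))
        · exact Or.inr (v.p.injective (h.trans b.symm))
        · exact Or.inl (v.p.injective (h.trans a.symm))
      · rcases (SP.mem_L hij hv).1 with ⟨a, b⟩ | ⟨a, b⟩ <;> rcases h with rfl | rfl
        exacts [Or.inl a, Or.inr b, Or.inr a, Or.inl b]
  set z : SP ι := (ψ u1 : SP ι) with hzdef
  have hzc : ∀ v ∈ SP.L i j, Commute v z := by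
    intro v hv
    obtain ⟨v0, hv0⟩ := ψ.surjective ⟨v, hv⟩
    have h5 : Commute v0 u1 := Subtype.ext (hz v0 v0.2).eq
    have h6 := (h5.map ψ.toMonoidHom).map (SP.L i j).subtype
    simp only [MulEquiv.coe_toMonoidHom, hv0] at h6
    exact h6
  have hzp : z.p = 1 := Equiv.ext fun x => by
    by_cases hxi : x = i
    · rw [hxi, hi]; rfl
    by_cases hxj : x = j
    · rw [hxj, hj]; rfl
    have hfix : (SP.ofP (Equiv.swap i j)).p x = x := Equiv.swap_apply_of_ne_of_ne hxi hxj
    have h5 := (SP.commute_ofF_iff z (SP.e x)).1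
      (hzc _ (SP.mem_cent_iff.2 (SP.ofF_e_commute hfix).symm)).symm x
    rw [SP.e_apply, SP.e_apply, if_pos rfl] at h5
    by_contra hne
    rw [if_neg (show ¬ z.p x = x from hne)] at h5
    exact zero_ne_one h5
  refine ⟨z.f, ?_⟩
  rw [vec, ← SP.eq_ofF hzp]
  exact hconj

/-- The number of sign vectors fixed by the permutation. -/
noncomputable def fixCard (w : SP ι) : ℕ := Nat.card {f : ι → ZMod 2 // ∀ x, f (w.p x) = f x}

theorem fixCard_le (w : SP ι) : fixCard w ≤ 2 ^ Fintype.card ι := by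
  refine (Nat.card_le_card_of_injective _ Subtype.val_injective).trans (le_of_eq ?_)
  rw [Nat.card_fun, Nat.card_zmod, Nat.card_eq_fintype_card]

theorem fixCard_lt (hD : D.Good) (h6 : 6 ≤ Fintype.card ι) (w : SP ι) (hw : w * w = 1) {i : ι}
    (hi : w.p i ≠ i) :
    ∃ w' : SP ι, w' * w' = 1 ∧ IsConj (D.φ w) (D.φ w') ∧ fixCard w < fixCard w' := by
  classical
  set j := w.p i with hj
  have hij : i ≠ j := Ne.symm hi
  obtain ⟨ψ, hd, hfus⟩ := D.exists_aut hD hij (by omega)
  obtain ⟨u1, hu1, hu12, hpi, hpj, hconj⟩ :=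
    D.exists_step hij ψ hd hfus w (mem_L_of_involution hw i) hw hj.symm
  refine ⟨(ψ u1 : SP ι), ?_, hconj, ?_⟩
  · have h1 : u1 * u1 = 1 := Subtype.ext hu12
    exact congrArg Subtype.val ((map_mul ψ u1 u1).symm.trans ((congrArg ψ h1).trans (map_one ψ)))
  -- the elements fixing every point outside the pair
  let M : Subgroup (SP.L i j) :=
    { carrier := {v | ∀ x, x ≠ i → x ≠ j → (v : SP ι).p x = x}
      one_mem' := fun x _ _ => rfl
      mul_mem' := fun {a b} ha hb x hx hy => by
        show ((a : SP ι) * b).p x = x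
        rw [SP.mul_p, Equiv.Perm.mul_apply, hb x hx hy, ha x hx hy]
      inv_mem' := fun {a} ha x hx hy => by
        show ((a : SP ι)⁻¹).p x = x
        rw [SP.inv_p, Equiv.Perm.inv_eq_iff_eq]
        exact (ha x hx hy).symm }
  have hMform : ∀ v : SP.L i j, v ∈ M →
      (v : SP ι).p = 1 ∨ (v : SP ι).p = Equiv.swap i j := by
    intro v hv
    rcases (SP.mem_L hij v.2).1 with ⟨a, b⟩ | ⟨a, b⟩
    · refine Or.inl (Equiv.ext fun x => ?_)
      by_cases h1 : x = i
      · rw [h1, a]; rfl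
      by_cases h2 : x = j
      · rw [h2, b]; rfl
      exact hv x h1 h2
    · refine Or.inr (Equiv.ext fun x => ?_)
      by_cases h1 : x = i
      · rw [h1, a, Equiv.swap_apply_left]
      by_cases h2 : x = j
      · rw [h2, b, Equiv.swap_apply_right]
      rw [Equiv.swap_apply_of_ne_of_ne h1 h2]
      exact hv x h1 h2
  have hswapf : ∀ (g : ι → ZMod 2), g i = g j → ∀ x, g (Equiv.swap i j x) = g x := fun g hg x => by
    rw [congrFun (comp_swap g i j) x, hg, SP.zmod2_add_self, zero_smul, add_zero]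
  have hMsym : ∀ v : SP.L i j, v ∈ M → ∀ (g : ι → ZMod 2), g i = g j →
      ∀ x, g ((v : SP ι).p⁻¹ x) = g x := by
    intro v hv g hg x
    rcases hMform v hv with e | e <;> rw [e]
    · simp
    · rw [Equiv.swap_inv]; exact hswapf g hg x
  have hMab : ∀ a ∈ M, ∀ b ∈ M, Commute a b := by
    intro a ha b hb
    refine Subtype.ext ((SP.commute_iff (a : SP ι) b).2 ⟨?_, fun x => ?_⟩).eq
    · rcases hMform a ha with e | e <;> rcases hMform b hb with e' | e' <;> simp [e, e']
    · rw [hMsym a ha _ (SP.mem_L hij b.2).2, hMsym b hb _ (SP.mem_L hij a.2).2, add_comm]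
  have hMn : ∀ v : SP.L i j, ∀ a ∈ M, v * a * v⁻¹ ∈ M := by
    intro v a ha x hx hy
    show ((v : SP ι) * a * (v : SP ι)⁻¹).p x = x
    have hpre : (v : SP ι).p⁻¹ x ≠ i ∧ (v : SP ι).p⁻¹ x ≠ j := by
      simp only [ne_eq, Equiv.Perm.inv_eq_iff_eq]
      rcases (SP.mem_L hij v.2).1 with ⟨h1, h2⟩ | ⟨h1, h2⟩
      · rw [h1, h2]; exact ⟨hx, hy⟩
      · rw [h1, h2]; exact ⟨hy, hx⟩
    rw [SP.mul_p, SP.mul_p, SP.inv_p, Equiv.Perm.mul_apply, Equiv.Perm.mul_apply,
      ha _ hpre.1 hpre.2]
    simp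
  have hMsub : ∀ v ∈ M, ψ v ∈ M := by
    intro v hv x hx hy
    by_contra hne
    let A : Subgroup (SP ι) := (M.map ψ.toMonoidHom).map (SP.L i j).subtype
    have hAn : ∀ g, Commute g (SP.ofP (Equiv.swap i j)) → ∀ a ∈ A, g * a * g⁻¹ ∈ A := by
      rintro g hg _ ⟨_, ⟨m, hm, rfl⟩, rfl⟩
      obtain ⟨v1, hv1⟩ := ψ.surjective ⟨g, SP.mem_cent_iff.2 hg⟩
      refine ⟨ψ (v1 * m * v1⁻¹), ⟨_, hMn v1 m hm, rfl⟩, ?_⟩
      simp [hv1]
    have hAab : ∀ a ∈ A, ∀ a' ∈ A, Commute a a' := by
      rintro _ ⟨_, ⟨m, hm, rfl⟩, rfl⟩ _ ⟨_, ⟨m', hm', rfl⟩, rfl⟩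
      exact ((hMab m hm m' hm').map ψ.toMonoidHom).map (SP.L i j).subtype
    have hfix : (SP.ofP (Equiv.swap i j)).p x = x := Equiv.swap_apply_of_ne_of_ne hx hy
    have hpart := SP.normal_abelian_part A hAn hAab (a := (ψ v : SP ι)) ⟨_, ⟨v, hv, rfl⟩, rfl⟩
      (SP.mem_cent_iff.1 (ψ v).2) hfix hne
    obtain ⟨z, hz⟩ : ∃ z, z ∉ ({i, j, x, (ψ v : SP ι).p x} : Finset ι) := by
      by_contra hall
      simp only [not_exists, not_not] at hall
      have h1 := Finset.card_le_card (fun z _ => hall z :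
        (Finset.univ : Finset ι) ⊆ {i, j, x, (ψ v : SP ι).p x})
      have h2 : ({i, j, x, (ψ v : SP ι).p x} : Finset ι).card ≤ 4 := Finset.card_le_four
      rw [Finset.card_univ] at h1
      omega
    simp only [Finset.mem_insert, Finset.mem_singleton, not_or] at hz
    rcases hpart z (Equiv.swap_apply_of_ne_of_ne hz.1 hz.2.1) rfl with e | e
    · exact hz.2.2.1 e
    · exact hz.2.2.2 e
  have hMiff : ∀ v, v ∈ M ↔ ψ v ∈ M := by
    intro v
    refine ⟨hMsub v, fun h => ?_⟩
    have hinj : Function.Injective fun a : M => (⟨ψ a.1, hMsub a.1 a.2⟩ : M) := fun a b hab =>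
      Subtype.ext (ψ.injective (congrArg Subtype.val hab))
    obtain ⟨a, ha⟩ := (Finite.injective_iff_surjective.1 hinj) ⟨ψ v, h⟩
    rw [← ψ.injective (congrArg Subtype.val ha)]
    exact a.2
  let Nc : SP ι → ℕ := fun u => Nat.card {f : ι → ZMod 2 // f i = f j ∧ ∀ x, f (u.p x) = f x}
  have hcount : ∀ u : SP.L i j, Nat.card {m : SP.L i j // m ∈ M ∧ Commute m u} = 2 * Nc u := by
    intro u
    have hui := (SP.mem_L hij u.2).2
    have hup : (u : SP ι).p * Equiv.swap i j = Equiv.swap i j * (u : SP ι).p :=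
      ((SP.commute_ofP_iff _ _).1 (SP.mem_cent_iff.1 u.2)).1
    have hmk : ∀ (g : ι → ZMod 2) (b : ZMod 2), g i = g j →
        (⟨g, if b = 0 then 1 else Equiv.swap i j⟩ : SP ι) ∈ SP.L i j := by
      intro g b hg
      refine SP.mem_cent_iff.2 ((SP.commute_ofP_iff _ _).2 ⟨?_, hswapf g hg⟩)
      show (if b = 0 then 1 else Equiv.swap i j) * _ = _
      split_ifs <;> simp
    have hmkM : ∀ (g : ι → ZMod 2) (b : ZMod 2) (hg : g i = g j), ⟨_, hmk g b hg⟩ ∈ M := by
      intro g b hg x hx hy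
      show (if b = 0 then (1 : Equiv.Perm ι) else Equiv.swap i j) x = x
      split_ifs
      · rfl
      · exact Equiv.swap_apply_of_ne_of_ne hx hy
    let F : ZMod 2 × {f : ι → ZMod 2 // f i = f j ∧ ∀ x, f ((u : SP ι).p x) = f x} →
        {m : SP.L i j // m ∈ M ∧ Commute m u} := fun bg =>
      ⟨⟨_, hmk bg.2.1 bg.1 bg.2.2.1⟩, hmkM bg.2.1 bg.1 bg.2.2.1, by
        refine Subtype.ext ((SP.commute_iff _ (u : SP ι)).2 ⟨?_, fun x => ?_⟩).eq
        · show (if bg.1 = 0 then (1 : Equiv.Perm ι) else Equiv.swap i j) * _ = _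
          split_ifs
          · simp
          · exact hup.symm
        · have h1 := hMsym ⟨_, hmk bg.2.1 bg.1 bg.2.2.1⟩ (hmkM bg.2.1 bg.1 bg.2.2.1)
            (u : SP ι).f hui x
          show bg.2.1 x + _ = _ + bg.2.1 ((u : SP ι).p⁻¹ x)
          rw [h1]
          have h3 := bg.2.2.2 ((u : SP ι).p⁻¹ x)
          simp only [Equiv.Perm.coe_inv, Equiv.apply_symm_apply] at h3 ⊢
          rw [← h3, add_comm]⟩
    have hF : Function.Bijective F := by
      constructor
      · rintro ⟨b, g⟩ ⟨b', g'⟩ h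
        have h1 : (⟨g.1, if b = 0 then 1 else Equiv.swap i j⟩ : SP ι) =
            ⟨g'.1, if b' = 0 then 1 else Equiv.swap i j⟩ :=
          congrArg (fun m : {m : SP.L i j // m ∈ M ∧ Commute m u} => ((m.1 : SP.L i j) : SP ι)) h
        have h2 : ∀ z : ZMod 2, z = 0 ∨ z = 1 := by decide
        refine Prod.ext ?_ (Subtype.ext (congrArg SP.f h1))
        have h3 : (if b = 0 then (1 : Equiv.Perm ι) else Equiv.swap i j) =
            if b' = 0 then 1 else Equiv.swap i j := congrArg SP.p h1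
        have h4 : Equiv.swap i j ≠ 1 := fun e => hij (Equiv.swap_eq_one_iff.1 e)
        rcases h2 b with rfl | rfl <;> rcases h2 b' with rfl | rfl
        · rfl
        · rw [if_pos rfl, if_neg one_ne_zero] at h3; exact absurd h3.symm h4
        · rw [if_pos rfl, if_neg one_ne_zero] at h3; exact absurd h3 h4
        · rfl
      · rintro ⟨m, hm, hmu⟩
        have hm' : Commute (m : SP ι) (u : SP ι) := hmu.map (SP.L i j).subtype
        have hf := ((SP.commute_iff _ _).1 hm').2
        have hg : ∀ x, (m : SP ι).f ((u : SP ι).p x) = (m : SP ι).f x := by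
          intro x
          have h3 := hf ((u : SP ι).p x)
          rw [hMsym m hm _ hui, add_comm ((u : SP ι).f _)] at h3
          simpa using add_right_cancel h3
        refine ⟨(if (m : SP ι).p = 1 then 0 else 1, ⟨(m : SP ι).f, (SP.mem_L hij m.2).2, hg⟩),
          Subtype.ext (Subtype.ext (SP.ext rfl ?_))⟩
        show (if (if (m : SP ι).p = 1 then (0 : ZMod 2) else 1) = 0 then (1 : Equiv.Perm ι)
          else Equiv.swap i j) = (m : SP ι).p
        by_cases e : (m : SP ι).p = 1
        · rw [if_pos e, if_pos rfl, e]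
        · rw [if_neg e, if_neg one_ne_zero]
          exact ((hMform m hm).resolve_left e).symm
    rw [← Nat.card_congr (Equiv.ofBijective F hF), Nat.card_prod, Nat.card_zmod]
  have hNeq : Nc u1 = Nc (ψ u1 : SP ι) := by
    have h := Nat.card_congr (Equiv.subtypeEquiv ψ.toEquiv (p := fun m => m ∈ M ∧ Commute m u1)
      (q := fun m => m ∈ M ∧ Commute m (ψ u1)) fun m => by
        rw [hMiff m]
        refine and_congr_right fun _ => ⟨fun h => h.map ψ.toMonoidHom, fun h => ?_⟩
        have h1 := h.map ψ.symm.toMonoidHom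
        simpa using h1)
    rw [hcount, hcount] at h
    omega
  have hp1 : (u1 : SP ι).p = w.p := by
    rcases hu1 with e | e <;> rw [e] <;> simp
  have hfix : fixCard w = Nc u1 := by
    refine Nat.card_congr (Equiv.subtypeEquivRight fun f => ?_)
    rw [hp1]
    exact ⟨fun h => ⟨(h i).symm, h⟩, And.right⟩
  rw [hfix, hNeq]
  have heiP : ∀ x, SP.e i ((ψ u1 : SP ι).p x) = SP.e i x := fun x => by
    simp only [SP.e_apply]
    exact if_congr ⟨fun h => (ψ u1 : SP ι).p.injective (h.trans hpi.symm), fun h => h ▸ hpi⟩ rfl rfl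
  have heiQ : ¬(SP.e i i = SP.e i j) := by simp [SP.e_apply, hij.symm]
  let F : {f : ι → ZMod 2 // f i = f j ∧ ∀ x, f ((ψ u1 : SP ι).p x) = f x} →
      {f : ι → ZMod 2 // ∀ x, f ((ψ u1 : SP ι).p x) = f x} := fun f => ⟨f.1, f.2.2⟩
  have hFinj : Function.Injective F := fun a b h => by
    have h1 : (F a).1 = (F b).1 := congrArg Subtype.val h
    exact Subtype.ext h1
  simp only [Nc, fixCard, Nat.card_eq_fintype_card]
  refine Fintype.card_lt_of_injective_of_notMem F hFinj (b := ⟨SP.e i, heiP⟩) ?_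
  rintro ⟨a, ha⟩
  have h1 : a.1 = SP.e i := congrArg Subtype.val ha
  exact heiQ (h1 ▸ a.2.1)

/-- Every involution among the signed permutations is conjugate into `E`. -/
theorem conj_into_E (hD : D.Good) (w : SP ι) (hw : w * w = 1) :
    ∃ f, IsConj (D.φ w) (D.vec f) := by
  classical
  induction hk : 2 ^ Fintype.card ι - fixCard w using Nat.strong_induction_on generalizing w with
  | _ k ih =>
  by_cases hp : w.p = 1
  · exact ⟨w.f, by rw [vec, ← SP.eq_ofF hp]⟩
  obtain ⟨i, hi⟩ : ∃ i, w.p i ≠ i := by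
    by_contra h
    simp only [not_exists, not_not] at h
    exact hp (Equiv.ext h)
  obtain ⟨hp2, hsym⟩ := (SP.sq_iff w).1 hw
  set j := w.p i with hj
  have hij : i ≠ j := Ne.symm hi
  have hji : w.p j = i := by simpa using Equiv.congr_fun hp2 i
  obtain ⟨l, hl⟩ := D.even_card
  rcases Nat.lt_or_ge (Fintype.card ι) 6 with h6 | h6
  · by_cases h4 : 4 ≤ Fintype.card ι
    · -- four points
      obtain ⟨ψ, hd, hfus⟩ := D.exists_aut hD hij h4
      obtain ⟨u1, -, hu12, hpi, hpj, hconj⟩ :=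
        D.exists_step hij ψ hd hfus w (mem_L_of_involution hw i) hw hj.symm
      set z : SP ι := (ψ u1 : SP ι) with hzdef
      have hz2 : z * z = 1 := by
        have h1 : u1 * u1 = 1 := Subtype.ext hu12
        exact congrArg Subtype.val ((map_mul ψ u1 u1).symm.trans ((congrArg ψ h1).trans (map_one ψ)))
      by_cases hzp : z.p = 1
      · exact ⟨z.f, by rw [vec, ← SP.eq_ofF hzp]; exact hconj⟩
      obtain ⟨x, hx⟩ : ∃ x, z.p x ≠ x := by
        by_contra h
        simp only [not_exists, not_not] at h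
        exact hzp (Equiv.ext h)
      obtain ⟨hzp2, hzsym⟩ := (SP.sq_iff z).1 hz2
      have hxi : x ≠ i := fun e => hx (by rw [e, hpi])
      have hxj : x ≠ j := fun e => hx (by rw [e, hpj])
      have hyi : z.p x ≠ i := fun e => hxi (z.p.injective (e.trans hpi.symm))
      have hyj : z.p x ≠ j := fun e => hxj (z.p.injective (e.trans hpj.symm))
      have huniv : ({i, j, x, z.p x} : Finset ι) = Finset.univ := by
        refine Finset.eq_univ_of_card _ ?_
        rw [Finset.card_insert_of_notMem (by simp [hij, hxi.symm, hyi.symm]),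
          Finset.card_insert_of_notMem (by simp [hxj.symm, hyj.symm]), Finset.card_pair hx.symm]
        omega
      have hmem : ∀ a, a = i ∨ a = j ∨ a = x ∨ a = z.p x := fun a => by
        have := Finset.mem_univ a
        rw [← huniv] at this
        simpa using this
      have hzswap : z.p = Equiv.swap x (z.p x) := eq_swap_of_moved _ _ hx fun a ha => by
        rcases hmem a with e | e | e | e
        · exact absurd (by rw [e, hpi]) ha
        · exact absurd (by rw [e, hpj]) ha
        · exact Or.inl e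
        · exact Or.inr e
      have hzij : z.f i = z.f j := (SP.mem_L hij (ψ u1).2).2
      obtain ⟨f, hf⟩ := D.conj_central hD h4 hx.symm z.f (hzsym x).symm (by
        intro a b ha ha' hb hb'
        rcases hmem a with e | e | e | e <;> rcases hmem b with e' | e' | e' | e'
        all_goals first
          | exact absurd e ha
          | exact absurd e ha'
          | exact absurd e' hb
          | exact absurd e' hb'
          | (subst e e'; first | rfl | exact hzij | exact hzij.symm)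
          | (rw [e, e'])
          | (rw [e, e', hzij]))
      exact ⟨f, hconj.trans (by
        have he : z = ⟨z.f, Equiv.swap x (z.p x)⟩ := SP.ext rfl hzswap
        rw [he]; exact hf)⟩
    · -- two points
      have hc2 : Fintype.card ι = 2 := by
        have h2 : ({i, j} : Finset ι).card ≤ Fintype.card ι := Finset.card_le_univ _
        rw [Finset.card_pair hij] at h2
        omega
      have huniv : ({i, j} : Finset ι) = Finset.univ :=
        Finset.eq_univ_of_card _ (by rw [Finset.card_pair hij, hc2])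
      have hmem : ∀ a, a = i ∨ a = j := fun a => by
        have := Finset.mem_univ a
        rw [← huniv] at this
        simpa using this
      obtain ⟨f, hfi, hfj, -, -, hconj⟩ := D.exists_partner hD hij
      have hwswap : w.p = Equiv.swap i j := eq_swap_of_moved _ _ hi fun a _ => hmem a
      refine ⟨1, IsConj.symm ?_⟩
      rw [D.vec_one]
      refine hconj.trans ?_
      have he : SP.ofF (w.f i • SP.e i) * (⟨f, Equiv.swap i j⟩ : SP ι) *
          (SP.ofF (w.f i • SP.e i))⁻¹ = w := by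
        rw [SP.conj_ofF']
        refine SP.ext (funext fun a => ?_) hwswap.symm
        have hwf : w.f j = w.f i := hsym i
        rcases hmem a with e | e <;> subst e <;>
          simp [hfi, hfj, SP.e_apply, hij, hij.symm, hwf]
      have h5 := D.isConj_vec_of_conj (SP.ofF (w.f i • SP.e i)) ⟨f, Equiv.swap i j⟩
      rwa [he] at h5
  · obtain ⟨w', hw', hconj, hlt⟩ := D.fixCard_lt hD h6 w hw hi
    have := fixCard_le w'
    obtain ⟨f, hf⟩ := ih _ (by omega) w' hw' rfl
    exact ⟨f, hconj.trans hf⟩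

end Setup

end CfsgLib.Involution.AltCentClasses
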