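import Cfsg.Agent.Lib.Involution.AltCentClasses.Centralizer
import Cfsg.Agent.Lib.Involution.AltCentClasses.Pairs

/-!
# Homomorphisms and normal abelian subgroups of involution centralizers of signed permutations
-/

set_option autoImplicit false

namespace CfsgLib.Involution.AltCentClasses

open Subgroup

namespace SP

variable {ι : Type*} [DecidableEq ι]

/-- The homomorphism telling whether the elements of a subgroup exchange two points. -/
def pairHom (K : Subgroup (SP ι)) {p q : ι} (hpq : p ≠ q)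
    (h : ∀ v ∈ K, v.p p = p ∨ v.p p = q) (h' : ∀ v ∈ K, v.p q = p ∨ v.p q = q) :
    K →* Multiplicative (ZMod 2) where
  toFun v := if v.1.p p = p then 1 else Multiplicative.ofAdd 1
  map_one' := by simp
  map_mul' a b := by
    have hb : ∀ v ∈ K, (v.p p = p ∧ v.p q = q) ∨ (v.p p = q ∧ v.p q = p) := by
      intro v hv
      rcases h v hv with h1 | h1 <;> rcases h' v hv with h2 | h2
      · exact absurd (v.p.injective (h1.trans h2.symm)) hpq
      · exact Or.inl ⟨h1, h2⟩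
      · exact Or.inr ⟨h1, h2⟩
      · exact absurd (v.p.injective (h1.trans h2.symm)) hpq
    simp only [Subgroup.coe_mul, mul_p, Equiv.Perm.mul_apply]
    rcases hb a.1 a.2 with ⟨a1, a2⟩ | ⟨a1, a2⟩ <;> rcases hb b.1 b.2 with ⟨b1, b2⟩ | ⟨b1, b2⟩ <;>
      simp [a1, a2, b1, hpq.symm] <;> decide

theorem pairHom_eq_one_iff (K : Subgroup (SP ι)) {p q : ι} (hpq : p ≠ q)
    (h : ∀ v ∈ K, v.p p = p ∨ v.p p = q) (h' : ∀ v ∈ K, v.p q = p ∨ v.p q = q) (v : K) :
    pairHom K hpq h h' v = 1 ↔ v.1.p p = p := by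
  show (if v.1.p p = p then (1 : Multiplicative (ZMod 2)) else Multiplicative.ofAdd 1) = 1 ↔ _
  split_ifs with hv
  · exact iff_of_true rfl hv
  · exact iff_of_false (by decide) hv

omit [DecidableEq ι] in
theorem hom_sum_even (K : Subgroup (SP ι)) (χ : K →* Multiplicative (ZMod 2)) {κ : Type*}
    [DecidableEq κ] (F : κ → ι → ZMod 2) (s : Finset κ) (hF : ∀ k ∈ s, ofF (F k) ∈ K)
    (hconj : ∀ k ∈ s, ∀ l ∈ s, ∃ v ∈ K, v * ofF (F k) * v⁻¹ = ofF (F l)) (hs : Even s.card)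
    (hmem : ofF (∑ k ∈ s, F k) ∈ K) : χ ⟨ofF (∑ k ∈ s, F k), hmem⟩ = 1 := by
  rcases s.eq_empty_or_nonempty with rfl | ⟨k0, hk0⟩
  · rw [show (⟨ofF (∑ k ∈ (∅ : Finset κ), F k), hmem⟩ : K) = 1 from
      Subtype.ext (by simp [ofF_zero]), map_one]
  set c := χ ⟨ofF (F k0), hF k0 hk0⟩ with hc
  have heq : ∀ l, ∀ hl : l ∈ s, χ ⟨ofF (F l), hF l hl⟩ = c := by
    intro l hl
    obtain ⟨v, hv, hvl⟩ := hconj k0 hk0 l hl
    have h1 : (⟨ofF (F l), hF l hl⟩ : K) = ⟨v, hv⟩ * ⟨ofF (F k0), hF k0 hk0⟩ * ⟨v, hv⟩⁻¹ :=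
      Subtype.ext hvl.symm
    rw [h1, map_mul, map_mul, map_inv, mul_comm (χ ⟨v, hv⟩), mul_inv_cancel_right]
  have key : ∀ u : Finset κ, u ⊆ s →
      ∃ hu : ofF (∑ k ∈ u, F k) ∈ K, χ ⟨ofF (∑ k ∈ u, F k), hu⟩ = c ^ u.card := by
    intro u
    induction u using Finset.induction with
    | empty =>
      intro _
      have he : ofF (∑ k ∈ (∅ : Finset κ), F k) = 1 := by simp [ofF_zero]
      have hu : ofF (∑ k ∈ (∅ : Finset κ), F k) ∈ K := by rw [he]; exact one_mem K
      refine ⟨hu, ?_⟩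
      exact (congrArg χ (Subtype.ext he : (⟨_, hu⟩ : K) = 1)).trans
        ((map_one χ).trans (by rw [Finset.card_empty, pow_zero]))
    | insert a u ha ih =>
      intro hau
      obtain ⟨hu, hχ⟩ := ih ((Finset.subset_insert a u).trans hau)
      have has : a ∈ s := hau (Finset.mem_insert_self a u)
      have he : ofF (∑ k ∈ insert a u, F k) = ofF (F a) * ofF (∑ k ∈ u, F k) := by
        rw [Finset.sum_insert ha, ofF_add]
      refine ⟨he ▸ mul_mem (hF a has) hu, ?_⟩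
      rw [show (⟨ofF (∑ k ∈ insert a u, F k), _⟩ : K) = ⟨ofF (F a), hF a has⟩ * ⟨_, hu⟩ from
        Subtype.ext he, map_mul, hχ, heq a has, Finset.card_insert_of_notMem ha, pow_succ']
  obtain ⟨hu, hχ⟩ := key s fun _ h => h
  rw [hχ]
  obtain ⟨l, hl⟩ := hs
  have h2 : ∀ z : Multiplicative (ZMod 2), z * z = 1 := by decide
  rw [hl, pow_add, h2]

variable [Fintype ι]

/-- An involution is conjugate to one whose signs vanish on the moved points. -/
theorem exists_normal_form (w : SP ι) (hw : w * w = 1) :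
    ∃ v : SP ι, ∀ i, (v * w * v⁻¹).p i ≠ i → (v * w * v⁻¹).f i = 0 := by
  obtain ⟨hp, hsym⟩ := (sq_iff w).1 hw
  have hinv : w.p⁻¹ = w.p := inv_eq_of_mul_eq_one_right hp
  set N := Fintype.equivFin ι
  refine ⟨ofF fun i => if N i < N (w.p i) then w.f i else 0, fun i hi => ?_⟩
  rw [conj_ofF'] at hi ⊢
  show (if N i < N (w.p i) then w.f i else 0) + w.f i +
    (if N (w.p⁻¹ i) < N (w.p (w.p⁻¹ i)) then w.f (w.p⁻¹ i) else 0) = 0
  rw [hinv, hsym, show w.p (w.p i) = i from by simpa using Equiv.congr_fun hp i]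
  rcases lt_trichotomy (N i) (N (w.p i)) with h | h | h
  · rw [if_pos h, if_neg (lt_asymm h), add_zero, zmod2_add_self]
  · exact absurd (N.injective h).symm hi
  · rw [if_neg (lt_asymm h), if_pos h, zero_add, zmod2_add_self]

variable {w : SP ι} {a b c : ℕ}

omit [Fintype ι] [DecidableEq ι] in
/-- Permutations of the labels of a normal form commute with it. -/
theorem Std.exists_move (S : Std w a b c) (hnf : ∀ i, w.p i ≠ i → w.f i = 0)
    (α : Equiv.Perm (Fin a)) :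
    ∃ v, Commute v w ∧ v.f = 0 ∧ ∀ x z, v.p (S.E (Sum.inl (x, z))) = S.E (Sum.inl (α x, z)) := by
  let τ : Equiv.Perm ι := S.E.permCongr
    (Equiv.sumCongr (Equiv.prodCongr α (Equiv.refl _)) (Equiv.refl _))
  have h1 : ∀ x z, τ (S.E (Sum.inl (x, z))) = S.E (Sum.inl (α x, z)) := fun x z => by simp [τ]
  have h2 : ∀ y, τ (S.E (Sum.inr y)) = S.E (Sum.inr y) := fun y => by simp [τ]
  refine ⟨ofP τ, ((commute_ofP_iff w τ).2 ⟨Equiv.ext fun i => ?_, fun i => ?_⟩).symm, rfl, h1⟩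
  · obtain ⟨q, rfl⟩ := S.E.surjective i
    rcases q with ⟨x, z⟩ | y
    · rw [Equiv.Perm.mul_apply, Equiv.Perm.mul_apply, h1, S.pair, S.pair, h1]
    · rw [Equiv.Perm.mul_apply, Equiv.Perm.mul_apply, h2, S.fix, h2]
  · obtain ⟨q, rfl⟩ := S.E.surjective i
    rcases q with ⟨x, z⟩ | y
    · rw [h1, hnf _ (S.ne _ _), hnf _ (S.ne _ _)]
    · rw [h2]

omit [Fintype ι] [DecidableEq ι] in
theorem commute_fixed {v : SP ι} (hv : Commute v w) {x : ι} (hx : w.p x = x) :
    w.p (v.p x) = v.p x ∧ w.f (v.p x) = w.f x := by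
  obtain ⟨hp, hf⟩ := (commute_iff v w).1 hv
  have h1 : w.p (v.p x) = v.p x := by
    have := Equiv.congr_fun hp x
    simp only [Equiv.Perm.mul_apply, hx] at this
    exact this.symm
  refine ⟨h1, ?_⟩
  have := hf (v.p x)
  rw [Equiv.Perm.inv_eq_iff_eq.2 h1.symm, Equiv.Perm.inv_eq_iff_eq.2 rfl,
    add_comm (w.f (v.p x))] at this
  exact (add_left_cancel this).symm

omit [Fintype ι] in
theorem ofF_e_commute {x : ι} (hx : w.p x = x) : Commute w (ofF (e x)) := by
  refine (commute_ofF_iff w _).2 fun i => ?_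
  simp only [e_apply]
  exact if_congr ⟨fun h => w.p.injective (h.trans hx.symm), fun h => by rw [h, hx]⟩ rfl rfl

omit [Fintype ι] in
theorem swap_commute {x y : ι} (hx : w.p x = x) (hy : w.p y = y) (hxy : w.f x = w.f y) :
    Commute w (ofP (Equiv.swap x y)) := by
  refine (commute_ofP_iff w _).2 ⟨by rw [Equiv.mul_swap_eq_swap_mul, hx, hy], fun i => ?_⟩
  by_cases h1 : i = x
  · rw [h1, Equiv.swap_apply_left, hxy]
  by_cases h2 : i = y
  · rw [h2, Equiv.swap_apply_right, hxy]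
  rw [Equiv.swap_apply_of_ne_of_ne h1 h2]

omit [Fintype ι] in
/-- In a normal abelian subgroup of the centralizer, a moved fixed point lies in a part of size two. -/
theorem normal_abelian_part (A : Subgroup (SP ι))
    (hn : ∀ v, Commute v w → ∀ a ∈ A, v * a * v⁻¹ ∈ A) (hab : ∀ a ∈ A, ∀ a' ∈ A, Commute a a')
    {a : SP ι} (ha : a ∈ A) (haw : Commute a w) {x : ι} (hx : w.p x = x) (hax : a.p x ≠ x) :
    ∀ z, w.p z = z → w.f z = w.f x → z = x ∨ z = a.p x := by
  intro z hz hzx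
  by_contra hcon
  simp only [not_or] at hcon
  obtain ⟨hy, hyx⟩ := commute_fixed haw hx
  have hswap := swap_commute hy hz (hyx.trans hzx.symm)
  have h1 : ofF (e x + e (a.p x)) ∈ A := by
    have h2 : ofF (e x) * a * (ofF (e x))⁻¹ * a⁻¹ ∈ A :=
      mul_mem (hn _ (ofF_e_commute hx).symm a ha) (inv_mem ha)
    have h3 : a * ofF (e x) * a⁻¹ = ofF (e (a.p x)) := conj_ofF_e a x
    rwa [mul_assoc (ofF (e x)), mul_assoc (ofF (e x)), ofF_inv, h3, ← ofF_add] at h2
  have h4 : ofF (e x + e z) ∈ A := by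
    have h2 := hn _ hswap.symm _ h1
    rw [ofF_add, ← conj_mul, conj_ofF_e, conj_ofF_e, ofP_p,
      Equiv.swap_apply_of_ne_of_ne hax.symm (Ne.symm hcon.1), Equiv.swap_apply_left, ← ofF_add] at h2
    exact h2
  have h5 := (commute_ofF_iff a _).1 (hab a ha _ h4) x
  simp only [Pi.add_apply, e_apply] at h5
  rw [if_neg hax, if_neg (Ne.symm hcon.2), if_neg (Ne.symm hcon.1)] at h5
  simp at h5

end SP

end CfsgLib.Involution.AltCentClasses
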